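import Groth.Agent.GRing17.Complete
import Groth.Agent.S4704
import Groth.Agent.S9259
import Groth.Agent.S9294
import Groth.Agent.PP16Lib.GeomRegLocal

/-!
# G-rings are detected at maximal ideals
-/

universe u

open TensorProduct IsLocalRing

namespace Groth.Agent.GRing17

/-- Localizations are regular maps. -/
theorem isRegularHom_of_isLocalization {R S : Type u} [CommRing R] [CommRing S] [Algebra R S]
    (M : Submonoid R) [IsLocalization M S] : CAlg.IsRegularHom R S := by
  refine ⟨IsLocalization.flat S M, fun p _ => ?_⟩
  have hg : CAlg.IsGeometricallyRegular p.ResidueField (p.Fiber S) := fun k' _ _ _ => by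
    let : Algebra R k' := ((algebraMap p.ResidueField k').comp (algebraMap R p.ResidueField)).toAlgebra
    have : IsScalarTower R p.ResidueField k' := .of_algebraMap_eq fun _ => rfl
    refine FlatAscent.isRegularRing_transport
      (Algebra.TensorProduct.cancelBaseChange R p.ResidueField p.ResidueField k' S).symm.toRingEquiv ?_
    have : IsLocalization (Algebra.algebraMapSubmonoid k' M) (k' ⊗[R] S) := inferInstance
    exact PP16Lib.isRegularRing_of_isLocalization (Algebra.algebraMapSubmonoid k' M)
  exact ⟨FlatAscent.isNoetherianRing_of_geometricallyRegular hg, hg⟩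

/-- If the completion of a local ring `R_m` is regular over it, so are those of `R_p` for `p ⊆ m`. -/
theorem isRegularHom_cpl_of_le {R : Type u} [CommRing R] [IsNoetherianRing R] (m : Ideal R) [m.IsPrime]
    (hm : CAlg.IsRegularHom (Localization.AtPrime m) (EGA4.Cpl (Localization.AtPrime m)))
    (p : Ideal R) [hp : p.IsPrime] (hpm : p ≤ m) :
    CAlg.IsRegularHom (Localization.AtPrime p) (EGA4.Cpl (Localization.AtPrime p)) := by
  let A := Localization.AtPrime m
  let Ah := EGA4.Cpl A
  have : IsNoetherianRing Ah := CohenStruct.isNoetherianRing_completion A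
  have hA : CAlg.IsGRing Ah := isGRing_of_complete
  have hloc : CAlg.IsRegularHom R A := isRegularHom_of_isLocalization m.primeCompl
  have hRA : CAlg.IsRegularHom R Ah := S9294.result R A Ah hloc hm fun q _ => by
    have := Algebra.EssFiniteType.isNoetherianRing Ah (Ah ⊗[R] q.ResidueField)
    exact isNoetherianRing_of_ringEquiv (Ah ⊗[R] q.ResidueField)
      (Algebra.TensorProduct.comm R Ah q.ResidueField).toRingEquiv
  have hdis : Disjoint (m.primeCompl : Set R) p := Set.disjoint_left.mpr fun x hx hx' => hx (hpm hx')
  have hp'prime := IsLocalization.isPrime_of_isPrime_disjoint m.primeCompl A p hp hdis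
  have : Module.FaithfullyFlat A Ah := Module.FaithfullyFlat.of_flat_of_isLocalHom
  obtain ⟨⟨P, hP⟩, hPp⟩ := PrimeSpectrum.comap_surjective_of_faithfullyFlat (A := A) (B := Ah)
    ⟨p.map (algebraMap R A), hp'prime⟩
  have hPR : P.comap (algebraMap R Ah) = p := by
    rw [IsScalarTower.algebraMap_eq R A Ah, ← Ideal.comap_comap,
      show P.comap (algebraMap A Ah) = p.map (algebraMap R A) from congrArg PrimeSpectrum.asIdeal hPp]
    exact IsLocalization.under_map_of_isPrime_disjoint m.primeCompl A hp hdis
  subst hPR
  let : Algebra (Localization.AtPrime (P.comap (algebraMap R Ah))) (Localization.AtPrime P) :=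
    (Localization.localRingHom (P.comap (algebraMap R Ah)) P (algebraMap R Ah) rfl).toAlgebra
  have : IsLocalHom (algebraMap (Localization.AtPrime (P.comap (algebraMap R Ah))) (Localization.AtPrime P)) :=
    Localization.isLocalHom_localRingHom _ _ _ _
  exact S4704.result (Localization.AtPrime (P.comap (algebraMap R Ah))) (Localization.AtPrime P)
    (S9259.local_of_regular hRA P) (hA.2 P)

end Groth.Agent.GRing17
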