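import Groth.Agent.FlatAscent.IadicFibre
import Groth.Agent.FormalFibre.Completion
import Groth.Agent.CplFinite.Basic
import Mathlib.RingTheory.Localization.BaseChange
import Mathlib.RingTheory.Localization.LocalizationLocalization

/-!
# The completion at a prime of a finite algebra as a flat quotient of a base change
-/

universe u

open TensorProduct IsLocalRing

namespace Groth.Agent.GRing17

/-- Completions of isomorphic local algebras. -/
theorem exists_cpl_congr {A R R' : Type u} [CommRing A] [CommRing R] [CommRing R'] [IsLocalRing R]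
    [IsLocalRing R'] [Algebra A R] [Algebra A R'] (e : R ≃ₐ[A] R') :
    Nonempty (EGA4.Cpl R ≃ₐ[A] EGA4.Cpl R') := by
  have hm : (maximalIdeal R).map e.toRingEquiv = maximalIdeal R' :=
    IsLocalRing.eq_maximalIdeal (Ideal.map_isMaximal_of_equiv e.toRingEquiv)
  let θ : ∀ k, R ⧸ maximalIdeal R ^ k ≃+* R' ⧸ maximalIdeal R' ^ k := fun k =>
    Ideal.quotientEquiv _ _ e.toRingEquiv (by rw [← hm, ← Ideal.map_pow]; rfl)
  obtain ⟨ε, hε⟩ := FlatAscent.Iadic.exists_completion_equiv (maximalIdeal R) (maximalIdeal R')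
    e.toRingEquiv.toRingHom θ fun k c => Ideal.quotientEquiv_mk _ _ _ _ c
  refine ⟨AlgEquiv.ofRingEquiv (f := ε) fun a => ?_⟩
  rw [IsScalarTower.algebraMap_apply A R (EGA4.Cpl R), hε, IsScalarTower.algebraMap_apply A R' (EGA4.Cpl R')]
  exact congrArg _ (e.commutes a)

theorem algebraMap_cpl_atPrime_mem_iff {C : Type u} [CommRing C] [IsNoetherianRing C] (m : Ideal C) [m.IsPrime]
    (x : C) :
    algebraMap C (EGA4.Cpl (Localization.AtPrime m)) x ∈ maximalIdeal (EGA4.Cpl (Localization.AtPrime m)) ↔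
      x ∈ m := by
  rw [IsScalarTower.algebraMap_apply C (Localization.AtPrime m) (EGA4.Cpl (Localization.AtPrime m))]
  conv_rhs => rw [← IsLocalization.AtPrime.to_map_mem_maximal_iff (Localization.AtPrime m) m x]
  rw [mem_maximalIdeal, mem_maximalIdeal, mem_nonunits_iff, mem_nonunits_iff, not_iff_not]
  exact ⟨fun h => isUnit_of_map_unit _ _ h, fun h => h.map _⟩

/-- `A' ⊗[P] Q → (P₀ ⊗[P] A') ⊗[P₀] Q` for a `P₀`-algebra `Q`. -/
theorem exists_baseChange_map (P P₀ A' Q : Type u) [CommRing P] [CommRing P₀] [CommRing A'] [CommRing Q]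
    [Algebra P P₀] [Algebra P A'] [Algebra P₀ Q] [Algebra P Q] [IsScalarTower P P₀ Q] :
    ∃ g : A' ⊗[P] Q →+* (P₀ ⊗[P] A') ⊗[P₀] Q, Function.Bijective g ∧ g.Flat ∧
      ∀ a : A', g (a ⊗ₜ 1) = (1 ⊗ₜ a) ⊗ₜ 1 := by
  let e : A' ⊗[P] Q ≃+* (P₀ ⊗[P] A') ⊗[P₀] Q := ((Algebra.TensorProduct.comm P A' Q).toRingEquiv.trans
    (Algebra.TensorProduct.cancelBaseChange P P₀ P₀ Q A').symm.toRingEquiv).trans
      (Algebra.TensorProduct.comm P₀ Q (P₀ ⊗[P] A')).toRingEquiv
  exact ⟨e, e.bijective, RingHom.Flat.of_bijective e.bijective, fun a => by simp [e]⟩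

/-- For a finite `P`-algebra `A'` and a prime `n` over `P'` the completion `Â'_n` is a flat quotient of
`A' ⊗ P̂_{P'}`. -/
theorem exists_flat_surjective {P A' : Type u} [CommRing P] [IsNoetherianRing P] [CommRing A'] [Algebra P A']
    [Module.Finite P A'] (n : Ideal A') [n.IsPrime] :
    ∃ φ : A' ⊗[P] EGA4.Cpl (Localization.AtPrime (n.comap (algebraMap P A'))) →ₐ[A']
        EGA4.Cpl (Localization.AtPrime n),
      φ.toRingHom.Flat ∧ Function.Surjective φ := by
  classical
  let P' := n.comap (algebraMap P A')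
  let P₀ := Localization.AtPrime P'
  let Ĉ := EGA4.Cpl P₀
  let C := P₀ ⊗[P] A'
  have : IsNoetherianRing C := IsNoetherianRing.of_finite P₀ C
  let : Algebra A' C := Algebra.TensorProduct.rightAlgebra
  have : IsLocalization (Algebra.algebraMapSubmonoid A' P'.primeCompl) C := inferInstance
  have hdisj : Disjoint (Algebra.algebraMapSubmonoid A' P'.primeCompl : Set A') n := by
    refine Set.disjoint_left.mpr ?_
    rintro _ ⟨x, hx, rfl⟩ h
    exact hx h
  let m := n.map (algebraMap A' C)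
  have hmprime : m.IsPrime :=
    IsLocalization.isPrime_of_isPrime_disjoint (Algebra.algebraMapSubmonoid A' P'.primeCompl) C n ‹_› hdisj
  have hmn : m.comap (algebraMap A' C) = n :=
    IsLocalization.under_map_of_isPrime_disjoint (Algebra.algebraMapSubmonoid A' P'.primeCompl) C ‹_› hdisj
  have hmax : m.IsMaximal := by
    refine Ideal.isMaximal_of_isIntegral_of_isMaximal_comap (R := P₀) m ?_
    have h1 : (m.comap (algebraMap P₀ C)).comap (algebraMap P P₀) = P' := by
      rw [Ideal.comap_comap, ← IsScalarTower.algebraMap_eq P P₀ C]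
      show m.comap (algebraMap P C) = (n.comap (algebraMap P A'))
      rw [IsScalarTower.algebraMap_eq P A' C, ← Ideal.comap_comap, hmn]
    have h2 : m.comap (algebraMap P₀ C) = maximalIdeal P₀ := by
      rw [← IsLocalization.map_under P'.primeCompl P₀ (m.comap (algebraMap P₀ C))]
      exact (congrArg (Ideal.map (algebraMap P P₀)) h1).trans Localization.AtPrime.map_eq_maximalIdeal
    rw [h2]
    exact maximalIdeal.isMaximal P₀
  -- the semilocal completion
  let J : Ideal C := Ideal.jacobson ⊥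
  let Jh := AdicCompletion J C
  let e : C ⊗[P₀] Ĉ ≃+* Jh := RingEquiv.ofBijective _ (FormalFibre.toJacobson_bijective P₀ C)
  let c : Ĉ ⊗[P₀] C →+* C ⊗[P₀] Ĉ := (Algebra.TensorProduct.comm P₀ Ĉ C).toAlgHom.toRingHom
  have hc : Function.Bijective c := (Algebra.TensorProduct.comm P₀ Ĉ C).bijective
  let η : Ĉ ⊗[P₀] C →+* Jh := (FormalFibre.toJacobson P₀ C).comp c
  have hη : Function.Bijective η := (FormalFibre.toJacobson_bijective P₀ C).comp hc
  let : Algebra Ĉ Jh := (η.comp Algebra.TensorProduct.includeLeftRingHom).toAlgebra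
  have : Module.Finite Ĉ Jh :=
    Module.Finite.equiv (AlgEquiv.ofBijective
      ({ toRingHom := η, commutes' := fun _ => rfl } : Ĉ ⊗[P₀] C →ₐ[Ĉ] Jh) hη).toLinearEquiv
  have : IsNoetherianRing Ĉ := CohenStruct.isNoetherianRing_completion P₀
  have : IsNoetherianRing Jh := IsNoetherianRing.of_finite Ĉ Jh
  obtain ⟨-, hbij, hloc⟩ := CplFinite.main Ĉ Jh
  -- a maximal ideal over `m`
  have hJm : J ≤ m := sInf_le ⟨bot_le, hmax⟩
  let π : Jh →+* C ⧸ m := (Ideal.Quotient.factor hJm).comp (AdicCompletion.evalOneₐ J).toRingHom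
  have hπC : ∀ x, π (algebraMap C Jh x) = Ideal.Quotient.mk m x := fun x => by
    show Ideal.Quotient.factor hJm (AdicCompletion.evalOneₐ J (algebraMap C Jh x)) = _
    rw [AlgHom.commutes]
    rfl
  let nh := RingHom.ker π
  have hnh : nh.IsMaximal := by
    let := Ideal.Quotient.field m
    refine RingHom.ker_isMaximal_of_surjective _ fun y => ?_
    obtain ⟨x, rfl⟩ := Ideal.Quotient.mk_surjective y
    exact ⟨algebraMap C Jh x, hπC x⟩
  let T := Localization.AtPrime nh
  obtain ⟨hTN, hTc⟩ := hloc ⟨nh, hnh⟩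
  have hTsurj : Function.Surjective (algebraMap Jh T) := fun y => by
    obtain ⟨x, hx⟩ := hbij.2 (Pi.single (⟨nh, hnh⟩ : MaximalSpectrum Jh) y)
    refine ⟨x, ?_⟩
    have := congrFun hx ⟨nh, hnh⟩
    rwa [Pi.single_eq_same] at this
  have := hTc
  have hcsurj : Function.Surjective (algebraMap Jh (EGA4.Cpl T)) := fun y => by
    obtain ⟨t, ht⟩ := AdicCompletion.of_surjective (maximalIdeal T) T y
    obtain ⟨x, rfl⟩ := hTsurj t
    exact ⟨x, ht⟩
  have hcflat : (algebraMap Jh (EGA4.Cpl T)).Flat := by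
    rw [RingHom.flat_algebraMap_iff]
    have : Module.Flat T (EGA4.Cpl T) := AdicCompletion.flat_of_isNoetherian (maximalIdeal T)
    exact Module.Flat.trans Jh T (EGA4.Cpl T)
  obtain ⟨m', hm', -, ⟨ε⟩⟩ := FlatAscent.Iadic.exists_local_completion J nh
  have hm'eq : m' = m := by
    refine Ideal.ext fun x => ?_
    rw [← algebraMap_cpl_atPrime_mem_iff m' x]
    have h1 : algebraMap C (EGA4.Cpl (Localization.AtPrime nh)) x =
        algebraMap Jh (EGA4.Cpl (Localization.AtPrime nh)) (algebraMap C Jh x) :=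
      IsScalarTower.algebraMap_apply C Jh _ x
    rw [← ε.symm.commutes x, mem_maximalIdeal, mem_nonunits_iff, MulEquiv.isUnit_map, h1,
      ← mem_nonunits_iff, ← mem_maximalIdeal, algebraMap_cpl_atPrime_mem_iff nh, RingHom.mem_ker, hπC,
      Ideal.Quotient.eq_zero_iff_mem]
  subst hm'eq
  -- `C_m = A'_n`
  let Cm := Localization.AtPrime m
  have hCm : IsLocalization.AtPrime Cm n := by
    have := IsLocalization.isLocalization_isLocalization_atPrime_isLocalization
      (Algebra.algebraMapSubmonoid A' P'.primeCompl) Cm m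
    convert! this using 1
    exact hmn.symm
  obtain ⟨ε'⟩ := exists_cpl_congr (A := A') (R := Cm) (R' := Localization.AtPrime n) (IsLocalization.algEquiv n.primeCompl Cm (Localization.AtPrime n))
  obtain ⟨g, hgb, hgf, hg⟩ := exists_baseChange_map P P₀ A' Ĉ
  let ψ : A' ⊗[P] Ĉ →+* EGA4.Cpl (Localization.AtPrime n) :=
    ε'.toRingEquiv.toRingHom.comp (ε.symm.toRingEquiv.toRingHom.comp
      ((algebraMap Jh (EGA4.Cpl T)).comp ((FormalFibre.toJacobson P₀ C).comp g)))
  have hψ : ∀ a, ψ (a ⊗ₜ 1) = algebraMap A' _ a := fun a => by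
    have h0 : g (a ⊗ₜ 1) = algebraMap A' C a ⊗ₜ 1 := by
      rw [hg]; rfl
    have h1 : e (algebraMap A' C a ⊗ₜ 1) = algebraMap C Jh (algebraMap A' C a) := by
      refine AdicCompletion.ext_evalₐ fun k => ?_
      show AdicCompletion.evalₐ _ k (FormalFibre.toJacobson P₀ C _) = _
      rw [FormalFibre.evalₐ_toJacobson, AlgHom.commutes]
      exact FormalFibre.jLevel_eq P₀ C k _ _
        ((FormalFibre.evalLevel_tmul P₀ C k _ 1 1 (by rw [map_one, map_one])).trans (by rw [map_one, mul_one]))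
    show ε' (ε.symm (algebraMap Jh (EGA4.Cpl T) (e (g (a ⊗ₜ 1))))) = _
    rw [h0, h1, ← IsScalarTower.algebraMap_apply C Jh (EGA4.Cpl T), ε.symm.commutes,
      ← IsScalarTower.algebraMap_apply A' C, ε'.commutes]
  have f₃ : (FormalFibre.toJacobson P₀ C).Flat :=
    RingHom.Flat.of_bijective (FormalFibre.toJacobson_bijective P₀ C)
  have f₄ : ε.symm.toRingEquiv.toRingHom.Flat := RingHom.Flat.of_bijective ε.symm.bijective
  have f₅ : ε'.toRingEquiv.toRingHom.Flat := RingHom.Flat.of_bijective ε'.bijective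
  have hφflat : ψ.Flat := (((hgf.comp f₃).comp hcflat).comp f₄).comp f₅
  have hψs : Function.Surjective ψ :=
    ε'.surjective.comp (ε.symm.surjective.comp (hcsurj.comp ((FormalFibre.toJacobson_bijective P₀ C).2.comp hgb.2)))
  exact ⟨{ toRingHom := ψ, commutes' := hψ }, hφflat, hψs⟩

end Groth.Agent.GRing17
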