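import Groth.Agent.GRing17.PowerSeries
import Groth.Agent.GRing17.Semilocal
import Groth.Agent.FlatAscent.QuotientFibre
import Groth.Agent.CohenStruct.Structure
import Groth.Agent.AdicLim.Noetherian
import Mathlib.RingTheory.RingHom.Flat

/-!
# Complete local rings have regular formal fibres
-/

universe u

open TensorProduct IsLocalRing

-- use the canonical `ℤ`-algebra structure
attribute [local instance 10000] Ring.toIntAlgebra

namespace Groth.Agent.GRing17

/-- A field finite over the fraction field of a domain finite over `P` is finite over `Frac P`. -/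
theorem finite_over_fraction {P A K F L : Type u} [CommRing P] [CommRing A] [Field K] [Field F] [Field L]
    [Algebra P F] [Algebra P A] [Module.Finite P A] [Algebra F L] [Algebra P L] [IsScalarTower P F L]
    [Algebra A K] [Algebra K L] [Algebra A L] [IsScalarTower A K L] [IsScalarTower P A L]
    (hK : ∀ x : K, ∃ a s : A, x = algebraMap A K a / algebraMap A K s) [Module.Finite K L] :
    Module.Finite F L := by
  classical
  obtain ⟨t, ht⟩ := Module.Finite.fg_top (R := P) (M := A)
  obtain ⟨l, hl⟩ := Module.Finite.fg_top (R := K) (M := L)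
  let g : Set L := algebraMap A L '' t
  have hgfin : g.Finite := t.finite_toSet.image _
  let S := Algebra.adjoin F g
  have hA : ∀ a : A, algebraMap A L a ∈ S := by
    intro a
    have ha : a ∈ Submodule.span P (t : Set A) := ht.ge Submodule.mem_top
    induction ha using Submodule.span_induction with
    | mem x hx => exact Algebra.subset_adjoin ⟨x, hx, rfl⟩
    | zero => rw [map_zero]; exact zero_mem _
    | add x y _ _ hx hy => rw [map_add]; exact add_mem hx hy
    | smul r x _ hx =>
      rw [Algebra.smul_def, map_mul, ← IsScalarTower.algebraMap_apply P A L,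
        IsScalarTower.algebraMap_apply P F L]
      exact mul_mem (S.algebraMap_mem _) hx
  have hint : ∀ x ∈ g, IsIntegral F x := by
    rintro _ ⟨a, -, rfl⟩
    obtain ⟨f, hfm, hfa⟩ := Algebra.IsIntegral.isIntegral (R := P) a
    refine ⟨f.map (algebraMap P F), hfm.map _, ?_⟩
    rw [Polynomial.eval₂_map, ← IsScalarTower.algebraMap_eq P F L, IsScalarTower.algebraMap_eq P A L,
      ← Polynomial.hom_eval₂, hfa, map_zero]
  have hSfg : S.toSubmodule.FG := fg_adjoin_of_finite hgfin hint
  have : Module.Finite F S := Module.Finite.iff_fg.mpr hSfg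
  have : Algebra.IsIntegral F S := Algebra.IsIntegral.of_finite F S
  have hfield : ∀ x ∈ S, x⁻¹ ∈ S := fun x hx => Algebra.IsIntegral.inv_mem hx
  have hK' : ∀ c : K, algebraMap K L c ∈ S := fun c => by
    obtain ⟨a, s, rfl⟩ := hK c
    rw [map_div₀, ← IsScalarTower.algebraMap_apply, ← IsScalarTower.algebraMap_apply, div_eq_mul_inv]
    exact mul_mem (hA a) (hfield _ (hA s))
  obtain ⟨u, hu⟩ := hSfg
  refine ⟨⟨Finset.image₂ (· * ·) u l, ?_⟩⟩
  rw [Finset.coe_image₂, eq_top_iff, Set.image2_mul, ← Submodule.span_mul_span]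
  have key : ∀ x ∈ Submodule.span K (l : Set L), x ∈ Submodule.span F (u : Set L) * Submodule.span F (l : Set L) := by
    intro x hx
    induction hx using Submodule.span_induction with
    | mem y hy =>
      rw [← one_mul y]
      exact Submodule.mul_mem_mul (hu.ge (one_mem S)) (Submodule.subset_span hy)
    | zero => exact zero_mem _
    | add y z _ _ hy hz => exact add_mem hy hz
    | smul c y _ hy =>
      have hmul : Submodule.span F (u : Set L) * (Submodule.span F (u : Set L) * Submodule.span F (l : Set L)) ≤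
          Submodule.span F (u : Set L) * Submodule.span F (l : Set L) := by
        rw [← mul_assoc, hu]
        exact mul_le_mul' (Submodule.mul_le.mpr fun a ha b hb => S.mul_mem ha hb) le_rfl
      rw [Algebra.smul_def]
      exact hmul (Submodule.mul_mem_mul (hu.ge (hK' c)) hy)
  exact fun x _ => key x (hl.ge Submodule.mem_top)

/-- Regularity descends along a flat surjection after tensoring. -/
theorem isRegularRing_descend {P A' L C D : Type u} [CommRing P] [CommRing A'] [CommRing L] [CommRing C]
    [CommRing D] [Algebra P A'] [Algebra A' L] [Algebra P L] [IsScalarTower P A' L] [Algebra P C] [Algebra A' D]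
    (φ : A' ⊗[P] C →ₐ[A'] D) (hf : φ.toRingHom.Flat) (hs : Function.Surjective φ)
    (h : IsRegularRing (L ⊗[P] C)) : IsRegularRing (L ⊗[A'] D) := by
  let X := L ⊗[A'] (A' ⊗[P] C)
  let ψ := Algebra.TensorProduct.map (AlgHom.id A' L) φ
  have hid : (AlgHom.id A' L).toRingHom.Flat := RingHom.Flat.id L
  have hψf : ψ.toRingHom.Flat := RingHom.Flat.tensorProductMap hid hf
  let : Algebra X (L ⊗[A'] D) := ψ.toRingHom.toAlgebra
  have : Module.Flat X (L ⊗[A'] D) := hψf
  exact FlatAscent.isRegularRing_of_flat_surjective (R := X) (T := L ⊗[A'] D)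
    (TensorProduct.map_surjective Function.surjective_id hs)
    (FlatAscent.isRegularRing_transport (Algebra.TensorProduct.cancelBaseChange P A' A' L C).symm.toRingEquiv h)

/-- **Formal fibres of a complete local ring are geometrically regular.** -/
theorem isRegularRing_fibre_tensor {A : Type u} [CommRing A] [IsLocalRing A] [IsNoetherianRing A]
    [IsAdicComplete (maximalIdeal A) A] (p : Ideal A) [p.IsPrime]
    (q : Ideal (Localization.AtPrime p)) [q.IsPrime]
    (L : Type u) [Field L] [Algebra q.ResidueField L] [Module.Finite q.ResidueField L] :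
    IsRegularRing (L ⊗[q.ResidueField] q.Fiber (EGA4.Cpl (Localization.AtPrime p))) := by
  classical
  let Ap := Localization.AtPrime p
  let Ch := EGA4.Cpl Ap
  let : Algebra Ap L := ((algebraMap q.ResidueField L).comp (algebraMap Ap q.ResidueField)).toAlgebra
  have : IsScalarTower Ap q.ResidueField L := .of_algebraMap_eq fun _ => rfl
  refine FlatAscent.isRegularRing_transport
    (Algebra.TensorProduct.cancelBaseChange Ap q.ResidueField q.ResidueField L Ch).symm.toRingEquiv ?_
  -- the quotient domain
  let q₀ := q.comap (algebraMap A Ap)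
  have hq₀p : q₀ ≤ p := fun x hx => by
    by_contra h
    exact Ideal.IsPrime.ne_top ‹q.IsPrime› (q.eq_top_of_isUnit_mem hx (IsLocalization.map_units Ap (⟨x, h⟩ : p.primeCompl)))
  let A' := A ⧸ q₀
  have : IsDomain A' := Ideal.Quotient.isDomain q₀
  have : IsLocalRing A' := IsLocalRing.of_surjective' _ Ideal.Quotient.mk_surjective
  have : IsAdicComplete (maximalIdeal A') A' := by
    have hm : (maximalIdeal A).map (algebraMap A A') = maximalIdeal A' :=
      map_maximalIdeal_of_surjective _ Ideal.Quotient.mk_surjective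
    rw [← hm]
    exact AdicLim.isAdicComplete_quotient q₀
  let n := p.map (Ideal.Quotient.mk q₀)
  have hn : n.IsPrime := Ideal.map_isPrime_of_surjective Ideal.Quotient.mk_surjective (by rwa [Ideal.mk_ker])
  obtain ⟨Λ, _, r, f, hΛ, hinj, hfin, -⟩ := CohenStruct.exists_finite_injective A'
  let P := MvPowerSeries (Fin r) Λ
  let : Algebra P A' := f.toAlgebra
  have : Module.Finite P A' := hfin
  have : IsNoetherianRing P := by
    rcases hΛ with hF | hC
    · let := hF.toField; infer_instance
    · obtain ⟨hd, hdvr, -⟩ := hC; infer_instance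
  -- `A_p / q` as a localization of `A'`
  let I : Ideal Ap := q₀.map (algebraMap A Ap)
  have hI : I = q := IsLocalization.map_under p.primeCompl Ap q
  have hnc : n.comap (Ideal.Quotient.mk q₀) = p := by
    rw [Ideal.comap_map_of_surjective' _ Ideal.Quotient.mk_surjective, Ideal.mk_ker, sup_eq_left.mpr hq₀p]
  have hsub : Algebra.algebraMapSubmonoid A' p.primeCompl = n.primeCompl := by
    ext x
    refine ⟨?_, fun hx => ?_⟩
    · rintro ⟨a, ha, rfl⟩ h
      exact ha (hnc.le h)
    · obtain ⟨a, rfl⟩ := Ideal.Quotient.mk_surjective x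
      exact ⟨a, fun h => hx (Ideal.mem_map_of_mem _ h), rfl⟩
  have : IsLocalization n.primeCompl (Ap ⧸ I) := by
    have h0 : IsLocalization (Algebra.algebraMapSubmonoid A' p.primeCompl) (Ap ⧸ I) := inferInstance
    rwa [hsub] at h0
  have : Nontrivial (Ap ⧸ I) := Ideal.Quotient.nontrivial_iff.mpr (hI ▸ Ideal.IsPrime.ne_top ‹_›)
  have : IsLocalRing (Ap ⧸ I) := IsLocalRing.of_surjective' _ Ideal.Quotient.mk_surjective
  -- `L` as an algebra over everything
  let : Algebra (Ap ⧸ I) L := (Ideal.Quotient.lift I (algebraMap Ap L) fun x hx => by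
    show algebraMap q.ResidueField L (algebraMap Ap q.ResidueField x) = 0
    rw [Ideal.algebraMap_residueField_eq_zero.mpr (hI ▸ hx), map_zero]).toAlgebra
  have : IsScalarTower Ap (Ap ⧸ I) L := by exact IsScalarTower.of_algebraMap_eq (R := Ap) (S := (Ap ⧸ I)) (A := L) fun _ => rfl
  let : Algebra A' L := ((algebraMap (Ap ⧸ I) L).comp (algebraMap A' (Ap ⧸ I))).toAlgebra
  have : IsScalarTower A' (Ap ⧸ I) L := .of_algebraMap_eq fun _ => rfl
  let : Algebra P L := ((algebraMap A' L).comp (algebraMap P A')).toAlgebra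
  have : IsScalarTower P A' L := .of_algebraMap_eq fun _ => rfl
  have hA'L : ∀ a : A, algebraMap A' L (Ideal.Quotient.mk q₀ a) =
      algebraMap q.ResidueField L (algebraMap Ap q.ResidueField (algebraMap A Ap a)) := fun _ => rfl
  have hinjA : Function.Injective (algebraMap A' L) := by
    refine (injective_iff_map_eq_zero _).2 fun x hx => ?_
    obtain ⟨a, rfl⟩ := Ideal.Quotient.mk_surjective x
    rw [hA'L, map_eq_zero, Ideal.algebraMap_residueField_eq_zero] at hx
    exact Ideal.Quotient.eq_zero_iff_mem.mpr hx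
  have hinjP : Function.Injective (algebraMap P L) := hinjA.comp hinj
  -- the regular ring upstairs
  have hreg : IsRegularRing (L ⊗[P] EGA4.Cpl (Localization.AtPrime (n.comap (algebraMap P A')))) := by
    refine isRegularRing_finite_extension hΛ r _ L hinjP fun F _ _ _ _ hT => ?_
    have := hT
    let : Algebra A' q.ResidueField := (Ideal.Quotient.lift q₀
      ((algebraMap Ap q.ResidueField).comp (algebraMap A Ap))
      fun x hx => Ideal.algebraMap_residueField_eq_zero.mpr hx).toAlgebra
    have : IsScalarTower A' q.ResidueField L := .of_algebraMap_eq fun x => by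
      obtain ⟨a, rfl⟩ := Ideal.Quotient.mk_surjective x
      exact hA'L a
    refine finite_over_fraction (P := P) (A := A') (K := q.ResidueField) fun x => ?_
    obtain ⟨a, b, hb, rfl⟩ := IsFractionRing.div_surjective (Ap ⧸ q) x
    obtain ⟨a, rfl⟩ := Ideal.Quotient.mk_surjective a
    obtain ⟨b, rfl⟩ := Ideal.Quotient.mk_surjective b
    obtain ⟨a₁, s₁, rfl⟩ := IsLocalization.exists_mk'_eq p.primeCompl a
    obtain ⟨a₂, s₂, rfl⟩ := IsLocalization.exists_mk'_eq p.primeCompl b
    have hs : ∀ s : p.primeCompl, algebraMap Ap q.ResidueField (algebraMap A Ap s) ≠ 0 := fun s =>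
      ((IsLocalization.map_units Ap s).map (algebraMap Ap q.ResidueField)).ne_zero
    have hmk : ∀ (c : A) (s : p.primeCompl), algebraMap (Ap ⧸ q) q.ResidueField
        (Ideal.Quotient.mk q (IsLocalization.mk' Ap c s)) =
        algebraMap A' q.ResidueField (Ideal.Quotient.mk q₀ c) / algebraMap A' q.ResidueField (Ideal.Quotient.mk q₀ s) := by
      intro c s
      show algebraMap Ap q.ResidueField _ = algebraMap Ap q.ResidueField (algebraMap A Ap c) /
        algebraMap Ap q.ResidueField (algebraMap A Ap s)
      rw [eq_div_iff (hs s), ← map_mul, IsLocalization.mk'_spec]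
    refine ⟨Ideal.Quotient.mk q₀ (a₁ * s₂), Ideal.Quotient.mk q₀ (a₂ * s₁), ?_⟩
    rw [hmk, hmk, map_mul, map_mul, map_mul, map_mul, div_div_div_eq]
    ring
  -- descend
  obtain ⟨φ, hφf, hφs⟩ := exists_flat_surjective (P := P) n
  have hY := isRegularRing_descend (L := L) φ hφf hφs hreg
  obtain ⟨ε⟩ := FlatAscent.exists_quotient_cpl_equiv Ap I
  obtain ⟨ε'⟩ := exists_cpl_congr (A := A') (R := Localization.AtPrime n) (R' := (Ap ⧸ I))
    (IsLocalization.algEquiv n.primeCompl (Localization.AtPrime n) (Ap ⧸ I))
  have : CompatibleSMul A' (Ap ⧸ I) L (EGA4.Cpl (Ap ⧸ I)) := IsLocalization.tensorProduct_compatibleSMul n.primeCompl (Ap ⧸ I) _ _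
  have : IsScalarTower A' (Ap ⧸ I) (EGA4.Cpl (Ap ⧸ I)) := inferInstance
  have : IsScalarTower (Ap ⧸ I) (Ap ⧸ I) L := by exact IsScalarTower.of_algebraMap_eq (R := Ap ⧸ I) (S := Ap ⧸ I) (A := L) fun _ => rfl
  let e : L ⊗[A'] EGA4.Cpl (Localization.AtPrime n) ≃+* L ⊗[Ap] Ch :=
    (Algebra.TensorProduct.congr (AlgEquiv.refl (R := A') (A₁ := L)) ε').toRingEquiv.trans
      ((Algebra.TensorProduct.equivOfCompatibleSMul A' (Ap ⧸ I) L L (EGA4.Cpl (Ap ⧸ I))).symm.toRingEquiv.trans
        ((Algebra.TensorProduct.congr (AlgEquiv.refl (R := (Ap ⧸ I)) (A₁ := L)) ε).symm.toRingEquiv.trans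
          (Algebra.TensorProduct.cancelBaseChange Ap (Ap ⧸ I) (Ap ⧸ I) L Ch).toRingEquiv))
  exact FlatAscent.isRegularRing_transport e hY

/-- A complete Noetherian local ring is a G-ring. -/
theorem isGRing_of_complete {A : Type u} [CommRing A] [IsLocalRing A] [IsNoetherianRing A]
    [IsAdicComplete (maximalIdeal A) A] : CAlg.IsGRing A := by
  refine ⟨inferInstance, fun p _ => ⟨AdicCompletion.flat_of_isNoetherian _, fun q _ => ?_⟩⟩
  have hg : CAlg.IsGeometricallyRegular q.ResidueField (q.Fiber (EGA4.Cpl (Localization.AtPrime p))) :=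
    fun L _ _ hL => isRegularRing_fibre_tensor p q L
  exact ⟨FlatAscent.isNoetherianRing_of_geometricallyRegular hg, hg⟩

end Groth.Agent.GRing17
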