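import Groth.Agent.GRing17.Polynomial
import Groth.Agent.GRing17.Maximal
import Groth.Agent.FlatAscent.QuotientFibre

/-!
# Algebras of finite type over G-rings are G-rings
-/

universe u

open TensorProduct IsLocalRing

namespace Groth.Agent.GRing17

/-- Formal fibres of local rings of algebras of finite type over a finite extension of a good base. -/
theorem isRegularRing_fibre_finiteType {A S : Type u} [CommRing A] [CommRing S] [Algebra A S]
    [Algebra.FiniteType A S] [IsNoetherianRing S]
    (hbase : ∀ q : Ideal A, q.IsPrime → ∃ (P : Type u) (_ : CommRing P) (f : P →+* A ⧸ q),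
      IsNoetherianRing P ∧ GoodBase P ∧ Function.Injective f ∧ f.Finite)
    (Q : Ideal S) [Q.IsPrime] (𝔮 : Ideal (Localization.AtPrime Q)) [𝔮.IsPrime]
    (L : Type u) [Field L] [Algebra 𝔮.ResidueField L] [Module.Finite 𝔮.ResidueField L] :
    IsRegularRing (L ⊗[𝔮.ResidueField] 𝔮.Fiber (EGA4.Cpl (Localization.AtPrime Q))) := by
  classical
  let SQ := Localization.AtPrime Q
  let Ch := EGA4.Cpl SQ
  let : Algebra SQ L := ((algebraMap 𝔮.ResidueField L).comp (algebraMap SQ 𝔮.ResidueField)).toAlgebra
  have : IsScalarTower SQ 𝔮.ResidueField L := .of_algebraMap_eq fun _ => rfl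
  refine FlatAscent.isRegularRing_transport
    (Algebra.TensorProduct.cancelBaseChange SQ 𝔮.ResidueField 𝔮.ResidueField L Ch).symm.toRingEquiv ?_
  let q₀ := 𝔮.comap (algebraMap S SQ)
  have hq₀Q : q₀ ≤ Q := fun x hx => by
    by_contra h
    exact Ideal.IsPrime.ne_top ‹𝔮.IsPrime› (𝔮.eq_top_of_isUnit_mem hx
      (IsLocalization.map_units SQ (⟨x, h⟩ : Q.primeCompl)))
  let S' := S ⧸ q₀
  have : IsDomain S' := Ideal.Quotient.isDomain q₀
  let n := Q.map (Ideal.Quotient.mk q₀)
  have hn : n.IsPrime := Ideal.map_isPrime_of_surjective Ideal.Quotient.mk_surjective (by rwa [Ideal.mk_ker])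
  let p₀ := q₀.comap (algebraMap A S)
  have hp₀ : p₀.IsPrime := inferInstance
  obtain ⟨P, _, f, hN, hgood, hinj, hfin⟩ := hbase p₀ hp₀
  -- `S'` as a finite type `P`-algebra
  let g : A ⧸ p₀ →+* S' := Ideal.quotientMap q₀ (algebraMap A S) le_rfl
  have hg : Function.Injective g := Ideal.quotientMap_injective
  have hgft : g.FiniteType := by
    refine RingHom.FiniteType.of_comp_finiteType (f := Ideal.Quotient.mk p₀) ?_
    rw [Ideal.quotientMap_comp_mk]
    exact (RingHom.finiteType_algebraMap.mpr inferInstance).comp_surjective Ideal.Quotient.mk_surjective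
  let : Algebra P S' := (g.comp f).toAlgebra
  have : Algebra.FiniteType P S' := RingHom.FiniteType.comp hgft (RingHom.FiniteType.of_finite hfin)
  obtain ⟨r, π, hπ⟩ := Algebra.FiniteType.iff_quotient_mvPolynomial''.mp this
  let T := MvPolynomial (Fin r) P
  let : Algebra T S' := π.toRingHom.toAlgebra
  have : IsScalarTower P T S' := .of_algebraMap_eq fun x => (π.commutes x).symm
  have : Module.Finite T S' := Module.Finite.of_surjective (Algebra.linearMap T S') hπ
  -- `S_Q / 𝔮` as a localization of `S'`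
  let I : Ideal SQ := q₀.map (algebraMap S SQ)
  have hI : I = 𝔮 := IsLocalization.map_under Q.primeCompl SQ 𝔮
  have hnc : n.comap (Ideal.Quotient.mk q₀) = Q := by
    rw [Ideal.comap_map_of_surjective' _ Ideal.Quotient.mk_surjective, Ideal.mk_ker, sup_eq_left.mpr hq₀Q]
  have hsub : Algebra.algebraMapSubmonoid S' Q.primeCompl = n.primeCompl := by
    ext x
    refine ⟨?_, fun hx => ?_⟩
    · rintro ⟨a, ha, rfl⟩ h
      exact ha (hnc.le h)
    · obtain ⟨a, rfl⟩ := Ideal.Quotient.mk_surjective x
      exact ⟨a, fun h => hx (Ideal.mem_map_of_mem _ h), rfl⟩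
  have : IsLocalization n.primeCompl (SQ ⧸ I) := by
    have h0 : IsLocalization (Algebra.algebraMapSubmonoid S' Q.primeCompl) (SQ ⧸ I) := inferInstance
    rwa [hsub] at h0
  have : Nontrivial (SQ ⧸ I) := Ideal.Quotient.nontrivial_iff.mpr (hI ▸ Ideal.IsPrime.ne_top ‹_›)
  have : IsLocalRing (SQ ⧸ I) := IsLocalRing.of_surjective' _ Ideal.Quotient.mk_surjective
  -- `L` as an algebra over everything
  let : Algebra (SQ ⧸ I) L := (Ideal.Quotient.lift I (algebraMap SQ L) fun x hx => by
    show algebraMap 𝔮.ResidueField L (algebraMap SQ 𝔮.ResidueField x) = 0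
    rw [Ideal.algebraMap_residueField_eq_zero.mpr (hI ▸ hx), map_zero]).toAlgebra
  have : IsScalarTower SQ (SQ ⧸ I) L := by
    exact IsScalarTower.of_algebraMap_eq (R := SQ) (S := SQ ⧸ I) (A := L) fun _ => rfl
  let : Algebra S' L := ((algebraMap (SQ ⧸ I) L).comp (algebraMap S' (SQ ⧸ I))).toAlgebra
  have : IsScalarTower S' (SQ ⧸ I) L := .of_algebraMap_eq fun _ => rfl
  let : Algebra T L := ((algebraMap S' L).comp (algebraMap T S')).toAlgebra
  have : IsScalarTower T S' L := .of_algebraMap_eq fun _ => rfl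
  let : Algebra P L := ((algebraMap S' L).comp (algebraMap P S')).toAlgebra
  have : IsScalarTower P S' L := .of_algebraMap_eq fun _ => rfl
  have : IsScalarTower P T L := .of_algebraMap_eq fun x => by
    show algebraMap S' L (algebraMap P S' x) = algebraMap S' L (algebraMap T S' (algebraMap P T x))
    rw [← IsScalarTower.algebraMap_apply P T S']
  have hS'L : ∀ a : S, algebraMap S' L (Ideal.Quotient.mk q₀ a) =
      algebraMap 𝔮.ResidueField L (algebraMap SQ 𝔮.ResidueField (algebraMap S SQ a)) := fun _ => rfl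
  have hinjS : Function.Injective (algebraMap S' L) := by
    refine (injective_iff_map_eq_zero _).2 fun x hx => ?_
    obtain ⟨a, rfl⟩ := Ideal.Quotient.mk_surjective x
    rw [hS'L, map_eq_zero, Ideal.algebraMap_residueField_eq_zero] at hx
    exact Ideal.Quotient.eq_zero_iff_mem.mpr hx
  have hinjP : Function.Injective (algebraMap P L) := hinjS.comp (hg.comp hinj)
  -- `L` is essentially of finite type over `P`
  have : Algebra.EssFiniteType P L := by
    have : Algebra.EssFiniteType S' (SQ ⧸ I) := Algebra.EssFiniteType.of_isLocalization _ n.primeCompl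
    let : Algebra (SQ ⧸ I) 𝔮.ResidueField := (Ideal.Quotient.lift I (algebraMap SQ 𝔮.ResidueField) fun x hx =>
      Ideal.algebraMap_residueField_eq_zero.mpr (hI ▸ hx)).toAlgebra
    have : IsScalarTower SQ (SQ ⧸ I) 𝔮.ResidueField := by
      exact IsScalarTower.of_algebraMap_eq (R := SQ) (S := SQ ⧸ I) (A := 𝔮.ResidueField) fun _ => rfl
    have : IsScalarTower (SQ ⧸ I) 𝔮.ResidueField L := by
      refine IsScalarTower.of_algebraMap_eq (R := SQ ⧸ I) (S := 𝔮.ResidueField) (A := L) fun x => ?_
      obtain ⟨a, rfl⟩ := Ideal.Quotient.mk_surjective x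
      rfl
    have : Algebra.EssFiniteType (SQ ⧸ I) 𝔮.ResidueField :=
      Algebra.EssFiniteType.of_comp SQ (SQ ⧸ I) 𝔮.ResidueField
    have : Algebra.EssFiniteType (SQ ⧸ I) L := Algebra.EssFiniteType.comp (SQ ⧸ I) 𝔮.ResidueField L
    have : Algebra.EssFiniteType S' L := Algebra.EssFiniteType.comp S' (SQ ⧸ I) L
    exact Algebra.EssFiniteType.comp P S' L
  have : IsNoetherianRing T := inferInstance
  have hreg : IsRegularRing (L ⊗[T] EGA4.Cpl (Localization.AtPrime (n.comap (algebraMap T S')))) :=
    isRegularRing_field_tensor_polynomial hgood r _ L hinjP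
  obtain ⟨φ, hφf, hφs⟩ := exists_flat_surjective (P := T) n
  have hY := isRegularRing_descend (L := L) φ hφf hφs hreg
  obtain ⟨ε⟩ := FlatAscent.exists_quotient_cpl_equiv SQ I
  obtain ⟨ε'⟩ := exists_cpl_congr (A := S') (R := Localization.AtPrime n) (R' := SQ ⧸ I)
    (IsLocalization.algEquiv n.primeCompl (Localization.AtPrime n) (SQ ⧸ I))
  have : CompatibleSMul S' (SQ ⧸ I) L (EGA4.Cpl (SQ ⧸ I)) :=
    IsLocalization.tensorProduct_compatibleSMul n.primeCompl (SQ ⧸ I) _ _
  have : IsScalarTower (SQ ⧸ I) (SQ ⧸ I) L := by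
    exact IsScalarTower.of_algebraMap_eq (R := SQ ⧸ I) (S := SQ ⧸ I) (A := L) fun _ => rfl
  let e : L ⊗[S'] EGA4.Cpl (Localization.AtPrime n) ≃+* L ⊗[SQ] Ch :=
    (Algebra.TensorProduct.congr (AlgEquiv.refl (R := S') (A₁ := L)) ε').toRingEquiv.trans
      ((Algebra.TensorProduct.equivOfCompatibleSMul S' (SQ ⧸ I) L L (EGA4.Cpl (SQ ⧸ I))).symm.toRingEquiv.trans
        ((Algebra.TensorProduct.congr (AlgEquiv.refl (R := SQ ⧸ I) (A₁ := L)) ε).symm.toRingEquiv.trans
          (Algebra.TensorProduct.cancelBaseChange SQ (SQ ⧸ I) (SQ ⧸ I) L Ch).toRingEquiv))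
  exact FlatAscent.isRegularRing_transport e hY

/-- Domains finite over power series rings provide good bases. -/
theorem exists_goodBase {A : Type u} [CommRing A] [IsLocalRing A] [IsNoetherianRing A]
    [IsAdicComplete (maximalIdeal A) A] (q : Ideal A) (hq : q.IsPrime) :
    ∃ (P : Type u) (_ : CommRing P) (f : P →+* A ⧸ q),
      IsNoetherianRing P ∧ GoodBase P ∧ Function.Injective f ∧ f.Finite := by
  have : IsDomain (A ⧸ q) := Ideal.Quotient.isDomain q
  have : IsLocalRing (A ⧸ q) := IsLocalRing.of_surjective' _ Ideal.Quotient.mk_surjective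
  have : IsAdicComplete (maximalIdeal (A ⧸ q)) (A ⧸ q) := by
    have hm : (maximalIdeal A).map (algebraMap A (A ⧸ q)) = maximalIdeal (A ⧸ q) :=
      map_maximalIdeal_of_surjective _ Ideal.Quotient.mk_surjective
    rw [← hm]
    exact AdicLim.isAdicComplete_quotient q
  obtain ⟨Λ, _, r, f, hΛ, hinj, hfin, -⟩ := CohenStruct.exists_finite_injective (A ⧸ q)
  refine ⟨_, inferInstance, f, ?_, goodBase_powerSeries hΛ r, hinj, hfin⟩
  rcases hΛ with hF | hC
  · let := hF.toField; infer_instance
  · obtain ⟨hd, hdvr, -⟩ := hC; infer_instance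

/-- Algebras of finite type over complete local rings are G-rings. -/
theorem isGRing_finiteType_complete (A : Type u) [CommRing A] [IsLocalRing A] [IsNoetherianRing A]
    [IsAdicComplete (maximalIdeal A) A] (S : Type u) [CommRing S] [Algebra A S] [Algebra.FiniteType A S] :
    CAlg.IsGRing S := by
  have : IsNoetherianRing S := Algebra.FiniteType.isNoetherianRing A S
  refine ⟨inferInstance, fun Q _ => ⟨AdicCompletion.flat_of_isNoetherian _, fun 𝔮 _ => ?_⟩⟩
  have hg : CAlg.IsGeometricallyRegular 𝔮.ResidueField (𝔮.Fiber (EGA4.Cpl (Localization.AtPrime Q))) :=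
    fun L _ _ hL => isRegularRing_fibre_finiteType (A := A) exists_goodBase Q 𝔮 L
  exact ⟨FlatAscent.isNoetherianRing_of_geometricallyRegular hg, hg⟩

/-- **Algebras of finite type over G-rings are G-rings.** -/
theorem isGRing_of_finiteType {R : Type u} [CommRing R] (hR : CAlg.IsGRing R) (S : Type u) [CommRing S]
    [Algebra R S] [Algebra.FiniteType R S] : CAlg.IsGRing S := by
  have := hR.1
  have : IsNoetherianRing S := Algebra.FiniteType.isNoetherianRing R S
  refine ⟨inferInstance, fun Q _ => ?_⟩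
  let p := Q.comap (algebraMap R S)
  let Rp := Localization.AtPrime p
  let Rh := EGA4.Cpl Rp
  have : IsNoetherianRing Rh := CohenStruct.isNoetherianRing_completion Rp
  have hreg : CAlg.IsRegularHom R Rh :=
    S9294.result R Rp Rh (isRegularHom_of_isLocalization p.primeCompl) (hR.2 p) fun q _ => by
      have := Algebra.EssFiniteType.isNoetherianRing Rh (Rh ⊗[R] q.ResidueField)
      exact isNoetherianRing_of_ringEquiv (Rh ⊗[R] q.ResidueField)
        (Algebra.TensorProduct.comm R Rh q.ResidueField).toRingEquiv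
  let Sh := S ⊗[R] Rh
  have hS : CAlg.IsRegularHom S Sh := FlatAscent.isRegularHom_baseChange hreg
  let : Algebra Rh Sh := Algebra.TensorProduct.rightAlgebra
  have : Algebra.FiniteType Rh Sh := Algebra.FiniteType.equiv (inferInstance : Algebra.FiniteType Rh (Rh ⊗[R] S))
    (AlgEquiv.ofRingEquiv (f := (Algebra.TensorProduct.comm R Rh S).toRingEquiv) fun x => by
      simp [RingHom.algebraMap_toAlgebra])
  have hG : CAlg.IsGRing Sh := isGRing_finiteType_complete Rh Sh
  have := hG.1
  -- a prime over `Q`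
  let κ := Q.ResidueField
  let : Algebra R κ := ((algebraMap S κ).comp (algebraMap R S)).toAlgebra
  have : IsScalarTower R S κ := .of_algebraMap_eq fun _ => rfl
  let r₀ : Rh →+* κ := (Ideal.ResidueField.map p Q (algebraMap R S) rfl).comp
    ((Ideal.Quotient.factor (le_rfl : maximalIdeal Rp ≤ maximalIdeal Rp)).comp
      (AdicCompletion.evalOneₐ (maximalIdeal Rp)).toRingHom)
  have hr₀ : ∀ x : R, r₀ (algebraMap R Rh x) = algebraMap R κ x := fun x => by
    show Ideal.ResidueField.map p Q (algebraMap R S) rfl (Ideal.Quotient.factor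
      (le_rfl : maximalIdeal Rp ≤ maximalIdeal Rp)
      (AdicCompletion.evalOneₐ (maximalIdeal Rp) (algebraMap Rp Rh (algebraMap R Rp x)))) = _
    rw [AlgHom.commutes]
    exact Ideal.ResidueField.map_algebraMap p Q (algebraMap R S) rfl x
  let χ : Sh →ₐ[S] κ := Algebra.TensorProduct.lift (Algebra.ofId S κ)
    ({ toRingHom := r₀, commutes' := hr₀ } : Rh →ₐ[R] κ) fun _ _ => Commute.all _ _
  let Qh := RingHom.ker χ.toRingHom
  have : Qh.IsPrime := RingHom.ker_isPrime _
  have hQh : Qh.comap (algebraMap S Sh) = Q := by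
    ext x
    rw [Ideal.mem_comap, RingHom.mem_ker]
    show χ (algebraMap S Sh x) = 0 ↔ x ∈ Q
    rw [AlgHom.commutes]
    exact Ideal.algebraMap_residueField_eq_zero
  have hloc := S9259.local_of_regular hS Qh
  have key : ∀ (Q' : Ideal S) [Q'.IsPrime], Q' = Qh.comap (algebraMap S Sh) →
      CAlg.IsRegularHom (Localization.AtPrime Q') (EGA4.Cpl (Localization.AtPrime Q')) := by
    rintro Q' _ rfl
    let : Algebra (Localization.AtPrime (Qh.comap (algebraMap S Sh))) (Localization.AtPrime Qh) :=
      (Localization.localRingHom (Qh.comap (algebraMap S Sh)) Qh (algebraMap S Sh) rfl).toAlgebra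
    have : IsLocalHom (algebraMap (Localization.AtPrime (Qh.comap (algebraMap S Sh))) (Localization.AtPrime Qh)) :=
      Localization.isLocalHom_localRingHom _ _ _ _
    exact S4704.result (Localization.AtPrime (Qh.comap (algebraMap S Sh))) (Localization.AtPrime Qh)
      hloc (hG.2 Qh)
  exact key Q hQh.symm

end Groth.Agent.GRing17
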