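import Groth.Agent.GRing17.Derivation
import Groth.Agent.FlatAscent.Tensor
import Groth.Agent.CohenStruct.QuasiExcellent
import Groth.Agent.S2672
import Mathlib.FieldTheory.PurelyInseparable.Basic
import Mathlib.RingTheory.TensorProduct.Quotient
import Mathlib.RingTheory.Localization.BaseChange
import Mathlib.RingTheory.TensorProduct.MvPolynomial

/-!
# Geometric regularity of generic fibres from derivations
-/

universe u

open TensorProduct

-- use the canonical `ℤ`-algebra structure
attribute [local instance 10000] Ring.toIntAlgebra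

namespace Groth.Agent.GRing17

/-- The generic fibre of a regular algebra is regular. -/
theorem isRegularRing_generic {P : Type u} [CommRing P] {F : Type u} [CommRing F] [Algebra P F]
    [IsFractionRing P F] (C : Type u) [CommRing C] [Algebra P C] [IsRegularRing C] :
    IsRegularRing (F ⊗[P] C) := by
  let : Algebra C (F ⊗[P] C) := Algebra.TensorProduct.rightAlgebra
  exact PP16Lib.isRegularRing_of_isLocalization (Algebra.algebraMapSubmonoid C (nonZeroDivisors P))

section

variable {P F : Type u} [CommRing P] [Field F] [Algebra P F] [IsFractionRing P F]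
  {C : Type u} [CommRing C] [Algebra P C] [IsRegularRing C]

/-- Adjoining `q`-th roots of elements having dual derivations keeps the generic fibre regular. -/
theorem isRegularRing_tensor_roots {ι : Type u} [Finite ι] (b : ι → P) (D : ι → Derivation ℤ C C)
    (h₀ : ∀ i j, i ≠ j → D i (algebraMap P C (b j)) = 0)
    (h₁ : ∀ i, ∃ c : P, c ≠ 0 ∧ D i (algebraMap P C (b i)) = algebraMap P C c)
    (q : ℕ) :
    IsRegularRing ((F ⊗[P] C) ⊗[F] (MvPolynomial ι F ⧸
      Ideal.span (Set.range fun i => MvPolynomial.X i ^ q - MvPolynomial.C (algebraMap P F (b i))))) := by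
  let G := F ⊗[P] C
  let : Algebra C G := Algebra.TensorProduct.rightAlgebra
  have hGreg : IsRegularRing G := isRegularRing_generic C
  have hsq : ∀ x : P, algebraMap C G (algebraMap P C x) = algebraMap F G (algebraMap P F x) := fun x => by
    rw [← IsScalarTower.algebraMap_apply P F G, ← Algebra.TensorProduct.includeRight.commutes x]
    rfl
  choose D₁ hD₁ using fun i => exists_derivation_localization
    (Algebra.algebraMapSubmonoid C (nonZeroDivisors P)) (B := G) (D i)
  choose D₂ hD₂C hD₂X using fun i => exists_derivation_mvPolynomial (ι := ι) (D₁ i)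
  let h : ι → MvPolynomial ι G := fun i =>
    MvPolynomial.X i ^ q - MvPolynomial.C (algebraMap F G (algebraMap P F (b i)))
  have hDh : ∀ i j, D₂ i (h j) = -MvPolynomial.C (algebraMap C G (D i (algebraMap P C (b j)))) := fun i j => by
    rw [map_sub, Derivation.leibniz_pow, hD₂C, hD₂X, smul_zero, smul_zero, zero_sub, ← hsq, hD₁]
  have hT : IsRegularRing (MvPolynomial ι G ⧸ Ideal.span (Set.range h)) := by
    refine isRegularRing_iff.mpr fun Q _ => ?_
    refine isRegularLocalRing_quotient_of_derivations h D₂ (fun i j hij => ?_) Q fun i hi => ?_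
    · rw [hDh, h₀ i j hij, map_zero, map_zero, neg_zero]; exact zero_mem _
    · obtain ⟨c, hc, hce⟩ := h₁ i
      rw [hDh, hce, hsq, map_neg] at hi
      refine Ideal.IsPrime.ne_top ‹_› (Q.eq_top_of_isUnit_mem (neg_mem_iff.mp hi) ?_)
      exact (((isUnit_iff_ne_zero.mpr ((map_ne_zero_iff _ (IsFractionRing.injective P F)).mpr hc)).map _).map _).map _
  refine FlatAscent.isRegularRing_transport ?_ hT
  let e₁ := Algebra.TensorProduct.tensorQuotientEquiv (R := F) G (MvPolynomial ι F) G
    (Ideal.span (Set.range fun i => MvPolynomial.X i ^ q - MvPolynomial.C (algebraMap P F (b i))))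
  let ψ : G ⊗[F] MvPolynomial ι F ≃ₐ[G] MvPolynomial ι G := MvPolynomial.algebraTensorAlgEquiv F G
  refine ((e₁.trans (Ideal.quotientEquivAlg _ _ ψ ?_))).toRingEquiv.symm
  rw [Ideal.map_span, Ideal.map_span, ← Set.range_comp, ← Set.range_comp]
  congr 1
  ext x
  simp [h, ψ]

/-- **Geometric regularity of the generic fibre from derivations.** -/
theorem isGeometricallyRegular_generic {p : ℕ} [Fact p.Prime] [CharP F p]
    (hder : ∀ (s : Finset F) (e : ℕ), ∃ (ι : Type u) (_ : Finite ι) (b : ι → P) (D : ι → Derivation ℤ C C),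
      (∀ i j, i ≠ j → D i (algebraMap P C (b j)) = 0) ∧
      (∀ i, ∃ c : P, c ≠ 0 ∧ D i (algebraMap P C (b i)) = algebraMap P C c) ∧
      ∀ x ∈ s, x ∈ Subring.closure ((Set.range fun y : F => y ^ p ^ e) ∪
        Set.range fun i => algebraMap P F (b i))) :
    CAlg.IsGeometricallyRegular F (F ⊗[P] C) := by
  classical
  let G := F ⊗[P] C
  have hGreg : IsRegularRing G := isRegularRing_generic C
  refine ((S2672.result F G).1).mpr fun L _ _ hfin hpi => ?_
  rcases subsingleton_or_nontrivial G with hG | hG
  · have : Subsingleton (L ⊗[F] G) := subsingleton_of_zero_eq_one (by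
      rw [Algebra.TensorProduct.one_def, Subsingleton.elim (1 : G) 0, TensorProduct.tmul_zero])
    exact isRegularRing_iff.mpr fun Q hQ => absurd (Subsingleton.elim Q ⊤) hQ.ne_top
  -- all `y ^ q` lie in `F`
  let β := Module.finBasis F L
  have hpow : ∀ i, ∃ m, β i ^ p ^ m ∈ (algebraMap F L).range := fun i => IsPurelyInseparable.pow_mem F p (β i)
  choose m hm using hpow
  let e := (Finset.univ.sup m) + 1
  have hpL : CharP L p := charP_of_injective_algebraMap (algebraMap F L).injective p
  have hβ : ∀ i, ∃ c, algebraMap F L c = β i ^ p ^ e := fun i => by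
    obtain ⟨c, hc⟩ := hm i
    refine ⟨c ^ p ^ (e - m i), ?_⟩
    have hle : m i ≤ e := (Finset.le_sup (Finset.mem_univ i)).trans (Nat.le_succ _)
    rw [map_pow, hc, ← pow_mul, ← pow_add, Nat.add_sub_cancel' hle]
  choose c hc using hβ
  obtain ⟨ι, _, b, D, h₀, h₁, hb⟩ := hder (Finset.univ.image c) e
  let L' := MvPolynomial ι F ⧸
    Ideal.span (Set.range fun i => MvPolynomial.X i ^ p ^ e - MvPolynomial.C (algebraMap P F (b i)))
  have hreg : IsRegularRing (G ⊗[F] L') := isRegularRing_tensor_roots b D h₀ h₁ (p ^ e)
  have : Nontrivial L' := by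
    choose z hz using fun i => IsAlgClosed.exists_pow_nat_eq (algebraMap F (AlgebraicClosure F) (algebraMap P F (b i)))
      (Nat.pos_of_ne_zero (pow_ne_zero e (Nat.Prime.ne_zero Fact.out)) : 0 < p ^ e)
    refine Ideal.Quotient.nontrivial_iff.mpr (ne_top_of_le_ne_top (RingHom.ker_ne_top (MvPolynomial.aeval z).toRingHom)
      (Ideal.span_le.mpr ?_))
    rintro _ ⟨i, rfl⟩
    simp [hz]
  have hred : IsReduced L' := by
    have := CohenStruct.isReduced_of_isRegularRing _ hreg
    exact isReduced_of_injective (Algebra.TensorProduct.includeRight : L' →ₐ[F] G ⊗[F] L')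
      (Algebra.TensorProduct.includeRight_injective (algebraMap F G).injective)
  have : CharP L' p := charP_of_injective_algebraMap (algebraMap F L').injective p
  let φ := iterateFrobenius L' p e
  have hφ : Function.Injective φ := iterateFrobenius_inj L' p e
  -- `q`-th powers from `F`
  have hmem : ∀ y : L, ∃ (z : L') (a : F), algebraMap F L a = y ^ p ^ e ∧ φ z = algebraMap F L' a := by
    intro y
    have hle : Subring.closure ((Set.range fun y : F => y ^ p ^ e) ∪ Set.range fun i => algebraMap P F (b i)) ≤
        φ.range.comap (algebraMap F L') := by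
      refine Subring.closure_le.2 ?_
      rintro x (⟨w, rfl⟩ | ⟨i, rfl⟩)
      · exact ⟨algebraMap F L' w, by rw [iterateFrobenius_def, ← map_pow]⟩
      · refine ⟨Ideal.Quotient.mk _ (MvPolynomial.X i), ?_⟩
        rw [iterateFrobenius_def, ← map_pow]
        exact Ideal.Quotient.eq.mpr (Ideal.subset_span ⟨i, rfl⟩)
    have hy : ∑ i, β.repr y i ^ p ^ e * c i ∈ φ.range.comap (algebraMap F L') :=
      sum_mem fun i _ => mul_mem (hle (Subring.subset_closure (Or.inl ⟨_, rfl⟩)))
        (hle (hb _ (Finset.mem_image_of_mem c (Finset.mem_univ i))))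
    obtain ⟨z, hz⟩ := hy
    refine ⟨z, _, ?_, hz⟩
    conv_rhs => rw [← β.sum_repr y, sum_pow_char_pow p]
    rw [map_sum]
    exact Finset.sum_congr rfl fun i _ => by rw [map_mul, map_pow, hc, Algebra.smul_def, mul_pow]
  choose z a ha hza using hmem
  have hinj := (algebraMap F L).injective
  let ψ : L →+* L' :=
    { toFun := z
      map_one' := hφ (by
        rw [map_one, hza, show a 1 = 1 from hinj (by rw [ha, one_pow, map_one]), map_one])
      map_mul' := fun x y => hφ (by
        rw [map_mul, hza, hza, hza, ← map_mul]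
        exact congrArg _ (hinj (by rw [map_mul, ha, ha, ha, mul_pow])))
      map_zero' := hφ (by
        rw [map_zero, hza, show a 0 = 0 from hinj (by
          rw [ha, zero_pow (pow_ne_zero e (Nat.Prime.ne_zero Fact.out)), map_zero]), map_zero])
      map_add' := fun x y => hφ (by
        rw [map_add, hza, hza, hza, ← map_add]
        exact congrArg _ (hinj (by rw [map_add, ha, ha, ha, add_pow_char_pow]))) }
  have hψ : ∀ r : F, ψ (algebraMap F L r) = algebraMap F L' r := fun r => hφ (by
    show φ (z (algebraMap F L r)) = _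
    rw [hza, show a (algebraMap F L r) = r ^ p ^ e from hinj (by rw [ha, map_pow]), map_pow,
      iterateFrobenius_def])
  let : Algebra L L' := ψ.toAlgebra
  have : IsScalarTower F L L' := .of_algebraMap_eq fun r => (hψ r).symm
  let R := L ⊗[F] G
  let T := R ⊗[L] L'
  have hT : IsRegularRing T := FlatAscent.isRegularRing_transport
    (((Algebra.TensorProduct.comm L L' R).toRingEquiv.symm.trans
      (Algebra.TensorProduct.cancelBaseChange F L L' L' G).toRingEquiv).trans
        (Algebra.TensorProduct.comm F L' G).toRingEquiv).symm hreg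
  exact J2Lib.isRegularRing_of_faithfullyFlat R T

end

end Groth.Agent.GRing17
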