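import Groth.Agent.GRing17.Basis
import Groth.Agent.GRing17.Generic
import Groth.Agent.PP16Lib.RegularCompletion
import Groth.Agent.PP16Lib.CompletionEquiv
import Groth.Agent.RegularSerre.Localization
import Groth.Agent.DepthLib.CMPoly
import Groth.Agent.CohenStruct.QuasiExcellent
import Groth.Prelude.Def_EGA4b

/-!
# Formal fibres of power series rings over fields and Cohen rings
-/

universe u

open TensorProduct IsLocalRing

-- use the canonical `ℤ`-algebra structure
attribute [local instance 10000] Ring.toIntAlgebra

namespace Groth.Agent.GRing17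

/-- The completion of a regular local ring is a regular ring. -/
theorem isRegularRing_cpl (R : Type u) [CommRing R] [IsRegularLocalRing R] : IsRegularRing (EGA4.Cpl R) :=
  haveI : IsRegularLocalRing (EGA4.Cpl R) := PP16Lib.isRegularLocalRing_iff_completion.mp inferInstance
  RegularSerre.isRegularRing_of_isRegularLocalRing _

/-- In characteristic zero every finite extension of the fraction field has regular fibre. -/
theorem isGeometricallyRegular_of_charZero (F : Type u) [Field F] [CharZero F] (G : Type u) [CommRing G]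
    [Algebra F G] (hG : IsRegularRing G) : CAlg.IsGeometricallyRegular F G := by
  have := hG
  refine ((S2672.result F G).1).mpr fun L _ _ hfin hpi => ?_
  have : Algebra.IsSeparable F L := inferInstance
  have hb := IsPurelyInseparable.bijective_algebraMap_of_isSeparable F L
  exact FlatAscent.isRegularRing_transport
    ((Algebra.TensorProduct.congr (AlgEquiv.ofBijective (Algebra.ofId F L) hb) (AlgEquiv.refl : G ≃ₐ[F] G)).toRingEquiv.symm.trans
      (Algebra.TensorProduct.lid F G).toRingEquiv).symm hG

/-- A Cohen ring has characteristic zero. -/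
theorem charZero_of_isCohenRing {Λ : Type u} [CommRing Λ] (h : CAlg.IsCohenRing Λ) : CharZero Λ := by
  obtain ⟨hd, hdvr, -, p, hp, hm⟩ := h
  have hp0 : (p : Λ) ≠ 0 := fun h0 => IsDiscreteValuationRing.not_a_field Λ (by rw [hm, h0]; simp)
  have hpu : ¬ IsUnit (p : Λ) := fun hu => (maximalIdeal.isMaximal Λ).ne_top
    (Ideal.eq_top_of_isUnit_mem _ (hm ▸ Ideal.mem_span_singleton_self _) hu)
  obtain ⟨ℓ, hℓ⟩ := CharP.exists Λ
  rcases CharP.char_is_prime_or_zero Λ ℓ with hl | hl
  · exfalso
    have hne : ℓ ≠ p := fun h => hp0 (h ▸ CharP.cast_eq_zero Λ ℓ)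
    have hb := Nat.gcd_eq_gcd_ab ℓ p
    rw [(Nat.coprime_primes hl hp).mpr hne] at hb
    have h1 := congrArg (fun z : ℤ => (z : Λ)) hb
    simp only [Int.cast_add, Int.cast_mul, Int.cast_natCast, CharP.cast_eq_zero Λ ℓ, zero_mul, zero_add,
      Nat.cast_one, Int.cast_one] at h1
    exact hpu (IsUnit.of_mul_eq_one _ h1.symm)
  · subst hl; exact CharP.charP_to_charZero Λ

/-- **The generic fibres of completions of power series rings are geometrically regular.** -/
theorem isGeometricallyRegular_generic_powerSeries {Λ : Type u} [CommRing Λ]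
    (hΛ : IsField Λ ∨ CAlg.IsCohenRing Λ) (n : ℕ) (P' : Ideal (MvPowerSeries (Fin n) Λ)) [P'.IsPrime]
    (F : Type u) [Field F] [Algebra (MvPowerSeries (Fin n) Λ) F] [IsFractionRing (MvPowerSeries (Fin n) Λ) F] :
    IsNoetherianRing (F ⊗[MvPowerSeries (Fin n) Λ] EGA4.Cpl (Localization.AtPrime P')) ∧
      CAlg.IsGeometricallyRegular F (F ⊗[MvPowerSeries (Fin n) Λ] EGA4.Cpl (Localization.AtPrime P')) := by
  have hregΛ : IsRegularRing Λ := by
    rcases hΛ with hF | hC
    · let := hF.toField
      exact DepthLib.CMPoly.isRegularRing_field Λ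
    · obtain ⟨hd, hdvr, -⟩ := hC
      infer_instance
  have hP := PP16Lib.isRegularRing_mvPowerSeries (A := Λ) n
  let P := MvPowerSeries (Fin n) Λ
  let C := EGA4.Cpl (Localization.AtPrime P')
  have hC : IsRegularRing C := isRegularRing_cpl _
  have hG : IsRegularRing (F ⊗[P] C) := isRegularRing_generic C
  refine ⟨@IsRegularRing.toIsNoetherian _ _ hG, ?_⟩
  have hinj : Function.Injective ((algebraMap P F).comp (MvPowerSeries.C : Λ →+* P)) :=
    (IsFractionRing.injective P F).comp MvPowerSeries.C_injective
  obtain ⟨ℓ, hℓ⟩ := CharP.exists F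
  rcases CharP.char_is_prime_or_zero F ℓ with hl | hl
  swap
  · subst hl
    have := CharP.charP_to_charZero F
    exact isGeometricallyRegular_of_charZero F _ hG
  have : Fact ℓ.Prime := ⟨hl⟩
  have : CharP Λ ℓ := (RingHom.charP_iff _ hinj ℓ).mpr hℓ
  rcases hΛ with hF | hCo
  swap
  · have := charZero_of_isCohenRing hCo
    exact absurd (CharP.cast_eq_zero Λ ℓ) (Nat.cast_ne_zero.mpr hl.ne_zero)
  let := hF.toField
  refine isGeometricallyRegular_generic (P := P) (C := C) (p := ℓ) fun s e => ?_
  obtain ⟨ι, _, b, D, h₀, h₁, hb⟩ := exists_dual_derivations (K := Λ) (p := ℓ) n F s e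
  choose D₁ hD₁ using fun i => exists_derivation_localization P'.primeCompl
    (B := Localization.AtPrime P') (D i)
  choose D₂ hD₂ using fun i => exists_derivation_completion
    (maximalIdeal (Localization.AtPrime P')) (D₁ i)
  have hD : ∀ i x, D₂ i (algebraMap P C x) = algebraMap P C (D i x) := fun i x => by
    rw [IsScalarTower.algebraMap_apply P (Localization.AtPrime P') C,
      IsScalarTower.algebraMap_apply P (Localization.AtPrime P') C, ← hD₁]
    exact hD₂ i _
  exact ⟨ι, inferInstance, b, D₂, fun i j hij => by rw [hD, h₀ i j hij, map_zero],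
    fun i => ⟨D i (b i), h₁ i, hD i _⟩, hb⟩

/-- The same for all finite extensions of the fraction field. -/
theorem isRegularRing_finite_extension {Λ : Type u} [CommRing Λ]
    (hΛ : IsField Λ ∨ CAlg.IsCohenRing Λ) (n : ℕ) (P' : Ideal (MvPowerSeries (Fin n) Λ)) [P'.IsPrime]
    (L : Type u) [Field L] [Algebra (MvPowerSeries (Fin n) Λ) L]
    (hinj : Function.Injective (algebraMap (MvPowerSeries (Fin n) Λ) L))
    (hfin : ∀ (F : Type u) [Field F] [Algebra (MvPowerSeries (Fin n) Λ) F]
      [IsFractionRing (MvPowerSeries (Fin n) Λ) F] [Algebra F L],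
      IsScalarTower (MvPowerSeries (Fin n) Λ) F L → Module.Finite F L) :
    IsRegularRing (L ⊗[MvPowerSeries (Fin n) Λ] EGA4.Cpl (Localization.AtPrime P')) := by
  let P := MvPowerSeries (Fin n) Λ
  have : IsDomain P := Function.Injective.isDomain (algebraMap P L) hinj
  have : Module.IsTorsionFree P L := Module.isTorsionFree_iff_algebraMap_injective.mpr hinj
  let F := FractionRing P
  let : Algebra F L := FractionRing.liftAlgebra P L
  have : IsScalarTower P F L := FractionRing.isScalarTower_liftAlgebra P L
  have := hfin F inferInstance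
  have hg := (isGeometricallyRegular_generic_powerSeries hΛ n P' F).2 L inferInstance
  exact FlatAscent.isRegularRing_transport
    (Algebra.TensorProduct.cancelBaseChange P F F L (EGA4.Cpl (Localization.AtPrime P'))).toRingEquiv hg

end Groth.Agent.GRing17
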