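import Groth.Agent.GRing17.FiniteType
import Groth.Agent.GRing17.PowerSeries
import Groth.Agent.S4704
import Mathlib.RingTheory.DedekindDomain.Dvr

/-!
# G-rings of dimension one, localizations of G-rings
-/

universe u

open IsLocalRing
open scoped TensorProduct

namespace Groth.Agent.GRing17

/-- Regularity of the completion map transported to another localization at the same prime. -/
theorem regular_cpl_congr {S C D : Type u} [CommRing S] [CommRing C] [CommRing D] [Algebra S C] [Algebra S D]
    [IsLocalRing C] [IsLocalRing D] [IsNoetherianRing C] [IsNoetherianRing D] (e : D ≃ₐ[S] C)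
    (h : CAlg.IsRegularHom C (EGA4.Cpl C)) : CAlg.IsRegularHom D (EGA4.Cpl D) := by
  let : Algebra D C := e.toRingEquiv.toRingHom.toAlgebra
  have : IsLocalHom (algebraMap D C) := ⟨fun x hx => by
    have h1 : IsUnit (e.symm (e x)) := hx.map e.symm
    rwa [e.symm_apply_apply] at h1⟩
  let e' : D ≃ₐ[D] C := AlgEquiv.ofRingEquiv (f := e.toRingEquiv) fun _ => rfl
  have : IsLocalization (⊥ : Submonoid D) D :=
    IsLocalization.of_le_isUnit fun x hx => by rw [Submonoid.mem_bot] at hx; exact hx ▸ isUnit_one
  have : IsLocalization (⊥ : Submonoid D) C := IsLocalization.isLocalization_of_algEquiv ⊥ e'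
  exact S4704.result D C (isRegularHom_of_isLocalization ⊥) h

/-- Localizations of G-rings are G-rings. -/
theorem isGRing_localization {A : Type u} [CommRing A] (hA : CAlg.IsGRing A) (M : Submonoid A) (B : Type u)
    [CommRing B] [Algebra A B] [IsLocalization M B] : CAlg.IsGRing B := by
  have := hA.1
  have : IsNoetherianRing B := IsLocalization.isNoetherianRing M B inferInstance
  refine ⟨inferInstance, fun P _ => ?_⟩
  have : IsLocalization.AtPrime (Localization.AtPrime P) (P.comap (algebraMap A B)) :=
    IsLocalization.isLocalization_isLocalization_atPrime_isLocalization M (Localization.AtPrime P) P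
  exact regular_cpl_congr (IsLocalization.algEquiv (P.comap (algebraMap A B)).primeCompl _ _)
    (hA.2 (P.comap (algebraMap A B)))

/-- The closed fibre of the completion map is the residue field. -/
theorem isGeometricallyRegular_closed (A : Type u) [CommRing A] [IsLocalRing A] [IsNoetherianRing A] :
    CAlg.IsGeometricallyRegular (maximalIdeal A).ResidueField ((maximalIdeal A).Fiber (EGA4.Cpl A)) := by
  intro L _ _ hL
  let m := maximalIdeal A
  let κ := A ⧸ m
  let : Field κ := Ideal.Quotient.field m
  let : Algebra A L := ((algebraMap m.ResidueField L).comp (algebraMap A m.ResidueField)).toAlgebra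
  have : IsScalarTower A m.ResidueField L := .of_algebraMap_eq fun _ => rfl
  let : Algebra κ L := (Ideal.Quotient.lift m (algebraMap A L) fun x hx => by
    show algebraMap m.ResidueField L (algebraMap A m.ResidueField x) = 0
    rw [Ideal.algebraMap_residueField_eq_zero.mpr hx, map_zero]).toAlgebra
  have : IsScalarTower A κ L := by exact IsScalarTower.of_algebraMap_eq (R := A) (S := κ) (A := L) fun _ => rfl
  have : Nontrivial κ := inferInstance
  obtain ⟨ε⟩ := FlatAscent.exists_quotient_cpl_equiv A m
  have hκ : maximalIdeal κ = ⊥ := maximalIdeal_eq_bot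
  have : IsAdicComplete (maximalIdeal κ) κ := by rw [hκ]; infer_instance
  let e₁ : κ ≃ₐ[κ] EGA4.Cpl κ := AlgEquiv.ofBijective (Algebra.ofId κ (EGA4.Cpl κ))
    (AdicCompletion.of_bijective (maximalIdeal κ) κ)
  let e : L ⊗[m.ResidueField] m.Fiber (EGA4.Cpl A) ≃+* L :=
    (Algebra.TensorProduct.cancelBaseChange A m.ResidueField m.ResidueField L (EGA4.Cpl A)).toRingEquiv.trans
      ((Algebra.TensorProduct.cancelBaseChange A κ κ L (EGA4.Cpl A)).symm.toRingEquiv.trans
        ((Algebra.TensorProduct.congr (AlgEquiv.refl (R := κ) (A₁ := L)) (ε.trans e₁.symm)).toRingEquiv.trans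
          (Algebra.TensorProduct.rid κ κ L).toRingEquiv))
  exact FlatAscent.isRegularRing_transport e.symm inferInstance

/-- The generic formal fibre of a regular local domain is regular. -/
theorem isRegularRing_generic_formalFibre (A : Type u) [CommRing A] [IsRegularLocalRing A] [IsDomain A] :
    IsRegularRing (EGA4.formalFibre A (⊥ : Ideal A)) := by
  have := isRegularRing_cpl A
  let κ := (⊥ : Ideal A).ResidueField
  have : FaithfulSMul A κ := (faithfulSMul_iff_algebraMap_injective _ _).mpr
    ((injective_iff_map_eq_zero _).mpr fun x hx => by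
      simpa using Ideal.algebraMap_residueField_eq_zero.mp hx)
  have : IsFractionRing A κ := IsFractionRing.of_field A κ fun z => by
    obtain ⟨a, b, -, rfl⟩ := IsFractionRing.div_surjective (A ⧸ (⊥ : Ideal A)) z
    obtain ⟨a, rfl⟩ := Ideal.Quotient.mk_surjective a
    obtain ⟨b, rfl⟩ := Ideal.Quotient.mk_surjective b
    exact ⟨a, b, rfl⟩
  exact isRegularRing_generic (F := κ) (EGA4.Cpl A)

/-- A local ring of dimension at most one with geometrically regular generic fibre has regular completion map. -/
theorem isRegularHom_cpl_of_dim_le_one (A : Type u) [CommRing A] [IsLocalRing A] [IsNoetherianRing A]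
    [IsDomain A] [Ring.DimensionLEOne A]
    (h : CAlg.IsGeometricallyRegular (⊥ : Ideal A).ResidueField ((⊥ : Ideal A).Fiber (EGA4.Cpl A))) :
    CAlg.IsRegularHom A (EGA4.Cpl A) := by
  refine ⟨AdicCompletion.flat_of_isNoetherian _, fun q hq => ?_⟩
  have hg : CAlg.IsGeometricallyRegular q.ResidueField (q.Fiber (EGA4.Cpl A)) := by
    by_cases h0 : q = ⊥
    · subst h0; exact h
    · have hmax : q.IsMaximal := Ring.DimensionLEOne.maximalOfPrime h0 hq
      obtain rfl : q = maximalIdeal A := eq_maximalIdeal hmax
      exact isGeometricallyRegular_closed A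
  exact ⟨FlatAscent.isNoetherianRing_of_geometricallyRegular hg, hg⟩

/-- Dedekind domains of characteristic zero are G-rings. -/
theorem isGRing_dedekind_charZero (A : Type u) [CommRing A] [IsDedekindDomain A] [CharZero A] :
    CAlg.IsGRing A := by
  refine ⟨inferInstance, fun P _ => ?_⟩
  let D := Localization.AtPrime P
  have hle : P.primeCompl ≤ nonZeroDivisors A := P.primeCompl_le_nonZeroDivisors
  have : IsDomain D := IsLocalization.isDomain_localization hle
  have : IsDedekindDomain D := IsLocalization.isDedekindDomain A hle D
  have : IsRegularLocalRing D := by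
    by_cases hP : P = ⊥
    · subst hP
      have hF : IsField D := by
        rw [IsLocalRing.isField_iff_maximalIdeal_eq, ← Localization.AtPrime.map_eq_maximalIdeal, Ideal.map_bot]
      let := hF.toField
      infer_instance
    · have : IsDiscreteValuationRing D :=
        IsLocalization.AtPrime.isDiscreteValuationRing_of_dedekind_domain A hP D
      infer_instance
  have : CharZero D := charZero_of_injective_algebraMap (IsLocalization.injective D hle)
  have : CharZero (⊥ : Ideal D).ResidueField :=
    charZero_of_injective_algebraMap (R := D) ((injective_iff_map_eq_zero _).mpr fun x hx => by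
      simpa using Ideal.algebraMap_residueField_eq_zero.mp hx)
  exact isRegularHom_cpl_of_dim_le_one D
    (isGeometricallyRegular_of_charZero _ _ (isRegularRing_generic_formalFibre D))

end Groth.Agent.GRing17
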