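import Groth.Agent.PP16Lib.AdicTopLift

/-!
# Adic formal smoothness and completions along finitely generated ideals
-/

universe u

namespace Groth.Agent.GRing17

variable {R S : Type u} [CommRing R] [CommRing S]

theorem map_cpl_pow_eq_ker (I : Ideal S) (hI : I.FG) (n : ℕ) :
    (I.map (algebraMap S (AdicCompletion I S))) ^ n = RingHom.ker (AdicCompletion.evalₐ I n) := by
  apply Submodule.restrictScalars_injective S
  have h := AdicCompletion.pow_smul_top_eq_ker_eval (I := I) (M := S) (n := n) hI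
  rw [← Ideal.map_pow, ← Ideal.smul_top_eq_map]
  exact h.trans (Submodule.ext fun x => by
    show AdicCompletion.eval I S n x = 0 ↔ AdicCompletion.evalₐ I n x = 0
    rw [← AdicCompletion.factor_eval_eq_evalₐ I x (le_of_eq (Ideal.mul_top _))]
    exact (map_eq_zero_iff _ (Ideal.quotEquivOfEq (Ideal.mul_top _)).injective).symm)

theorem exists_sub_mem_cpl (I : Ideal S) (hI : I.FG) (n : ℕ) (z : AdicCompletion I S) :
    ∃ s : S, z - algebraMap S _ s ∈ (I.map (algebraMap S (AdicCompletion I S))) ^ n := by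
  obtain ⟨b, hb⟩ := Ideal.Quotient.mk_surjective (AdicCompletion.evalₐ I n z)
  refine ⟨b, ?_⟩
  rw [map_cpl_pow_eq_ker I hI, RingHom.mem_ker, map_sub, AlgHom.commutes, ← hb]
  exact sub_self _

/-- Formal smoothness is insensitive to completion along a finitely generated ideal. -/
theorem adicSmooth_completion_iff_fg [Algebra R S] (I : Ideal S) (hI : I.FG) :
    CAlgX.IsAdicFormallySmooth R S I ↔
      CAlgX.IsAdicFormallySmooth R (AdicCompletion I S) (I.map (algebraMap S (AdicCompletion I S))) := by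
  let ι : S →ₐ[R] AdicCompletion I S := IsScalarTower.toAlgHom R S _
  have hev : ∀ n b, AdicCompletion.evalₐ I n (ι b) = Ideal.Quotient.mk (I ^ n) b := fun n b =>
    (AdicCompletion.evalₐ I n).commutes b
  constructor
  · intro h E _ _ J hJ u hu
    obtain ⟨k, hk⟩ := hu
    obtain ⟨v, hv⟩ := h E J hJ (u.comp ι) ⟨k, fun x hx => hk _ (by
      rw [← Ideal.map_pow]
      exact Ideal.mem_map_of_mem _ hx)⟩
    obtain ⟨l, hl⟩ := PP16Lib.exists_pow_kill v.toRingHom (⟨2, hJ⟩ : IsNilpotent J) (k := k) fun x hx => by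
      rw [← Ideal.Quotient.eq_zero_iff_mem]
      exact (DFunLike.congr_fun hv x).trans (hk _ (by
        rw [← Ideal.map_pow]
        exact Ideal.mem_map_of_mem _ hx))
    let l' := max l k
    let vb : (S ⧸ I ^ l') →ₐ[R] E :=
      Ideal.Quotient.liftₐ _ v fun x hx => hl x (Ideal.pow_le_pow_right (le_max_left l k) hx)
    refine ⟨vb.comp ((AdicCompletion.evalₐ I l').restrictScalars R), AlgHom.ext fun z => ?_⟩
    obtain ⟨b, hb⟩ := Ideal.Quotient.mk_surjective (AdicCompletion.evalₐ I l' z)
    have hz : z - ι b ∈ (I.map (algebraMap S (AdicCompletion I S))) ^ l' := by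
      rw [map_cpl_pow_eq_ker I hI, RingHom.mem_ker, map_sub, hev, hb, sub_self]
    have h1 := hk _ (Ideal.pow_le_pow_right (le_max_right l k) hz)
    rw [map_sub, sub_eq_zero] at h1
    show Ideal.Quotient.mk J (vb (AdicCompletion.evalₐ I l' z)) = u z
    rw [h1, ← hb]
    exact DFunLike.congr_fun hv b
  · intro h E _ _ J hJ u hu
    obtain ⟨k, hk⟩ := hu
    let ub : (S ⧸ I ^ k) →ₐ[R] E ⧸ J := Ideal.Quotient.liftₐ _ u hk
    obtain ⟨v, hv⟩ := h E J hJ (ub.comp ((AdicCompletion.evalₐ I k).restrictScalars R))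
      ⟨k, fun z hz => by
        rw [map_cpl_pow_eq_ker I hI, RingHom.mem_ker] at hz
        show ub (AdicCompletion.evalₐ I k z) = 0
        rw [hz, map_zero]⟩
    refine ⟨v.comp ι, AlgHom.ext fun b => ?_⟩
    have h1 : Ideal.Quotient.mk J (v (ι b)) = ub (AdicCompletion.evalₐ I k (ι b)) := DFunLike.congr_fun hv (ι b)
    rw [hev] at h1
    exact h1

/-- Formal smoothness over a ring and over its completion agree. -/
theorem adicSmooth_base_completion_iff {T : Type u} [CommRing T] (m : Ideal R) (hm : m.FG) (K : Ideal T)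
    [Algebra R T] [Algebra (AdicCompletion m R) T] [IsScalarTower R (AdicCompletion m R) T]
    (hc : ∃ c : ℕ, (m ^ c).map (algebraMap R T) ≤ K) :
    CAlgX.IsAdicFormallySmooth (AdicCompletion m R) T K ↔ CAlgX.IsAdicFormallySmooth R T K := by
  let R' := AdicCompletion m R
  let M : Ideal R' := m.map (algebraMap R R')
  obtain ⟨c, hc⟩ := hc
  have hMK : ∀ j, ∀ x ∈ M ^ (c * j), algebraMap R' T x ∈ K ^ j := fun j x hx => by
    rw [← Ideal.map_pow] at hx
    have h1 := Ideal.mem_map_of_mem (algebraMap R' T) hx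
    rw [Ideal.map_map, ← IsScalarTower.algebraMap_eq, pow_mul, Ideal.map_pow] at h1
    exact Ideal.pow_right_mono hc j h1
  constructor
  · intro h E _ _ J hJ ψ hψ
    obtain ⟨k, hk⟩ := hψ
    let N := c * k * 2
    have hR : ∀ r ∈ m ^ N, algebraMap R E r = 0 := fun r hr => by
      have h1 : (m ^ (c * k)).map (algebraMap R E) ≤ J := Ideal.map_le_iff_le_comap.mpr fun a ha => by
        rw [Ideal.mem_comap, ← Ideal.Quotient.eq_zero_iff_mem]
        refine (ψ.commutes a).symm.trans (hk _ ?_)
        rw [IsScalarTower.algebraMap_apply R R' T]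
        exact hMK k _ (by rw [← Ideal.map_pow]; exact Ideal.mem_map_of_mem _ ha)
      rw [← Submodule.mem_bot E, ← hJ]
      refine Ideal.pow_right_mono h1 2 ?_
      rw [← Ideal.map_pow, ← pow_mul]
      exact Ideal.mem_map_of_mem _ hr
    let eE : R' →+* E := (Ideal.Quotient.lift (m ^ N) (algebraMap R E) hR).comp
      (AdicCompletion.evalₐ m N).toRingHom
    let _ : Algebra R' E := eE.toAlgebra
    have heE : ∀ r, eE (algebraMap R R' r) = algebraMap R E r := fun r => by
      show Ideal.Quotient.lift _ _ hR (AdicCompletion.evalₐ m N (algebraMap R R' r)) = _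
      rw [AlgHom.commutes]
      rfl
    let ψ' : T →ₐ[R'] E ⧸ J :=
      { ψ.toRingHom with
        commutes' := fun a => by
          show ψ (algebraMap R' T a) = Ideal.Quotient.mk J (eE a)
          obtain ⟨r, hr⟩ := exists_sub_mem_cpl m hm N a
          have h1 : eE (a - algebraMap R R' r) = 0 := by
            rw [map_cpl_pow_eq_ker m hm, RingHom.mem_ker] at hr
            show Ideal.Quotient.lift _ _ hR (AdicCompletion.evalₐ m N (a - algebraMap R R' r)) = 0
            rw [hr, map_zero]
          have h2 : ψ (algebraMap R' T (a - algebraMap R R' r)) = 0 :=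
            hk _ (hMK k _ (Ideal.pow_le_pow_right (by simp only [N]; omega) hr))
          rw [map_sub, map_sub, sub_eq_zero, ← IsScalarTower.algebraMap_apply, ψ.commutes] at h2
          rw [map_sub, sub_eq_zero, heE] at h1
          rw [h1, h2]
          rfl }
    obtain ⟨χ, hχ⟩ := h E J hJ ψ' ⟨k, hk⟩
    refine ⟨{ χ.toRingHom with commutes' := fun r => ?_ }, AlgHom.ext fun x => (AlgHom.congr_fun hχ x :)⟩
    show χ (algebraMap R T r) = _
    rw [IsScalarTower.algebraMap_apply R R' T, χ.commutes]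
    exact heE r
  · intro h E _ _ J hJ ψ hψ
    obtain ⟨k, hk⟩ := hψ
    let _ : Algebra R E := ((algebraMap R' E).comp (algebraMap R R')).toAlgebra
    have : IsScalarTower R R' E := .of_algebraMap_eq fun _ => rfl
    have : IsScalarTower R R' (E ⧸ J) := by
      exact IsScalarTower.of_algebraMap_eq (R := R) (S := R') (A := E ⧸ J) fun _ => rfl
    obtain ⟨χ, hχ⟩ := h E J hJ (ψ.restrictScalars R) ⟨k, hk⟩
    have hM : (M ^ (c * k)).map (algebraMap R' E) ≤ J := Ideal.map_le_iff_le_comap.mpr fun x hx => by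
      rw [Ideal.mem_comap, ← Ideal.Quotient.eq_zero_iff_mem]
      exact (ψ.commutes x).symm.trans (hk _ (hMK k x hx))
    have hχJ : (K ^ k).map χ.toRingHom ≤ J := Ideal.map_le_iff_le_comap.mpr fun x hx => by
      rw [Ideal.mem_comap, ← Ideal.Quotient.eq_zero_iff_mem]
      exact (AlgHom.congr_fun hχ x).trans (hk x hx)
    refine ⟨{ χ.toRingHom with commutes' := fun a => ?_ }, AlgHom.ext fun x => (AlgHom.congr_fun hχ x :)⟩
    obtain ⟨r, hr⟩ := exists_sub_mem_cpl m hm (c * k * 2) a
    have h1 : algebraMap R' E (a - algebraMap R R' r) = 0 := by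
      rw [← Submodule.mem_bot E, ← hJ]
      refine Ideal.pow_right_mono hM 2 ?_
      rw [← Ideal.map_pow, ← pow_mul]
      exact Ideal.mem_map_of_mem _ hr
    have h2 : χ (algebraMap R' T (a - algebraMap R R' r)) = 0 := by
      rw [← Submodule.mem_bot E, ← hJ]
      refine Ideal.pow_right_mono hχJ 2 ?_
      rw [← Ideal.map_pow, ← pow_mul]
      exact Ideal.mem_map_of_mem χ.toRingHom (hMK (k * 2) _ (by rwa [← mul_assoc]))
    rw [map_sub, map_sub, sub_eq_zero, ← IsScalarTower.algebraMap_apply, χ.commutes] at h2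
    rw [map_sub, sub_eq_zero, ← IsScalarTower.algebraMap_apply] at h1
    show χ (algebraMap R' T a) = algebraMap R' E a
    rw [h1, h2]

end Groth.Agent.GRing17
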