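import Groth.Agent.AdicFlat.Regular
import Groth.Agent.CohenStruct.Structure
import Groth.Agent.PP16Lib.AdicTopLift
import Groth.Agent.S4512
import Groth.Agent.S2456
import Groth.Agent.S0545
import Groth.Agent.S14002
import Groth.Agent.AdicLim.Noetherian
import Groth.Agent.CTensorRed.Main
import Mathlib.RingTheory.Flat.FaithfullyFlat.Algebra

/-!
# Adically formally smooth local maps are flat
-/

universe u

open IsLocalRing
open scoped TensorProduct

namespace Groth.Agent.GRing17

/-- Formal smoothness passes to the reduction by an ideal of the base. -/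
theorem adicSmooth_quotient {A B K S : Type u} [CommRing A] [CommRing B] [CommRing K] [CommRing S]
    [Algebra A B] [Algebra K S] [IsLocalRing B] [IsLocalRing S] (σ : A →+* K) (hσ : Function.Surjective σ)
    (r : B →+* S) (hr : Function.Surjective r) (hc : ∀ a, r (algebraMap A B a) = algebraMap K S (σ a))
    (hker : RingHom.ker r ≤ (RingHom.ker σ).map (algebraMap A B))
    (h : CAlgX.IsAdicFormallySmooth A B (maximalIdeal B)) :
    CAlgX.IsAdicFormallySmooth K S (maximalIdeal S) := by
  intro E _ _ N hN ψ hψ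
  obtain ⟨n, hn⟩ := hψ
  let _ : Algebra A E := ((algebraMap K E).comp σ).toAlgebra
  let ψ' : B →ₐ[A] E ⧸ N :=
    { ψ.toRingHom.comp r with
      commutes' := fun a => by
        show ψ (r (algebraMap A B a)) = _
        rw [hc, ψ.commutes]
        rfl }
  have hloc : IsLocalHom r := .of_surjective r hr
  obtain ⟨χ, hχ⟩ := h E N hN ψ' ⟨n, fun x hx => hn _ (by
    rw [← IsLocalRing.map_maximalIdeal_of_surjective r hr, ← Ideal.map_pow]
    exact Ideal.mem_map_of_mem r hx)⟩
  have hker' : RingHom.ker r ≤ RingHom.ker χ.toRingHom := hker.trans (Ideal.map_le_iff_le_comap.mpr fun a ha => by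
    show χ (algebraMap A B a) = 0
    rw [χ.commutes]
    show algebraMap K E (σ a) = 0
    rw [RingHom.mem_ker.mp ha, map_zero])
  let φ : S →+* E := RingHom.liftOfSurjective r hr ⟨χ.toRingHom, hker'⟩
  have hφ : ∀ b, φ (r b) = χ b := RingHom.liftOfSurjective_comp_apply r hr ⟨χ.toRingHom, hker'⟩
  refine ⟨{ φ with commutes' := fun k => ?_ }, AlgHom.ext fun s => ?_⟩
  · obtain ⟨a, rfl⟩ := hσ k
    show φ (algebraMap K S (σ a)) = _
    rw [← hc, hφ, χ.commutes]
    rfl
  · obtain ⟨b, rfl⟩ := hr s
    show Ideal.Quotient.mk N (φ (r b)) = ψ (r b)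
    rw [hφ]
    exact AlgHom.congr_fun hχ b

/-- The completion of an adically formally smooth local algebra. -/
theorem adicSmooth_completion {A B : Type u} [CommRing A] [CommRing B] [IsLocalRing B] [IsNoetherianRing B]
    [Algebra A B] (h : CAlgX.IsAdicFormallySmooth A B (maximalIdeal B)) :
    CAlgX.IsAdicFormallySmooth A (AdicCompletion (maximalIdeal B) B)
      (maximalIdeal (AdicCompletion (maximalIdeal B) B)) := by
  have h1 := (PP16Lib.formallySmoothAdic_completion_iff (𝔞 := (⊥ : Ideal A))).mp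
    (PP16Lib.formallySmoothAdic_of_adicSmooth h)
  rw [← AdicCompletion.maximalIdeal_eq_map] at h1
  exact PP16Lib.adicSmooth_of_formallySmoothAdic h1 ⟨1, by simp⟩

/-- A flat local algebra whose closed fibre is a given formally smooth algebra is formally smooth. -/
theorem adicSmooth_of_fibre {Λ k D Q : Type u} [CommRing Λ] [IsLocalRing Λ] [CommRing k] [CommRing D]
    [IsLocalRing D] [IsNoetherianRing D] [Algebra Λ D] [Module.Flat Λ D] [IsLocalHom (algebraMap Λ D)]
    [CommRing Q] [IsLocalRing Q] [Algebra k Q] (φ : Λ →+* k) (hφs : Function.Surjective φ)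
    (hφk : RingHom.ker φ = maximalIdeal Λ) (π : D →+* Q) (hπs : Function.Surjective π)
    (hc : ∀ l, π (algebraMap Λ D l) = algebraMap k Q (φ l))
    (hπk : RingHom.ker π ≤ (maximalIdeal Λ).map (algebraMap Λ D))
    (hQ : CAlgX.IsAdicFormallySmooth k Q (maximalIdeal Q)) :
    CAlgX.IsAdicFormallySmooth Λ D (maximalIdeal D) := by
  refine AdicFlat.adicSmooth_of_flat_geomRegular ?_
  obtain ⟨hFl, hFn⟩ := AdicFlat.fibre_isLocalRing (A := Λ) (B := D)
  refine PP16Lib.isGeometricallyRegular_iff_adicSmooth.mpr ?_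
  let kΛ := (maximalIdeal Λ).ResidueField
  have hsurjΛ : Function.Surjective (algebraMap Λ kΛ) := Ideal.algebraMap_residueField_surjective _
  let F := (maximalIdeal Λ).Fiber D
  let rF : D →+* F := (Algebra.TensorProduct.includeRight : D →ₐ[Λ] kΛ ⊗[Λ] D).toRingHom
  have hrF : ∀ l, rF (algebraMap Λ D l) = algebraMap Λ F l := fun l =>
    (Algebra.TensorProduct.includeRight : D →ₐ[Λ] kΛ ⊗[Λ] D).commutes l
  have hker1 : RingHom.ker π ≤ RingHom.ker rF := hπk.trans (Ideal.map_le_iff_le_comap.mpr fun l hl => by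
    rw [Ideal.mem_comap, RingHom.mem_ker, hrF, IsScalarTower.algebraMap_apply Λ kΛ F,
      Ideal.algebraMap_residueField_eq_zero.mpr hl, map_zero])
  let g : Q →+* F := RingHom.liftOfSurjective π hπs ⟨rF, hker1⟩
  have hg : ∀ d, g (π d) = rF d := RingHom.liftOfSurjective_comp_apply π hπs ⟨rF, hker1⟩
  have hgs : Function.Surjective g := fun x => by
    have hrs : Function.Surjective rF := fun x => by
      induction x using TensorProduct.induction_on with
      | zero => exact ⟨0, map_zero _⟩
      | add x y hx hy =>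
        obtain ⟨a, rfl⟩ := hx
        obtain ⟨b, rfl⟩ := hy
        exact ⟨a + b, map_add _ a b⟩
      | tmul c d =>
        obtain ⟨a, rfl⟩ := hsurjΛ c
        refine ⟨a • d, ?_⟩
        show (1 : kΛ) ⊗ₜ[Λ] (a • d) = _
        rw [← TensorProduct.smul_tmul, ← Algebra.algebraMap_eq_smul_one]
    obtain ⟨d, rfl⟩ := hrs x
    exact ⟨π d, hg d⟩
  let σ : k →+* kΛ := RingHom.liftOfSurjective φ hφs ⟨algebraMap Λ kΛ, fun l hl =>
    Ideal.algebraMap_residueField_eq_zero.mpr (hφk ▸ hl)⟩
  have hσ : ∀ l, σ (φ l) = algebraMap Λ kΛ l := RingHom.liftOfSurjective_comp_apply φ hφs _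
  have hσs : Function.Surjective σ := fun c => by
    obtain ⟨l, rfl⟩ := hsurjΛ c
    exact ⟨φ l, hσ l⟩
  refine adicSmooth_quotient σ hσs g hgs (fun x => ?_) ?_ hQ
  · obtain ⟨l, rfl⟩ := hφs x
    rw [← hc, hg, hrF, hσ, ← IsScalarTower.algebraMap_apply]
  · intro x hx
    obtain ⟨d, rfl⟩ := hπs x
    rw [RingHom.mem_ker, hg] at hx
    have h0 : ∀ l ∈ maximalIdeal Λ, algebraMap k Q (φ l) = 0 := fun l hl => by
      rw [show φ l = 0 from hφk.ge hl, map_zero]
    let _ : Algebra Λ Q := ((algebraMap k Q).comp φ).toAlgebra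
    let back₀ : kΛ →+* Q := RingHom.liftOfSurjective (algebraMap Λ kΛ) hsurjΛ
      ⟨algebraMap Λ Q, fun l hl => h0 l (Ideal.algebraMap_residueField_eq_zero.mp hl)⟩
    let back : F →+* Q := (Algebra.TensorProduct.lift
      ({ back₀ with commutes' := RingHom.liftOfSurjective_comp_apply (algebraMap Λ kΛ) hsurjΛ _ } : kΛ →ₐ[Λ] Q)
      ({ π with commutes' := hc } : D →ₐ[Λ] Q) fun _ _ => Commute.all _ _).toRingHom
    have hb : back (rF d) = π d :=
      (Algebra.TensorProduct.lift_tmul _ _ _ (1 : kΛ) d).trans (by rw [map_one, one_mul]; rfl)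
    rw [← hb, hx, map_zero]
    exact zero_mem _

/-- Flat lifts, along a field or a Cohen ring, of formally smooth complete local algebras over the residue field. -/
theorem exists_flat_lift {Λ : Type u} [CommRing Λ] [IsLocalRing Λ] [IsDomain Λ]
    (hΛ : IsField Λ ∨ (CAlg.IsCohenRing Λ ∧ ∃ p : ℕ, p.Prime ∧ maximalIdeal Λ = Ideal.span {(p : Λ)}))
    {Q : Type u} [CommRing Q] [IsLocalRing Q] [IsNoetherianRing Q] [Algebra Λ Q]
    (h0 : ∀ l ∈ maximalIdeal Λ, algebraMap Λ Q l = 0)
    (hQ : ∃ r, Nonempty (Q ≃+* MvPowerSeries (Fin r) (ResidueField Q))) :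
    ∃ (D : Type u) (_ : CommRing D) (_ : IsLocalRing D) (_ : IsNoetherianRing D) (_ : Algebra Λ D)
      (_ : Module.Flat Λ D) (_ : IsLocalHom (algebraMap Λ D)) (π : D →ₐ[Λ] Q),
      Function.Surjective π ∧ RingHom.ker π ≤ (maximalIdeal Λ).map (algebraMap Λ D) ∧
        IsAdicComplete (maximalIdeal D) D ∧ IsRegularRing D := by
  rcases hΛ with hF | ⟨hCR, p, hp, hmax⟩
  · refine ⟨Q, inferInstance, inferInstance, inferInstance, inferInstance, ?_, ⟨fun x hx => ?_⟩,
      AlgHom.id Λ Q, Function.surjective_id, fun x hx => ?_, ?_, ?_⟩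
    · let := hF.toField
      exact (inferInstance : Module.Flat Λ Q)
    · by_contra hu
      rw [h0 x ((mem_maximalIdeal x).mpr hu)] at hx
      exact not_isUnit_zero hx
    · rw [show x = 0 from RingHom.mem_ker.mp hx]
      exact zero_mem _
    · obtain ⟨r, ⟨eQ⟩⟩ := hQ
      have := CTensorRed.isAdicComplete_maximalIdeal (B := ResidueField Q) (d := r)
      rw [show maximalIdeal Q = (maximalIdeal (MvPowerSeries (Fin r) (ResidueField Q))).map eQ.symm from
        (IsLocalRing.eq_maximalIdeal (Ideal.map_isMaximal_of_equiv eQ.symm)).symm]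
      exact (IsAdicComplete.congr_ringEquiv _ eQ.symm).mpr inferInstance
    · obtain ⟨r, ⟨eQ⟩⟩ := hQ
      exact FlatAscent.isRegularRing_transport eQ.symm (PP16Lib.isRegularRing_mvPowerSeries r)
  · have : Fact p.Prime := ⟨hp⟩
    have hpΛ : (p : Λ) ∈ maximalIdeal Λ := hmax ▸ Ideal.mem_span_singleton_self _
    have hpQ : (p : Q) = 0 := by rw [← map_natCast (algebraMap Λ Q)]; exact h0 _ hpΛ
    have : CharP (ResidueField Q) p := (CharP.charP_iff_prime_eq_zero hp).mpr (by
      rw [← map_natCast (residue Q), hpQ, map_zero])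
    obtain ⟨Λ', _, _, _, hΛ', hmax', ⟨e⟩⟩ := CohenStruct.exists_cohenRing p (ResidueField Q)
    obtain ⟨r, ⟨eQ⟩⟩ := hQ
    obtain ⟨_, hdvr', hc', -⟩ := hΛ'
    obtain ⟨_, hdvr, -⟩ := id hCR
    let D := MvPowerSeries (Fin r) Λ'
    let f : Λ' →+* ResidueField Q := e.toRingHom.comp (residue Λ')
    have hf : Function.Surjective f := e.surjective.comp residue_surjective
    let π₀ : D →+* Q := eQ.symm.toRingHom.comp (MvPowerSeries.map f)
    have hπ₀ : Function.Surjective π₀ := eQ.symm.surjective.comp fun y =>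
      ⟨fun n => Function.surjInv hf (y n), funext fun n => Function.surjInv_eq hf (y n)⟩
    have hkerD : ∀ x : D, π₀ x = 0 → (p : D) ∣ x := fun x hx => by
      have h1 : MvPowerSeries.map f x = 0 := eQ.symm.injective (hx.trans (map_zero _).symm)
      have h2 : ∀ n, ∃ c, MvPowerSeries.coeff n x = (p : Λ') * c := fun n => by
        have h3 : f (MvPowerSeries.coeff n x) = 0 := by rw [← MvPowerSeries.coeff_map, h1, map_zero]
        have h4 := (map_eq_zero_iff _ e.injective).mp h3
        rw [residue_eq_zero_iff, hmax', Ideal.mem_span_singleton] at h4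
        exact h4
      choose c hc using h2
      refine ⟨(fun n => c n : D), MvPowerSeries.ext fun n => ?_⟩
      rw [← map_natCast (MvPowerSeries.C (σ := Fin r) (R := Λ')) p, MvPowerSeries.coeff_C_mul, hc n]
      rfl
    have hπp : π₀ (p : D) = 0 := by rw [map_natCast, hpQ]
    let J : Ideal D := RingHom.ker π₀
    have hJ : J ≠ ⊤ := RingHom.ker_ne_top π₀
    let e₀ : D ⧸ J ≃+* Q := RingHom.quotientKerEquivOfSurjective hπ₀
    have : IsLocalRing (D ⧸ J) := e₀.symm.isLocalRing
    have : IsAdicComplete (maximalIdeal D) D := CTensorRed.isAdicComplete_maximalIdeal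
    let u : Λ →+* D ⧸ J := e₀.symm.toRingHom.comp (algebraMap Λ Q)
    have : IsLocalHom u := ⟨fun x hx => by
      by_contra hu
      have : u x = 0 := by
        show e₀.symm (algebraMap Λ Q x) = 0
        rw [h0 x ((mem_maximalIdeal x).mpr hu), map_zero]
      rw [this] at hx
      exact not_isUnit_zero hx⟩
    obtain ⟨v, hvl, hv⟩ := S2456.result (W := Λ) (C := D) (Or.inr hCR) J hJ u
    let _ : Algebra Λ D := v.toAlgebra
    have hπv : ∀ l, π₀ (v l) = algebraMap Λ Q l := fun l => by
      have h1 := RingHom.congr_fun hv l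
      have h2 : e₀ (Ideal.Quotient.mk J (v l)) = π₀ (v l) := rfl
      rw [← h2]
      exact (congrArg e₀ h1).trans (e₀.apply_symm_apply _)
    have hp' : (p : Λ') ≠ 0 := fun h' => hdvr'.not_a_field' (by rw [hmax', h']; simp)
    have hpD : (p : D) ≠ 0 := fun h' => hp' (by
      rw [← map_natCast (MvPowerSeries.constantCoeff (σ := Fin r) (R := Λ')), h', map_zero])
    have hinj : Function.Injective (algebraMap Λ D) := (injective_iff_map_eq_zero _).mpr fun x hx => by
      by_contra hx0
      obtain ⟨π, hπ⟩ := IsDiscreteValuationRing.exists_irreducible Λ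
      have hpΛ0 : (p : Λ) ≠ 0 := fun h' => hdvr.not_a_field' (by rw [hmax, h']; simp)
      obtain ⟨n, u, hu⟩ := IsDiscreteValuationRing.eq_unit_mul_pow_irreducible hx0 hπ
      obtain ⟨m, u', hu'⟩ := IsDiscreteValuationRing.eq_unit_mul_pow_irreducible hpΛ0 hπ
      have hzero : algebraMap Λ D π ^ n = 0 := by
        rw [hu, map_mul, map_pow] at hx
        exact ((u.isUnit.map (algebraMap Λ D)).mul_right_eq_zero).mp hx
      rcases Nat.eq_zero_or_pos m with hm | hm
      · rw [hm, pow_zero, mul_one] at hu'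
        exact (maximalIdeal.isMaximal Λ).ne_top (Ideal.eq_top_of_isUnit_mem _ hpΛ (hu' ▸ u'.isUnit))
      · refine pow_ne_zero n hpD ?_
        rw [← map_natCast (algebraMap Λ D), hu', ← map_pow, mul_pow, ← pow_mul, mul_comm m n, pow_mul,
          map_mul, map_pow (algebraMap Λ D) (π ^ n) m, map_pow (algebraMap Λ D) π n, hzero, zero_pow hm.ne', mul_zero]
    have : IsDomain D := NoZeroDivisors.to_isDomain D
    have : Module.IsTorsionFree Λ D := Module.isTorsionFree_iff_algebraMap_injective.mpr hinj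
    refine ⟨D, inferInstance, inferInstance, inferInstance, inferInstance, inferInstance, hvl,
      ({ π₀ with commutes' := hπv } : D →ₐ[Λ] Q), hπ₀, fun x hx => ?_, inferInstance,
      PP16Lib.isRegularRing_mvPowerSeries r⟩
    obtain ⟨c, rfl⟩ := hkerD x hx
    rw [← map_natCast (algebraMap Λ D)]
    exact Ideal.mul_mem_right _ _ (Ideal.mem_map_of_mem _ hpΛ)

/-- A surjective endomorphism of a Noetherian ring is injective. -/
theorem injective_of_surjective_end {R : Type u} [CommRing R] [IsNoetherianRing R] (f : R →+* R)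
    (hf : Function.Surjective f) : Function.Injective f := by
  let g : ℕ → (R →+* R) := fun n => Nat.rec (RingHom.id R) (fun _ h => f.comp h) n
  have hg : ∀ n x, g (n + 1) x = f (g n x) := fun _ _ => rfl
  have hgs : ∀ n, Function.Surjective (g n) := fun n => by
    induction n with
    | zero => exact Function.surjective_id
    | succ n ih => exact hf.comp ih
  have hmono : Monotone fun n => RingHom.ker (g n) := monotone_nat_of_le_succ fun n x hx => by
    rw [RingHom.mem_ker, hg, RingHom.mem_ker.mp hx, map_zero]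
  obtain ⟨N, hN⟩ := monotone_stabilizes_iff_noetherian.mpr (inferInstance : IsNoetherian R R) ⟨_, hmono⟩
  refine (injective_iff_map_eq_zero f).mpr fun x hx => ?_
  obtain ⟨y, rfl⟩ := hgs N x
  exact RingHom.mem_ker.mp ((hN (N + 1) N.le_succ).symm.le (RingHom.mem_ker.mpr ((hg N y).trans hx)))

/-- Over an Artinian local ring adically formally smooth local algebras are flat. -/
theorem flat_of_adicSmooth_artinian {A B : Type u} [CommRing A] [IsLocalRing A] [IsNoetherianRing A]
    [CommRing B] [IsLocalRing B] [IsNoetherianRing B] [Algebra A B] [IsLocalHom (algebraMap A B)] (e : ℕ)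
    (he : maximalIdeal A ^ e = ⊥) (h : CAlgX.IsAdicFormallySmooth A B (maximalIdeal B)) :
    Module.Flat A B := by
  classical
  have : IsAdicComplete (maximalIdeal A) A := CTensorRed.isAdicComplete_of_pow_eq_bot _ he
  obtain ⟨Λ, _, _, _, φ, -, hφs, hΛ⟩ := CohenStruct.exists_coefficientRing A
  have hφ : ∀ l ∈ maximalIdeal Λ, φ l ∈ maximalIdeal A := fun l hl => by
    rcases hΛ with hF | ⟨-, p, -, hmax, -, hpA⟩
    · rw [IsLocalRing.isField_iff_maximalIdeal_eq.mp hF] at hl
      rw [(Submodule.mem_bot Λ).mp hl, map_zero]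
      exact zero_mem _
    · rw [hmax, Ideal.mem_span_singleton'] at hl
      obtain ⟨c, rfl⟩ := hl
      rw [map_mul, map_natCast]
      exact Ideal.mul_mem_left _ _ hpA
  let _ : Algebra Λ A := φ.toAlgebra
  let Bh := AdicCompletion (maximalIdeal B) B
  have : IsNoetherianRing Bh := CohenStruct.isNoetherianRing_completion B
  let _ : Algebra Λ Bh := ((algebraMap A Bh).comp φ).toAlgebra
  have : IsScalarTower Λ A Bh := .of_algebraMap_eq fun _ => rfl
  let J : Ideal Bh := (maximalIdeal A).map (algebraMap A Bh)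
  have hJM : J ≤ maximalIdeal Bh := Ideal.map_le_iff_le_comap.mpr fun a ha => by
    show algebraMap A Bh a ∈ maximalIdeal Bh
    rw [IsScalarTower.algebraMap_apply A B Bh, AdicCompletion.maximalIdeal_eq_map]
    exact Ideal.mem_map_of_mem _ (map_nonunit (algebraMap A B) a ha)
  have hJne : J ≠ ⊤ := ne_top_of_le_ne_top (maximalIdeal.isMaximal Bh).ne_top hJM
  have hJe : J ^ e = ⊥ := by rw [← Ideal.map_pow, he, Ideal.map_bot]
  let Q := Bh ⧸ J
  have : IsScalarTower Λ A Q := by exact IsScalarTower.of_algebraMap_eq (R := Λ) (S := A) (A := Q) fun _ => rfl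
  have : Nontrivial Q := Ideal.Quotient.nontrivial_iff.mpr hJne
  have : IsLocalRing Q := IsLocalRing.of_surjective' _ Ideal.Quotient.mk_surjective
  have hmQ : (maximalIdeal Bh).map (Ideal.Quotient.mk J) = maximalIdeal Q :=
    map_maximalIdeal_of_surjective _ Ideal.Quotient.mk_surjective
  have : IsAdicComplete (maximalIdeal Q) Q := by
    rw [← hmQ]
    exact AdicLim.isAdicComplete_quotient J
  -- the closed fibre is formally smooth over the residue field
  let k := A ⧸ maximalIdeal A
  let _ : Field k := Ideal.Quotient.field _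
  let _ : Algebra k Q := (Ideal.quotientMap J (algebraMap A Bh) Ideal.le_comap_map).toAlgebra
  have hQfs : CAlgX.IsAdicFormallySmooth k Q (maximalIdeal Q) :=
    adicSmooth_quotient (Ideal.Quotient.mk (maximalIdeal A)) Ideal.Quotient.mk_surjective (Ideal.Quotient.mk J)
      Ideal.Quotient.mk_surjective (fun a => (Ideal.quotientMap_mk ..).symm)
      (by rw [Ideal.mk_ker, Ideal.mk_ker]) (adicSmooth_completion h)
  obtain ⟨r, ⟨eQ⟩⟩ := (S4512.result hQfs).2
  let eQ' : Q ≃+* MvPowerSeries (Fin r) (ResidueField Q) :=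
    (RingEquiv.ofBijective (algebraMap Q (AdicCompletion (maximalIdeal Q) Q))
      (AdicCompletion.of_bijective (maximalIdeal Q) Q)).trans eQ
  obtain ⟨D, _, _, _, _, _, _, π, hπs, hπk, -, -⟩ := exists_flat_lift
    (Λ := Λ) (Q := Q) (hΛ.imp_right fun ⟨h1, p, h2, h3, _⟩ => ⟨h1, p, h2, h3⟩)
    (fun l hl => by
      rw [IsScalarTower.algebraMap_apply Λ A Q, IsScalarTower.algebraMap_apply A Bh Q]
      exact Ideal.Quotient.eq_zero_iff_mem.mpr (Ideal.mem_map_of_mem _ (hφ l hl))) ⟨r, ⟨eQ'⟩⟩
  -- the flat model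
  let C := A ⊗[Λ] D
  let πC : C →ₐ[A] Q := Algebra.TensorProduct.lift (Algebra.ofId A Q) π fun _ _ => Commute.all _ _
  have hπC : ∀ d, πC ((1 : A) ⊗ₜ d) = π d := fun d => by
    rw [Algebra.TensorProduct.lift_tmul, map_one, one_mul]
  have hπCs : Function.Surjective πC := fun q => by
    obtain ⟨d, rfl⟩ := hπs q
    exact ⟨_, hπC d⟩
  let mC : Ideal C := (maximalIdeal A).map (algebraMap A C)
  have hmCe : mC ^ e = ⊥ := by rw [← Ideal.map_pow, he, Ideal.map_bot]
  have hdec : ∀ x : C, ∃ d : D, x - (1 : A) ⊗ₜ d ∈ mC := fun x => by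
    induction x using TensorProduct.induction_on with
    | zero => exact ⟨0, by rw [TensorProduct.tmul_zero, sub_zero]; exact zero_mem _⟩
    | add x y hx hy =>
      obtain ⟨d, hd⟩ := hx
      obtain ⟨d', hd'⟩ := hy
      refine ⟨d + d', ?_⟩
      rw [TensorProduct.tmul_add, add_sub_add_comm]
      exact add_mem hd hd'
    | tmul a d =>
      obtain ⟨l, hl⟩ := hφs (residue A a)
      refine ⟨l • d, ?_⟩
      have hal : a - φ l ∈ maximalIdeal A := by
        rw [← residue_eq_zero_iff, map_sub, ← hl]; exact sub_self _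
      have h2 : a ⊗ₜ[Λ] d - (1 : A) ⊗ₜ[Λ] (l • d) = algebraMap A C (a - φ l) * ((1 : A) ⊗ₜ d) := by
        rw [Algebra.TensorProduct.algebraMap_apply, Algebra.TensorProduct.tmul_mul_tmul, one_mul,
          ← TensorProduct.smul_tmul, ← TensorProduct.sub_tmul, Algebra.smul_def]
        simp [RingHom.algebraMap_toAlgebra]
      rw [h2]
      exact Ideal.mul_mem_right _ _ (Ideal.mem_map_of_mem _ hal)
  have hπCk : RingHom.ker πC = mC := by
    refine le_antisymm (fun x hx => ?_) (Ideal.map_le_iff_le_comap.mpr fun a ha => ?_)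
    · obtain ⟨d, hd⟩ := hdec x
      have hmk : ∀ y ∈ mC, πC y = 0 := fun y hy => by
        have h1 : mC.map πC.toRingHom ≤ ⊥ := by
          rw [Ideal.map_map, AlgHom.toRingHom_eq_coe, AlgHom.comp_algebraMap, Ideal.map_le_iff_le_comap]
          intro a ha
          rw [Ideal.mem_comap, Ideal.mem_bot, IsScalarTower.algebraMap_apply A Bh Q]
          exact Ideal.Quotient.eq_zero_iff_mem.mpr (Ideal.mem_map_of_mem _ ha)
        exact (Submodule.mem_bot Q).mp (h1 (Ideal.mem_map_of_mem _ hy))
      have h1 := hmk _ hd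
      rw [map_sub, RingHom.mem_ker.mp hx, zero_sub, neg_eq_zero, hπC] at h1
      have h2 : (1 : A) ⊗ₜ[Λ] d ∈ mC := by
        have h3 := Ideal.mem_map_of_mem (Algebra.TensorProduct.includeRight : D →ₐ[Λ] C).toRingHom (hπk h1)
        rw [Ideal.map_map, AlgHom.toRingHom_eq_coe, AlgHom.comp_algebraMap] at h3
        refine (Ideal.map_le_iff_le_comap.mpr fun l hl => ?_) h3
        rw [Ideal.mem_comap, IsScalarTower.algebraMap_apply Λ A C]
        exact Ideal.mem_map_of_mem _ (hφ l hl)
      rw [← sub_add_cancel x ((1 : A) ⊗ₜ[Λ] d)]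
      exact add_mem hd h2
    · rw [Ideal.mem_comap, RingHom.mem_ker, AlgHom.commutes, IsScalarTower.algebraMap_apply A Bh Q]
      exact Ideal.Quotient.eq_zero_iff_mem.mpr (Ideal.mem_map_of_mem _ ha)
  have : IsAdicComplete mC C := CTensorRed.isAdicComplete_of_pow_eq_bot _ hmCe
  let eC : C ⧸ mC ≃+* Q :=
    (Ideal.quotEquivOfEq hπCk.symm).trans (RingHom.quotientKerEquivOfSurjective (f := (πC : C →+* Q)) hπCs)
  have : IsNoetherianRing (C ⧸ mC) := isNoetherianRing_of_ringEquiv Q eC.symm
  have : IsNoetherianRing C :=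
    AdicLim.isNoetherianRing_of_isAdicComplete (I := mC) (Ideal.FG.map (IsNoetherian.noetherian (maximalIdeal A)) _)
  have hunit : ∀ x : C, IsUnit (πC x) → IsUnit x := fun x hx => by
    obtain ⟨y, hy⟩ := hπCs (hx.unit⁻¹ : Qˣ)
    have hnil : IsNilpotent (x * y - 1) := ⟨e, (Submodule.mem_bot C).mp (hmCe ▸ Ideal.pow_mem_pow
      (hπCk ▸ RingHom.mem_ker.mpr (by rw [map_sub, map_mul, hy, IsUnit.mul_val_inv, map_one, sub_self])) e)⟩
    have h1 : IsUnit (x * y) := by simpa using hnil.isUnit_add_one
    exact isUnit_of_mul_isUnit_left h1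
  have : Nontrivial C := πC.toRingHom.domain_nontrivial
  have : IsLocalRing C := IsLocalRing.of_isUnit_or_isUnit_one_sub_self fun x =>
    (IsLocalRing.isUnit_or_isUnit_one_sub_self (πC x)).imp (hunit x) fun h' => hunit _ (by rwa [map_sub, map_one])
  have hmC : (maximalIdeal C).map πC.toRingHom = maximalIdeal Q :=
    map_maximalIdeal_of_surjective _ hπCs
  have : IsLocalRing (C ⧸ mC) := eC.symm.isLocalRing
  have hmCQ : (maximalIdeal C).map (Ideal.Quotient.mk mC) = maximalIdeal (C ⧸ mC) :=
    map_maximalIdeal_of_surjective _ Ideal.Quotient.mk_surjective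
  have hcQ : IsAdicComplete (maximalIdeal (C ⧸ mC)) (C ⧸ mC) := by
    have h1 : (maximalIdeal Q).map eC.symm = maximalIdeal (C ⧸ mC) :=
      IsLocalRing.eq_maximalIdeal (Ideal.map_isMaximal_of_equiv eC.symm)
    rw [← h1]
    exact (IsAdicComplete.congr_ringEquiv (maximalIdeal Q) eC.symm).mpr inferInstance
  have : IsAdicComplete (maximalIdeal C) C := by
    have : IsAdicComplete ((maximalIdeal C).map (Ideal.Quotient.mk mC)) (C ⧸ mC) := by rw [hmCQ]; exact hcQ
    exact S0545.result C mC (maximalIdeal C)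
  -- `B → C`
  have hfs := PP16Lib.formallySmoothAdic_of_adicSmooth (𝔞 := (⊥ : Ideal A)) h
  let eC' : (C ⧸ mC) ≃ₐ[A] Q := AlgEquiv.ofRingEquiv (f := eC) fun a => by
    show πC (algebraMap A C a) = _
    exact πC.commutes a
  let u₀ : B →ₐ[A] C ⧸ mC :=
    eC'.symm.toAlgHom.comp ((Ideal.Quotient.mkₐ A J).comp (IsScalarTower.toAlgHom A B Bh))
  have hu₀ : ∀ b, eC (u₀ b) = Ideal.Quotient.mk J (algebraMap B Bh b) := fun b => eC.apply_symm_apply _
  have : IsHausdorff ((maximalIdeal C).map (Ideal.Quotient.mk mC)) (C ⧸ mC) := by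
    rw [hmCQ]; infer_instance
  obtain ⟨u, -, hu⟩ := PP16Lib.exists_lift_complete hfs (maximalIdeal C) ⟨1, by simp⟩ mC
    ⟨1, by rw [pow_one]; exact IsLocalRing.le_maximalIdeal (fun h' => by
      have := congrArg (fun I : Ideal C => I ^ e) h'
      simp only [hmCe, Ideal.top_pow] at this
      exact bot_ne_top this)⟩ u₀
    ⟨1, by
      rw [pow_one, hmCQ, Ideal.map_le_iff_le_comap]
      intro b hb
      rw [Ideal.mem_comap, mem_maximalIdeal, mem_nonunits_iff]
      intro hun
      have h1 : IsUnit (eC (u₀ b)) := hun.map eC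
      rw [hu₀] at h1
      have h2 : Ideal.Quotient.mk J (algebraMap B Bh b) ∈ maximalIdeal Q :=
        hmQ ▸ Ideal.mem_map_of_mem _ (by rw [AdicCompletion.maximalIdeal_eq_map]; exact Ideal.mem_map_of_mem _ hb)
      exact h2 h1⟩
  -- `C → B̂`
  have hDfs : EGA41.IsFormallySmoothAdic Λ (⊥ : Ideal Λ) D (maximalIdeal D) := by
    refine PP16Lib.formallySmoothAdic_of_adicSmooth
      (adicSmooth_of_fibre ((Ideal.Quotient.mk (maximalIdeal A)).comp φ) (fun x => ?_) ?_ π.toRingHom hπs
        (fun l => π.commutes l) hπk hQfs)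
    · obtain ⟨a, rfl⟩ := Ideal.Quotient.mk_surjective x
      exact hφs (residue A a)
    · ext l
      rw [RingHom.mem_ker, RingHom.comp_apply, Ideal.Quotient.eq_zero_iff_mem]
      refine ⟨fun hl => ?_, hφ l⟩
      by_contra hu
      have h1 : IsUnit l := by rwa [mem_maximalIdeal, mem_nonunits_iff, not_not] at hu
      exact hl (h1.map φ)
  have hJH : IsHausdorff ((maximalIdeal Bh).map (Ideal.Quotient.mk J)) Q := by rw [hmQ]; infer_instance
  obtain ⟨d₀, -, hd₀⟩ := PP16Lib.exists_lift_complete hDfs (maximalIdeal Bh) ⟨1, by simp⟩ J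
    ⟨1, by rwa [pow_one]⟩ π
    ⟨1, by
      rw [pow_one, hmQ]
      exact (map_maximalIdeal_of_surjective π.toRingHom hπs).le⟩
  let v : C →ₐ[A] Bh := Algebra.TensorProduct.lift (Algebra.ofId A Bh) d₀ fun _ _ => Commute.all _ _
  have hv : ∀ x, Ideal.Quotient.mk J (v x) = πC x := fun x => by
    induction x using TensorProduct.induction_on with
    | zero => simp
    | add x y hx hy => rw [map_add, map_add, map_add, hx, hy]
    | tmul a d =>
      have h1 : Ideal.Quotient.mk J (d₀ d) = π d := AlgHom.congr_fun hd₀ d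
      rw [Algebra.TensorProduct.lift_tmul, map_mul, h1, Algebra.TensorProduct.lift_tmul]
      rfl
  -- the composite is a congruent automorphism
  let w : B →ₐ[A] Bh := v.comp u
  have hw : ∀ b, w b - algebraMap B Bh b ∈ J := fun b => by
    rw [← Ideal.Quotient.eq]
    show Ideal.Quotient.mk J (v (u b)) = _
    rw [hv]
    have h1 : Ideal.Quotient.mk mC (u b) = u₀ b := AlgHom.congr_fun hu b
    rw [← hu₀, ← h1]
    rfl
  have hwm : ∀ n, ∀ b ∈ maximalIdeal B ^ n, w b ∈ maximalIdeal Bh ^ n := fun n b hb => by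
    refine (Ideal.pow_right_mono (Ideal.map_le_iff_le_comap.mpr fun x hx => ?_) n)
      (Ideal.map_pow w.toRingHom (maximalIdeal B) n ▸ Ideal.mem_map_of_mem w.toRingHom hb)
    show w x ∈ maximalIdeal Bh
    rw [← sub_add_cancel (w x) (algebraMap B Bh x)]
    exact add_mem (hJM (hw x)) (by rw [AdicCompletion.maximalIdeal_eq_map]; exact Ideal.mem_map_of_mem _ hx)
  let fn : ∀ n, Bh →+* Bh ⧸ maximalIdeal Bh ^ n := fun n =>
    (Ideal.quotientMap (maximalIdeal Bh ^ n) w.toRingHom (hwm n)).comp (AdicCompletion.evalₐ (maximalIdeal B) n).toRingHom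
  have hfn : ∀ {m n : ℕ} (hle : m ≤ n), (Ideal.Quotient.factorPow (maximalIdeal Bh) hle).comp (fn n) = fn m := by
    intro m n hle
    refine RingHom.ext fun x => ?_
    show Ideal.Quotient.factorPow _ hle (Ideal.quotientMap _ w.toRingHom (hwm n)
      (AdicCompletion.evalₐ (maximalIdeal B) n x)) = Ideal.quotientMap _ w.toRingHom (hwm m)
      (AdicCompletion.evalₐ (maximalIdeal B) m x)
    obtain ⟨b, hb⟩ := Ideal.Quotient.mk_surjective (AdicCompletion.evalₐ (maximalIdeal B) n x)
    rw [← FormalFibre.factor_evalₐ (maximalIdeal B) hle x, ← hb]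
    rfl
  let wh : Bh →+* Bh := IsAdicComplete.liftRingHom (maximalIdeal Bh) fn hfn
  have hwh : ∀ n x, Ideal.Quotient.mk (maximalIdeal Bh ^ n) (wh x) = fn n x := fun n x =>
    IsAdicComplete.mk_liftRingHom _ fn hfn n x
  have hwhι : ∀ b, wh (algebraMap B Bh b) = w b := fun b => by
    refine (IsHausdorff.eq_iff_smodEq (I := maximalIdeal Bh)).mpr fun n => ?_
    rw [SModEq.sub_mem, smul_eq_mul, Ideal.mul_top, ← Ideal.Quotient.eq, hwh]
    show Ideal.quotientMap _ w.toRingHom (hwm n) (AdicCompletion.evalₐ (maximalIdeal B) n (algebraMap B Bh b)) = _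
    rw [AlgHom.commutes]
    rfl
  have hwhA : ∀ a, wh (algebraMap A Bh a) = algebraMap A Bh a := fun a => by
    rw [IsScalarTower.algebraMap_apply A B Bh, hwhι, w.commutes, ← IsScalarTower.algebraMap_apply]
  have hwhJ : ∀ x, wh x - x ∈ J := fun x => by
    have : IsHausdorff ((maximalIdeal Bh).map (Ideal.Quotient.mk J)) Q := hJH
    rw [← Ideal.Quotient.eq]
    refine (IsHausdorff.eq_iff_smodEq (I := (maximalIdeal Bh).map (Ideal.Quotient.mk J))).mpr fun n => ?_
    rw [SModEq.sub_mem, smul_eq_mul, Ideal.mul_top, ← Ideal.map_pow]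
    obtain ⟨b, hb⟩ := Ideal.Quotient.mk_surjective (AdicCompletion.evalₐ (maximalIdeal B) n x)
    have h1 : x - algebraMap B Bh b ∈ maximalIdeal Bh ^ n := by
      rw [AdicCompletion.maximalIdeal_eq_map, PP16Lib.map_completion_pow_eq_ker, RingHom.mem_ker, map_sub,
        AlgHom.commutes]
      rw [← hb]
      exact sub_self _
    have h2 : wh x - w b ∈ maximalIdeal Bh ^ n := by
      rw [← Ideal.Quotient.eq, hwh]
      show Ideal.quotientMap _ w.toRingHom (hwm n) (AdicCompletion.evalₐ (maximalIdeal B) n x) = _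
      rw [← hb]
      rfl
    have h3 : Ideal.Quotient.mk J (wh x) - Ideal.Quotient.mk J x =
        Ideal.Quotient.mk J ((wh x - w b) - (x - algebraMap B Bh b)) := by
      rw [map_sub, map_sub, map_sub, (Ideal.Quotient.eq.mpr (hw b) : Ideal.Quotient.mk J (w b) = _)]
      ring
    rw [h3]
    exact Ideal.mem_map_of_mem _ (sub_mem h2 h1)
  have hwhs : Function.Surjective wh := by
    intro y
    have key : ∀ i, ∀ y : Bh, ∃ x, y - wh x ∈ J ^ i := by
      intro i
      induction i with
      | zero => exact fun y => ⟨0, by simp⟩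
      | succ i ih =>
        intro y
        obtain ⟨x, hx⟩ := ih y
        suffices hJi : ∀ z ∈ J ^ i, ∃ x', z - wh x' ∈ J ^ (i + 1) by
          obtain ⟨x', hx'⟩ := hJi _ hx
          exact ⟨x + x', by rwa [map_add, ← sub_sub]⟩
        intro z hz
        have hz' : z ∈ Submodule.span Bh ((algebraMap A Bh) '' (maximalIdeal A ^ i : Ideal A)) := by
          rwa [← Ideal.map_pow] at hz
        clear hz hx
        induction hz' using Submodule.span_induction with
        | mem z hz =>
          obtain ⟨a, -, rfl⟩ := hz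
          exact ⟨algebraMap A Bh a, by rw [hwhA, sub_self]; exact zero_mem _⟩
        | zero => exact ⟨0, by rw [map_zero, sub_zero]; exact zero_mem _⟩
        | add a b ha' hb' ha hb =>
          obtain ⟨x₁, h₁⟩ := ha
          obtain ⟨x₂, h₂⟩ := hb
          exact ⟨x₁ + x₂, by rw [map_add, add_sub_add_comm]; exact add_mem h₁ h₂⟩
        | smul c a ha' ha =>
          have hai : a ∈ J ^ i := by rw [← Ideal.map_pow]; exact ha'
          obtain ⟨x₁, h₁⟩ := ha
          refine ⟨c * x₁, ?_⟩
          have h4 : c • a - wh (c * x₁) = wh c * (a - wh x₁) - (wh c - c) * a := by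
            rw [map_mul, smul_eq_mul]; ring
          rw [h4, pow_succ' J]
          exact sub_mem (Ideal.mul_mem_left _ _ (by rwa [← pow_succ'])) (Ideal.mul_mem_mul (hwhJ c) hai)
    obtain ⟨x, hx⟩ := key e y
    exact ⟨x, (sub_eq_zero.mp (by rwa [hJe, Ideal.mem_bot] at hx)).symm⟩
  let whA : Bh ≃ₐ[A] Bh := AlgEquiv.ofRingEquiv
    (f := RingEquiv.ofBijective wh ⟨injective_of_surjective_end wh hwhs, hwhs⟩) hwhA
  -- flatness
  have : Module.FaithfullyFlat B Bh := by
    have : IsLocalHom (algebraMap B Bh) := ⟨fun x hx => by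
      by_contra hu
      have h1 : algebraMap B Bh x ∈ maximalIdeal Bh := by
        rw [AdicCompletion.maximalIdeal_eq_map]; exact Ideal.mem_map_of_mem _ ((mem_maximalIdeal x).mpr hu)
      exact h1 hx⟩
    exact Module.FaithfullyFlat.of_flat_of_isLocalHom
  have : Module.Flat A C := inferInstance
  rw [Module.Flat.iff_lTensor_injective']
  intro I
  refine (injective_iff_map_eq_zero _).mpr fun z hz => ?_
  have h1 : LinearMap.rTensor I u.toLinearMap z = 0 := by
    refine Module.Flat.lTensor_preserves_injective_linearMap (M := C) I.subtype Subtype.val_injective ?_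
    rw [map_zero, ← LinearMap.comp_apply, LinearMap.lTensor_comp_rTensor, ← LinearMap.rTensor_comp_lTensor,
      LinearMap.comp_apply, hz, map_zero]
  let ι : B →ₗ[A] Bh := (IsScalarTower.toAlgHom A B Bh).toLinearMap
  have hcomp : whA.toLinearMap ∘ₗ ι = v.toLinearMap ∘ₗ u.toLinearMap := LinearMap.ext fun b => hwhι b
  have h2 : LinearMap.rTensor I ι z = 0 := by
    refine (LinearEquiv.rTensor I whA.toLinearEquiv).injective ?_
    rw [map_zero]
    show LinearMap.rTensor I whA.toLinearMap (LinearMap.rTensor I ι z) = 0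
    rw [← LinearMap.comp_apply, ← LinearMap.rTensor_comp, hcomp, LinearMap.rTensor_comp, LinearMap.comp_apply, h1,
      map_zero]
  let ε := TensorProduct.AlgebraTensorModule.cancelBaseChange A B B Bh I
  have hε : ∀ z : B ⊗[A] I, ε ((1 : Bh) ⊗ₜ[B] z) = LinearMap.rTensor I ι z := fun z => by
    induction z using TensorProduct.induction_on with
    | zero => simp
    | add a b ha hb => rw [TensorProduct.tmul_add, map_add, map_add, ha, hb]
    | tmul b i => simp [ε, ι, Algebra.smul_def]
  refine Module.FaithfullyFlat.tensorProduct_mk_injective (A := B) (B := Bh) (B ⊗[A] I) ?_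
  refine ε.injective ?_
  show ε ((1 : Bh) ⊗ₜ[B] z) = ε ((1 : Bh) ⊗ₜ[B] 0)
  rw [hε, h2, TensorProduct.tmul_zero, map_zero]

/-- Base change along a surjection `A → K`. -/
theorem baseChange_of_surjective {A B K : Type u} [CommRing A] [CommRing B] [CommRing K] [Algebra A B]
    [Algebra A K] (hσ : Function.Surjective (algebraMap A K)) :
    Function.Surjective (Algebra.TensorProduct.includeRight : B →ₐ[A] K ⊗[A] B) ∧
      RingHom.ker (Algebra.TensorProduct.includeRight : B →ₐ[A] K ⊗[A] B).toRingHom ≤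
        (RingHom.ker (algebraMap A K)).map (algebraMap A B) := by
  refine ⟨fun x => ?_, fun x hx => ?_⟩
  · induction x using TensorProduct.induction_on with
    | zero => exact ⟨0, map_zero _⟩
    | add x y hx hy =>
      obtain ⟨a, rfl⟩ := hx
      obtain ⟨b, rfl⟩ := hy
      exact ⟨a + b, map_add _ a b⟩
    | tmul c b =>
      obtain ⟨a, rfl⟩ := hσ c
      refine ⟨a • b, ?_⟩
      show (1 : K) ⊗ₜ[A] (a • b) = _
      rw [← TensorProduct.smul_tmul, ← Algebra.algebraMap_eq_smul_one]
  · let I := (RingHom.ker (algebraMap A K)).map (algebraMap A B)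
    let g₀ : K →+* B ⧸ I := RingHom.liftOfSurjective (algebraMap A K) hσ
      ⟨algebraMap A (B ⧸ I), fun a ha => Ideal.Quotient.eq_zero_iff_mem.mpr (Ideal.mem_map_of_mem _ ha)⟩
    let g : K →ₐ[A] B ⧸ I := { g₀ with
      commutes' := RingHom.liftOfSurjective_comp_apply (algebraMap A K) hσ _ }
    have h1 : Algebra.TensorProduct.lift g (Ideal.Quotient.mkₐ A I) (fun _ _ => Commute.all _ _)
        ((1 : K) ⊗ₜ x) = Ideal.Quotient.mk I x := by
      rw [Algebra.TensorProduct.lift_tmul, map_one, one_mul]; rfl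
    rw [show (1 : K) ⊗ₜ[A] x = 0 from hx, map_zero] at h1
    exact Ideal.Quotient.eq_zero_iff_mem.mp h1.symm

/-- **Adically formally smooth local maps of Noetherian local rings are flat with geometrically regular closed fibre.** -/
theorem flat_and_geomRegular_of_adicSmooth {A B : Type u} [CommRing A] [IsLocalRing A] [IsNoetherianRing A]
    [CommRing B] [IsLocalRing B] [IsNoetherianRing B] [Algebra A B] [IsLocalHom (algebraMap A B)]
    (h : CAlgX.IsAdicFormallySmooth A B (maximalIdeal B)) :
    Module.Flat A B ∧ CAlg.IsGeometricallyRegular (maximalIdeal A).ResidueField ((maximalIdeal A).Fiber B) := by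
  refine ⟨?_, ?_⟩
  · have hle : (maximalIdeal A).map (algebraMap A B) ≤ maximalIdeal B :=
      Ideal.map_le_iff_le_comap.mpr fun a ha => map_nonunit (algebraMap A B) a ha
    refine S14002.flat_of_forall_flat_quotient_pow (S := B) (maximalIdeal A)
      (by rw [IsLocalRing.jacobson_eq_maximalIdeal ⊥ bot_ne_top]; exact hle) fun n => ?_
    rcases Nat.eq_zero_or_pos n with rfl | hn
    · have : Subsingleton (A ⧸ maximalIdeal A ^ 0) := Ideal.Quotient.subsingleton_iff.mpr (by simp)
      infer_instance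
    let K := A ⧸ maximalIdeal A ^ n
    have hmn : maximalIdeal A ^ n ≠ ⊤ :=
      ne_top_of_le_ne_top (maximalIdeal.isMaximal A).ne_top (Ideal.pow_le_self hn.ne')
    have : Nontrivial K := Ideal.Quotient.nontrivial_iff.mpr hmn
    have : IsLocalRing K := IsLocalRing.of_surjective' _ Ideal.Quotient.mk_surjective
    have hmK : maximalIdeal K = (maximalIdeal A).map (Ideal.Quotient.mk (maximalIdeal A ^ n)) :=
      (map_maximalIdeal_of_surjective _ Ideal.Quotient.mk_surjective).symm
    let S := K ⊗[A] B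
    let r : B →ₐ[A] S := Algebra.TensorProduct.includeRight
    obtain ⟨hr, hker⟩ := baseChange_of_surjective (B := B) (K := K) (A := A) Ideal.Quotient.mk_surjective
    have hne : (maximalIdeal A ^ n).map (algebraMap A B) ≠ ⊤ :=
      ne_top_of_le_ne_top (maximalIdeal.isMaximal B).ne_top ((Ideal.map_mono (Ideal.pow_le_self hn.ne')).trans hle)
    have : Nontrivial S := by
      refine nontrivial_of_ne (r 1) 0 fun h1 => hne ((Ideal.eq_top_iff_one _).mpr ?_)
      have h2 := hker (RingHom.mem_ker.mpr h1)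
      rwa [show RingHom.ker (algebraMap A K) = maximalIdeal A ^ n from Ideal.mk_ker] at h2
    have : IsLocalRing S := IsLocalRing.of_surjective' r.toRingHom hr
    have : IsNoetherianRing S := isNoetherianRing_of_surjective B S r.toRingHom hr
    have hrl : IsLocalHom r.toRingHom := .of_surjective r.toRingHom hr
    have : IsLocalHom (algebraMap K S) := ⟨fun c hc => by
      obtain ⟨a, rfl⟩ := Ideal.Quotient.mk_surjective c
      have h1 : IsUnit (r.toRingHom (algebraMap A B a)) := by
        show IsUnit (r (algebraMap A B a))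
        rw [r.commutes]
        exact hc
      exact (isUnit_of_map_unit (algebraMap A B) a (isUnit_of_map_unit r.toRingHom _ h1)).map _⟩
    exact flat_of_adicSmooth_artinian n (by rw [hmK, ← Ideal.map_pow, Ideal.map_quotient_self])
      (adicSmooth_quotient (algebraMap A K) Ideal.Quotient.mk_surjective r.toRingHom hr
        (fun a => r.commutes a) hker h)
  · obtain ⟨_, _⟩ := AdicFlat.fibre_isLocalRing (A := A) (B := B)
    obtain ⟨hr, hker⟩ := baseChange_of_surjective (B := B) (K := (maximalIdeal A).ResidueField) (A := A)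
      (Ideal.algebraMap_residueField_surjective _)
    exact PP16Lib.isGeometricallyRegular_iff_adicSmooth.mpr
      (adicSmooth_quotient (algebraMap A (maximalIdeal A).ResidueField) (Ideal.algebraMap_residueField_surjective _)
        _ hr (fun a => AlgHom.commutes _ a) hker h)

end Groth.Agent.GRing17
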