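import Groth.Agent.GRing17.AdicSmoothFlat
import Groth.Agent.CohenStruct.QuasiExcellent

/-!
# Formally smooth maps of Artinian local rings are unramified on maximal ideals
-/

universe u v

open IsLocalRing

namespace Groth.Agent.GRing17

theorem map_maximalIdeal_eq_of_formallySmooth {A B : Type u} [CommRing A] [IsLocalRing A] [CommRing B] [IsLocalRing B]
    [IsArtinianRing B] [Algebra A B] [IsLocalHom (algebraMap A B)] [Algebra.FormallySmooth A B] :
    (maximalIdeal A).map (algebraMap A B) = maximalIdeal B := by
  let J : Ideal B := (maximalIdeal A).map (algebraMap A B)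
  have hle : J ≤ maximalIdeal B := Ideal.map_le_iff_le_comap.mpr fun a ha => map_nonunit (algebraMap A B) a ha
  have : Nontrivial (B ⧸ J) :=
    Ideal.Quotient.nontrivial_iff.mpr (ne_top_of_le_ne_top (maximalIdeal.isMaximal B).ne_top hle)
  have : IsLocalRing (B ⧸ J) := IsLocalRing.of_surjective' _ Ideal.Quotient.mk_surjective
  let _ : Algebra (ResidueField A) (B ⧸ J) := (Ideal.Quotient.lift (maximalIdeal A)
    ((Ideal.Quotient.mk J).comp (algebraMap A B))
    fun a ha => Ideal.Quotient.eq_zero_iff_mem.mpr (Ideal.mem_map_of_mem _ ha)).toAlgebra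
  have hQ : CAlgX.IsAdicFormallySmooth (ResidueField A) (B ⧸ J) (maximalIdeal (B ⧸ J)) :=
    adicSmooth_quotient (residue A) residue_surjective (Ideal.Quotient.mk J) Ideal.Quotient.mk_surjective
      (fun a => rfl) (by
        rw [Ideal.mk_ker]
        exact Ideal.map_mono (fun a ha => (residue_eq_zero_iff a).mpr ha))
      (fun E _ _ N hN ψ _ => Algebra.FormallySmooth.comp_surjective A B N hN ψ)
  have hreg : IsRegularRing (B ⧸ J) :=
    FlatAscent.isRegularRing_transport (Algebra.TensorProduct.lid (ResidueField A) (B ⧸ J)).toRingEquiv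
      ((S4512.result hQ).1 (ResidueField A) inferInstance)
  have := CohenStruct.isReduced_of_isRegularRing _ hreg
  refine le_antisymm hle fun x hx => ?_
  obtain ⟨n, hn⟩ : IsNilpotent (maximalIdeal B) := by
    rw [← IsLocalRing.jacobson_eq_maximalIdeal ⊥ bot_ne_top]
    exact IsArtinianRing.isNilpotent_jacobson_bot
  have hnil : IsNilpotent (Ideal.Quotient.mk J x) :=
    ⟨n, by rw [← map_pow, show x ^ n = 0 from (Submodule.mem_bot B).mp (hn.le (Ideal.pow_mem_pow hx n)), map_zero]⟩
  exact Ideal.Quotient.eq_zero_iff_mem.mp hnil.eq_zero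

theorem map_maximalIdeal_eq_of_formallySmooth' (A : Type u) (B : Type v) [CommRing A] [IsLocalRing A] [CommRing B]
    [IsLocalRing B] [IsArtinianRing B] [Algebra A B] [IsLocalHom (algebraMap A B)] [Algebra.FormallySmooth A B] :
    (maximalIdeal A).map (algebraMap A B) = maximalIdeal B := by
  let A' := ULift.{v} A
  let B' := ULift.{u} B
  let eA : A' ≃+* A := ULift.ringEquiv
  let eB : B' ≃+* B := ULift.ringEquiv
  have : IsLocalRing A' := eA.symm.isLocalRing
  have : IsLocalRing B' := eB.symm.isLocalRing
  have : IsArtinianRing B' := eB.symm.surjective.isArtinianRing (f := (eB.symm : B →+* B'))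
  let _ : Algebra A' B' := ((eB.symm.toRingHom.comp (algebraMap A B)).comp eA.toRingHom).toAlgebra
  have : IsLocalHom (algebraMap A' B') := ⟨fun x hx => by
    have h1 : IsUnit (algebraMap A B (eA x)) := by
      have := hx.map eB
      rwa [show eB (algebraMap A' B' x) = algebraMap A B (eA x) from eB.apply_symm_apply _] at this
    have h2 := (isUnit_of_map_unit (algebraMap A B) _ h1).map eA.symm
    rwa [eA.symm_apply_apply] at h2⟩
  have : Algebra.FormallySmooth A' B' := by
    rw [← RingHom.formallySmooth_algebraMap]
    exact ((RingHom.FormallySmooth.of_bijective (f := eA.toRingHom) eA.bijective).comp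
      (RingHom.formallySmooth_algebraMap.mpr ‹Algebra.FormallySmooth A B›)).comp
        (RingHom.FormallySmooth.of_bijective (f := eB.symm.toRingHom) eB.symm.bijective)
  have h := congrArg (Ideal.map eB.toRingHom) (map_maximalIdeal_eq_of_formallySmooth (A := A') (B := B'))
  rw [Ideal.map_map, map_maximalIdeal_of_surjective eB.toRingHom eB.surjective,
    show eB.toRingHom.comp (algebraMap A' B') = (algebraMap A B).comp eA.toRingHom from
      RingHom.ext fun x => eB.apply_symm_apply _,
    ← Ideal.map_map, map_maximalIdeal_of_surjective eA.toRingHom eA.surjective] at h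
  exact h

end Groth.Agent.GRing17
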