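import Groth.Agent.NagataJac.DerSep
import Mathlib.RingTheory.Localization.Integer

/-!
# Derivations of `K[[T]]` dual to parts of a `p`-basis of its fraction field
-/

universe u

open TensorProduct KaehlerDifferential

-- use the canonical `ℤ`-algebra structure
attribute [local instance 10000] Ring.toIntAlgebra

namespace Groth.Agent.GRing17

/-- Membership in a closure only involves finitely many generators. -/
theorem exists_finset_mem_closure {R : Type u} [CommRing R] {ι : Type*} (A : Set R) (b : ι → R) {x : R}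
    (hx : x ∈ Subring.closure (A ∪ Set.range b)) :
    ∃ T : Finset ι, x ∈ Subring.closure (A ∪ b '' T) := by
  classical
  have mono : ∀ {T T' : Finset ι}, T ⊆ T' → Subring.closure (A ∪ b '' T) ≤ Subring.closure (A ∪ b '' T') :=
    fun h => Subring.closure_mono (Set.union_subset_union le_rfl (Set.image_mono h))
  induction hx using Subring.closure_induction with
  | mem y hy =>
    rcases hy with hy | ⟨i, rfl⟩
    · exact ⟨∅, Subring.subset_closure (Or.inl hy)⟩
    · exact ⟨{i}, Subring.subset_closure (Or.inr ⟨i, Finset.mem_singleton_self i, rfl⟩)⟩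
  | zero => exact ⟨∅, zero_mem _⟩
  | one => exact ⟨∅, one_mem _⟩
  | add y z _ _ hy hz =>
    obtain ⟨T, hT⟩ := hy; obtain ⟨T', hT'⟩ := hz
    exact ⟨T ∪ T', add_mem (mono Finset.subset_union_left hT) (mono Finset.subset_union_right hT')⟩
  | neg y _ hy => obtain ⟨T, hT⟩ := hy; exact ⟨T, neg_mem hT⟩
  | mul y z _ _ hy hz =>
    obtain ⟨T, hT⟩ := hy; obtain ⟨T', hT'⟩ := hz
    exact ⟨T ∪ T', mul_mem (mono Finset.subset_union_left hT) (mono Finset.subset_union_right hT')⟩

/-- If `F = F^p[b]` then `F = F^(p^e)[b]` for every `e`. -/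
theorem closure_pow_pow_eq_top {p : ℕ} [Fact p.Prime] {F : Type u} [CommRing F] [CharP F p] {ι : Type*}
    {b : ι → F} (h : Subring.closure ((Set.range fun y : F => y ^ p) ∪ Set.range b) = ⊤) (e : ℕ) :
    Subring.closure ((Set.range fun y : F => y ^ p ^ e) ∪ Set.range b) = ⊤ := by
  induction e with
  | zero => exact eq_top_iff.2 fun x _ => Subring.subset_closure (Or.inl ⟨x, by simp⟩)
  | succ e ih =>
    refine eq_top_iff.2 (h.ge.trans (Subring.closure_le.2 ?_))
    rintro x (⟨y, rfl⟩ | hx)
    · have hle : Subring.closure ((Set.range fun y : F => y ^ p ^ e) ∪ Set.range b) ≤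
          (Subring.closure ((Set.range fun y : F => y ^ p ^ (e + 1)) ∪ Set.range b)).comap (frobenius F p) := by
        refine Subring.closure_le.2 ?_
        rintro z (⟨w, rfl⟩ | hz)
        · exact Subring.subset_closure (Or.inl ⟨w, by simp [frobenius_def, pow_succ, ← pow_mul]⟩)
        · exact pow_mem (Subring.subset_closure (Or.inr hz) :
            z ∈ Subring.closure ((Set.range fun y : F => y ^ p ^ (e + 1)) ∪ Set.range b)) p
      exact hle (ih.ge (Subring.mem_top y))
    · exact Subring.subset_closure (Or.inr hx)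

/-- For finitely many elements `c` of the fraction field of `K[[T]]` (characteristic `p`) and a power `q` of
`p` there are finitely many series `b`, with derivations of `K[[T]]` dual to them up to non-zero
factors, such that every `c` lies in `F^q[b]`. -/
theorem exists_dual_derivations {K : Type u} [Field K] {p : ℕ} [Fact p.Prime] [CharP K p] (n : ℕ)
    (F : Type u) [Field F] [Algebra (MvPowerSeries (Fin n) K) F]
    [IsFractionRing (MvPowerSeries (Fin n) K) F] (s : Finset F) (e : ℕ) :
    ∃ (ι : Type u) (_ : Finite ι) (b : ι → MvPowerSeries (Fin n) K)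
      (D : ι → Derivation ℤ (MvPowerSeries (Fin n) K) (MvPowerSeries (Fin n) K)),
      (∀ i j, i ≠ j → D i (b j) = 0) ∧ (∀ i, D i (b i) ≠ 0) ∧
      ∀ c ∈ s, c ∈ Subring.closure ((Set.range fun y : F => y ^ p ^ e) ∪
        Set.range fun i => algebraMap (MvPowerSeries (Fin n) K) F (b i)) := by
  classical
  let P := MvPowerSeries (Fin n) K
  obtain ⟨db⟩ := NagataJac.exists_dualBasis p K
  have hinj := IsFractionRing.injective P F
  have : CharP P p := charP_of_injective_ringHom (MvPowerSeries.C_injective (σ := Fin n) (R := K)) p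
  have hpF : CharP F p := charP_of_injective_algebraMap (R := P) hinj p
  obtain ⟨dbF⟩ := NagataJac.exists_dualBasis p F
  have hsT : ∀ c : F, ∃ T : Finset dbF.ι₀,
      c ∈ Subring.closure ((Set.range fun y : F => y ^ p ^ e) ∪ dbF.b '' T) := fun c =>
    exists_finset_mem_closure _ _ ((closure_pow_pow_eq_top dbF.closure_eq e).ge (Subring.mem_top c))
  choose T hT using hsT
  let ι := {i // i ∈ s.biUnion T}
  -- clear denominators with `q`-th powers
  have hfrac : ∀ i : ι, ∃ (x : P) (t : F), t ≠ 0 ∧ algebraMap P F x = dbF.b i * t ^ p ^ e := fun i => by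
    obtain ⟨a, d, hd, had⟩ := IsFractionRing.div_surjective P (dbF.b i)
    have hd0 : algebraMap P F d ≠ 0 := IsFractionRing.to_map_ne_zero_of_mem_nonZeroDivisors hd
    obtain ⟨k, hk⟩ : ∃ k, p ^ e = k + 1 :=
      Nat.exists_eq_succ_of_ne_zero (pow_ne_zero _ (Nat.Prime.ne_zero Fact.out))
    refine ⟨a * d ^ k, algebraMap P F d, hd0, ?_⟩
    rw [← had, map_mul, map_pow, hk, pow_succ]
    field_simp
  choose b t ht hb using hfrac
  have hδb : ∀ (i : dbF.ι₀) (j : ι), dbF.δ i (algebraMap P F (b j)) =
      t j ^ p ^ e * dbF.δ i (dbF.b j) + if e = 0 then dbF.b j * dbF.δ i (t j) else 0 := fun i j => by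
    rw [hb, Derivation.leibniz, Derivation.leibniz_pow, smul_eq_mul, smul_eq_mul, smul_eq_mul,
      ← Nat.cast_smul_eq_nsmul F, smul_eq_mul]
    split_ifs with he
    · subst he; simp [add_comm]
    · rw [Nat.cast_pow, CharP.cast_eq_zero F p, zero_pow he, zero_mul, mul_zero, zero_add, add_zero]
  -- the case `e = 0` needs no generators
  by_cases he : e = 0
  · refine ⟨PEmpty, inferInstance, PEmpty.elim, fun i => i.elim, fun i => i.elim, fun i => i.elim, fun c _ => ?_⟩
    exact Subring.subset_closure (Or.inl ⟨c, by simp [he]⟩)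
  let F' := F ⊗[P] Ω[P⁄ℤ]
  let v : ι → F' := fun j => (1 : F) ⊗ₜ D ℤ P (b j)
  have hvd : ∀ (i : dbF.ι₀) (j : ι), (dbF.δ i).liftKaehlerDifferential (NagataJac.fracEquiv F (v j)) =
      dbF.δ i (algebraMap P F (b j)) := fun i j => by
    rw [NagataJac.fracEquiv_apply, show v j = (1 : F) ⊗ₜ D ℤ (MvPowerSeries (Fin n) K) (b j) from rfl,
      mapBaseChange_tmul, one_smul, map_D, Derivation.liftKaehlerDifferential_comp_D]
  have hv : LinearIndependent F v := by
    refine Fintype.linearIndependent_iff.2 fun g hg i => ?_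
    have h1 := congrArg (fun z => (dbF.δ i).liftKaehlerDifferential (NagataJac.fracEquiv F z)) hg
    simp only [map_sum, map_smul, map_zero, hvd, hδb, he, if_false, add_zero, dbF.dual, smul_eq_mul] at h1
    rw [Finset.sum_eq_single i] at h1
    · rw [if_pos rfl, mul_one] at h1
      exact (mul_eq_zero.mp h1).resolve_right (pow_ne_zero _ (ht i))
    · intro j _ hj
      rw [if_neg fun h => hj (Subtype.ext h).symm, mul_zero, mul_zero]
    · exact fun h => absurd (Finset.mem_univ i) h
  have : Module.Finite F (Submodule.span F (Set.range v)) :=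
    Module.Finite.span_of_finite F (Set.finite_range v)
  obtain ⟨S, hS⟩ := NagataJac.exists_inf_eq_bot (Submodule.span F (Set.range v)) _
    (NagataJac.ker_phi_anti (σ := Fin n) db F) (NagataJac.iInf_ker_phi_fraction db F)
  let f : (ι → F) →ₗ[F] (S ⊕ Fin n → F) := (NagataJac.phi db F S).comp (Fintype.linearCombination F v)
  have hf : LinearMap.ker f = ⊥ := by
    refine LinearMap.ker_eq_bot'.2 fun g hg => ?_
    have hmem : Fintype.linearCombination F v g ∈
        Submodule.span F (Set.range v) ⊓ LinearMap.ker (NagataJac.phi db F S) :=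
      ⟨by rw [← Fintype.range_linearCombination F v]; exact LinearMap.mem_range_self _ g, hg⟩
    rw [hS S le_rfl, Submodule.mem_bot, Fintype.linearCombination_apply] at hmem
    exact funext (Fintype.linearIndependent_iff.1 hv g hmem)
  obtain ⟨g, hg⟩ := f.exists_leftInverse_of_injective hf
  let co : ι × (S ⊕ Fin n) → F := fun x => g (Pi.single x.2 1) x.1
  obtain ⟨N, hN⟩ := IsLocalization.exist_integer_multiples_of_finite (nonZeroDivisors P) co
  choose a ha using hN
  refine ⟨ι, inferInstance, b, fun i => ∑ x, a (i, x) • NagataJac.dder db S x, ?_⟩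
  have key : ∀ i j, algebraMap P F ((∑ x, a (i, x) • NagataJac.dder db S x) (b j)) =
      algebraMap P F N * if i = j then 1 else 0 := fun i j => by
    have h1 : g (NagataJac.phi db F S (v j)) = Pi.single j 1 := by
      have h2 := LinearMap.congr_fun hg (Pi.single j 1)
      rwa [LinearMap.comp_apply, LinearMap.id_apply, LinearMap.comp_apply,
        Fintype.linearCombination_apply_single, one_smul] at h2
    have h3 : NagataJac.phi db F S (v j) =
        ∑ x, algebraMap P F (NagataJac.dder db S x (b j)) • Pi.single x (1 : F) := by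
      funext x
      rw [Finset.sum_apply, Finset.sum_eq_single x (fun y _ hy => by rw [Pi.smul_apply, Pi.single_eq_of_ne hy.symm,
        smul_zero]) (fun hx => absurd (Finset.mem_univ x) hx), Pi.smul_apply, Pi.single_eq_same, smul_eq_mul, mul_one]
      exact (NagataJac.phi_tmul db F S 1 (b j) x).trans (one_mul _)
    rw [h3, map_sum] at h1
    simp only [map_smul] at h1
    have h4 := congrFun h1 i
    simp only [Finset.sum_apply, Pi.smul_apply, smul_eq_mul, Pi.single_apply] at h4
    rw [← h4, Finset.mul_sum, ← Derivation.coeFnAddMonoidHom_apply, map_sum, Finset.sum_apply, map_sum]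
    refine Finset.sum_congr rfl fun x _ => ?_
    show algebraMap P F (a (i, x) • NagataJac.dder db S x (b j)) = _
    rw [smul_eq_mul, map_mul, ha, Algebra.smul_def]
    simp only [co]
    ring
  refine ⟨fun i j hij => hinj ?_, fun i hi => ?_, fun c hc => ?_⟩
  · rw [key, if_neg hij, mul_zero, map_zero]
  · have h := key i i
    rw [hi, map_zero, if_pos rfl, mul_one] at h
    exact IsFractionRing.to_map_ne_zero_of_mem_nonZeroDivisors N.2 h.symm
  · refine Subring.closure_le.2 ?_ (hT c)
    rintro z (hz | ⟨i, hi, rfl⟩)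
    · exact Subring.subset_closure (Or.inl hz)
    · let i' : ι := ⟨i, Finset.mem_biUnion.2 ⟨c, hc, hi⟩⟩
      have h1 : dbF.b i = algebraMap P F (b i') * (t i')⁻¹ ^ p ^ e := by
        rw [hb, inv_pow, mul_assoc, mul_inv_cancel₀ (pow_ne_zero _ (ht _)), mul_one]
      rw [h1]
      exact mul_mem (Subring.subset_closure (Or.inr ⟨i', rfl⟩)) (Subring.subset_closure (Or.inl ⟨_, rfl⟩))

end Groth.Agent.GRing17
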