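import Groth.Agent.CohenStruct.Structure
import Groth.Agent.CohenStruct.EGA
import Groth.Agent.CTensorRed.PowerSeries
import Groth.Agent.DepthLib.RegularLocal
import Groth.Agent.WildQuot.PowerSeriesDim
import Groth.Agent.FlatAscent.QuotientFibre
import Groth.Agent.GRing17.PowerSeries
import Groth.Agent.S2082
import Groth.Agent.S2456

/-!
# Flat presentations of local maps by power series rings
-/

universe u

open IsLocalRing

namespace Groth.Agent.GRing17

/-- A field of characteristic zero, or a Cohen ring, mapping onto the residue field. -/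
theorem exists_coeff (R : Type u) [CommRing R] [IsLocalRing R] [IsAdicComplete (maximalIdeal R) R] :
    ∃ (Λ : Type u) (_ : CommRing Λ) (_ : IsLocalRing Λ) (φ : Λ →+* R),
      Function.Surjective ((residue R).comp φ) ∧ (∀ l ∈ maximalIdeal Λ, φ l ∈ maximalIdeal R) ∧
      ((CharZero (ResidueField R) ∧ IsField Λ ∧ CharZero Λ) ∨
        (¬ CharZero (ResidueField R) ∧ CAlg.IsCohenRing Λ)) := by
  obtain ⟨p, hchar⟩ := CharP.exists (ResidueField R)
  rcases CharP.char_is_prime_or_zero (ResidueField R) p with hp | rfl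
  · have : Fact p.Prime := ⟨hp⟩
    have hpm : (p : R) ∈ maximalIdeal R := by rw [← residue_eq_zero_iff, map_natCast, CharP.cast_eq_zero]
    obtain ⟨Λ, _, _, _, hΛ, hmax, ⟨e⟩⟩ := CohenStruct.exists_cohenRing p (ResidueField R)
    have : CharZero Λ := by
      obtain ⟨_, _, -, -, -, h, -, -⟩ := CohenStruct.cohen_props hΛ
      exact h
    obtain ⟨v, hv⟩ := CohenStruct.exists_lift_of_cohen p Λ (hmax ▸ maximalIdeal.isMaximal Λ) (maximalIdeal R)
      hpm (e.toRingHom.comp (residue Λ))
    refine ⟨Λ, inferInstance, inferInstance, v, fun x => ?_, fun l hl => ?_, Or.inr ⟨fun h0 => ?_, hΛ⟩⟩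
    · obtain ⟨y, hy⟩ := residue_surjective (e.symm x)
      refine ⟨y, (RingHom.congr_fun hv y).trans ?_⟩
      change e (residue Λ y) = x
      rw [hy]
      exact e.apply_symm_apply x
    · rw [hmax, Ideal.mem_span_singleton'] at hl
      obtain ⟨c, rfl⟩ := hl
      rw [map_mul, map_natCast]
      exact Ideal.mul_mem_left _ _ hpm
    · exact hp.ne_zero (Nat.cast_injective (R := ResidueField R) (by rw [CharP.cast_eq_zero, Nat.cast_zero]))
  · have : CharZero (ResidueField R) := CharP.charP_to_charZero _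
    have hunit : ∀ z : ℤ, z ≠ 0 → IsUnit (z : R) := fun z hz => by
      rw [← residue_ne_zero_iff_isUnit, map_intCast]
      exact Int.cast_ne_zero.mpr hz
    obtain ⟨v, hv⟩ := CohenStruct.exists_lift_of_charZero (ResidueField R) (maximalIdeal R) hunit (RingHom.id _)
    refine ⟨ResidueField R, inferInstance, inferInstance, v, fun x => ⟨x, RingHom.congr_fun hv x⟩, fun l hl => ?_,
      Or.inl ⟨inferInstance, Field.toIsField _, inferInstance⟩⟩
    rw [isField_iff_maximalIdeal_eq.mp (Field.toIsField (ResidueField R))] at hl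
    rw [(Submodule.mem_bot _).mp hl, map_zero]
    exact zero_mem _

/-- Evaluation at generators of the maximal ideal is surjective. -/
theorem evalPS_surjective {R Λ : Type u} [CommRing R] [IsLocalRing R] [IsAdicComplete (maximalIdeal R) R]
    [CommRing Λ] (φ : Λ →+* R) (hφ : Function.Surjective ((residue R).comp φ)) {n : ℕ} (a : Fin n → R)
    (ham : ∀ i, a i ∈ maximalIdeal R) (ha : maximalIdeal R ≤ Ideal.span (Set.range a)) :
    Function.Surjective (CohenStruct.evalPS (maximalIdeal R) φ a ham) := by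
  have hmap : (Ideal.span (Set.range MvPowerSeries.X) : Ideal (MvPowerSeries (Fin n) Λ)).map
      (CohenStruct.evalPS (maximalIdeal R) φ a ham) = maximalIdeal R := by
    rw [CohenStruct.map_span_X]
    exact le_antisymm (Ideal.span_le.mpr (Set.range_subset_iff.mpr ham)) ha
  have : IsHausdorff ((Ideal.span (Set.range MvPowerSeries.X) : Ideal (MvPowerSeries (Fin n) Λ)).map
      (CohenStruct.evalPS (maximalIdeal R) φ a ham)) R := by rw [hmap]; infer_instance
  refine surjective_of_mk_map_comp_surjective (CohenStruct.evalPS (maximalIdeal R) φ a ham)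
    (I := Ideal.span (Set.range MvPowerSeries.X)) fun y => ?_
  obtain ⟨y, rfl⟩ := Ideal.Quotient.mk_surjective y
  obtain ⟨c, hc⟩ := hφ (residue R y)
  refine ⟨MvPowerSeries.C c, ?_⟩
  rw [RingHom.comp_apply, CohenStruct.evalPS_C, Ideal.Quotient.mk_eq_mk_iff_sub_mem, hmap,
    ← residue_eq_zero_iff, map_sub, ← RingHom.comp_apply, hc, sub_self]

/-- The dimension of a power series ring over a field or a Cohen ring. -/
theorem ringKrullDim_powerSeries {Λ : Type u} [CommRing Λ] [IsLocalRing Λ] (e : ℕ) (he : (IsField Λ ∧ e = 0) ∨ (CAlg.IsCohenRing Λ ∧ e = 1)) (n : ℕ) :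
    ringKrullDim (MvPowerSeries (Fin n) Λ) = (n + e : ℕ) := by
  rcases he with ⟨hF, rfl⟩ | ⟨hC, rfl⟩
  · let := hF.toField
    simpa using WildQuot.ringKrullDim_mvPowerSeries n Λ
  · obtain ⟨_, p, hp, hmax, hp0, _, hc, _⟩ := CohenStruct.cohen_props hC
    refine le_antisymm ?_ ?_
    · have := CohenStruct.ringKrullDim_mvPowerSeries_le (Λ := Λ) n {(p : Λ)}
        (by rw [Finset.coe_singleton]; exact hmax)
      simpa using this
    · let P := MvPowerSeries (Fin n) Λ
      let g : P →+* MvPowerSeries (Fin n) (ResidueField Λ) := MvPowerSeries.map (residue Λ)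
      have hg : Function.Surjective g := fun y => ⟨fun m => Function.surjInv residue_surjective (y m),
        funext fun m => Function.surjInv_eq residue_surjective (y m)⟩
      have hgp : g (p : P) = 0 := by
        rw [map_natCast, ← map_natCast MvPowerSeries.C,
          show ((p : ℕ) : ResidueField Λ) = 0 by
            rw [← map_natCast (residue Λ), residue_eq_zero_iff, hmax]; exact Ideal.mem_span_singleton_self _,
          map_zero]
      let g' : P ⧸ Ideal.span {(p : P)} →+* MvPowerSeries (Fin n) (ResidueField Λ) :=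
        Ideal.Quotient.lift _ g fun x hx => by
          obtain ⟨c, rfl⟩ := Ideal.mem_span_singleton'.mp hx
          rw [map_mul, hgp, mul_zero]
      have h1 := ringKrullDim_le_of_surjective g' fun y => by
        obtain ⟨x, rfl⟩ := hg y
        exact ⟨Ideal.Quotient.mk _ x, rfl⟩
      rw [WildQuot.ringKrullDim_mvPowerSeries] at h1
      have hpP : (p : P) ≠ 0 := fun h => hp0 (MvPowerSeries.C_injective (σ := Fin n)
        (by rw [map_natCast, map_zero]; exact h))
      have : IsDomain P := NoZeroDivisors.to_isDomain P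
      have h2 := ringKrullDim_quotient_succ_le_of_nonZeroDivisor (mem_nonZeroDivisors_of_ne_zero hpP)
      push_cast
      exact (add_le_add h1 le_rfl).trans h2

/-- **Flat presentations** of local maps of complete Noetherian local rings. -/
theorem exists_flat_presentation {A B : Type u} [CommRing A] [CommRing B] [IsLocalRing A] [IsLocalRing B]
    [IsNoetherianRing A] [IsNoetherianRing B] [IsAdicComplete (maximalIdeal A) A] [IsAdicComplete (maximalIdeal B) B]
    [Algebra A B] [IsLocalHom (algebraMap A B)] :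
    ∃ (Λ Λ' : Type u) (_ : CommRing Λ) (_ : CommRing Λ') (_ : IsLocalRing Λ) (n m : ℕ)
      (ρ : MvPowerSeries (Fin n) Λ →+* A) (σ : MvPowerSeries (Fin m) Λ' →+* B)
      (τ : MvPowerSeries (Fin n) Λ →+* MvPowerSeries (Fin m) Λ'),
      ((CharZero (ResidueField A) ∧ IsField Λ ∧ IsField Λ') ∨
        (¬ CharZero (ResidueField A) ∧ CAlg.IsCohenRing Λ ∧ CAlg.IsCohenRing Λ')) ∧
        Function.Surjective ρ ∧ Function.Surjective σ ∧ σ.comp τ = (algebraMap A B).comp ρ ∧
        τ.Flat ∧ IsRegularRing (MvPowerSeries (Fin m) Λ' ⧸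
          (maximalIdeal (MvPowerSeries (Fin n) Λ)).map τ) := by
  classical
  obtain ⟨Λ, _, _, φ, hφ, hφm, hcase⟩ := exists_coeff A
  obtain ⟨Λ', _, _, φ', hφ', hφ'm, hcase'⟩ := exists_coeff B
  have hiff : CharZero (ResidueField A) ↔ CharZero (ResidueField B) := by
    let f : ResidueField A →+* ResidueField B := ResidueField.map (algebraMap A B)
    exact ⟨fun h => charZero_of_injective_ringHom f.injective, fun h => ⟨fun x y hxy => Nat.cast_injective (R := ResidueField B)
      (by rw [← map_natCast f x, ← map_natCast f y, hxy])⟩⟩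
  obtain ⟨e, he, he', hW, hfin⟩ : ∃ e : ℕ,
      ((IsField Λ ∧ e = 0) ∨ (CAlg.IsCohenRing Λ ∧ e = 1)) ∧
      ((IsField Λ' ∧ e = 0) ∨ (CAlg.IsCohenRing Λ' ∧ e = 1)) ∧ EGA41.IsCohenRingEGA Λ ∧
      ((CharZero (ResidueField A) ∧ IsField Λ ∧ IsField Λ') ∨
        (¬ CharZero (ResidueField A) ∧ CAlg.IsCohenRing Λ ∧ CAlg.IsCohenRing Λ')) := by
    rcases hcase with ⟨h0, hF, hc⟩ | ⟨h0, hC⟩
    · rcases hcase' with ⟨-, hF', -⟩ | ⟨h0', -⟩
      · exact ⟨0, Or.inl ⟨hF, rfl⟩, Or.inl ⟨hF', rfl⟩, Or.inl ⟨hF, hc⟩, Or.inl ⟨h0, hF, hF'⟩⟩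
      · exact absurd (hiff.mp h0) h0'
    · rcases hcase' with ⟨h0', -, -⟩ | ⟨-, hC'⟩
      · exact absurd (hiff.mpr h0') h0
      · exact ⟨1, Or.inr ⟨hC, rfl⟩, Or.inr ⟨hC', rfl⟩, Or.inr hC, Or.inr ⟨h0, hC, hC'⟩⟩
  have hΛ : IsField Λ ∨ CAlg.IsCohenRing Λ := he.imp And.left And.left
  have hΛ' : IsField Λ' ∨ CAlg.IsCohenRing Λ' := he'.imp And.left And.left
  have hnr : ∀ {L : Type u} [CommRing L], (IsField L ∨ CAlg.IsCohenRing L) →
      IsNoetherianRing L ∧ IsRegularRing L := fun {L} _ h => by
    rcases h with hF | ⟨hd, hdvr, -⟩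
    · let := hF.toField
      exact ⟨inferInstance, DepthLib.CMPoly.isRegularRing_field L⟩
    · exact ⟨inferInstance, inferInstance⟩
  have hcΛ' : IsAdicComplete (maximalIdeal Λ') Λ' := by
    rcases hΛ' with hF | ⟨_, _, hc, -⟩
    · rw [isField_iff_maximalIdeal_eq.mp hF]; infer_instance
    · exact hc
  obtain ⟨_, _⟩ := hnr hΛ
  obtain ⟨_, _⟩ := hnr hΛ'
  obtain ⟨n, a, ha⟩ := Submodule.fg_iff_exists_fin_generating_family.mp (IsNoetherian.noetherian (maximalIdeal A))
  obtain ⟨r, b, hb⟩ := Submodule.fg_iff_exists_fin_generating_family.mp (IsNoetherian.noetherian (maximalIdeal B))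
  have ham : ∀ i, a i ∈ maximalIdeal A := fun i => ha ▸ Submodule.subset_span ⟨i, rfl⟩
  have hbm : ∀ i, b i ∈ maximalIdeal B := fun i => hb ▸ Submodule.subset_span ⟨i, rfl⟩
  let c : Fin (n + r) → B := Fin.append (fun i => algebraMap A B (a i)) b
  have hcm : ∀ i, c i ∈ maximalIdeal B := fun i => by
    refine Fin.addCases (fun j => ?_) (fun j => ?_) i
    · simp only [c, Fin.append_left]
      exact map_nonunit (algebraMap A B) _ (ham j)
    · simp only [c, Fin.append_right]
      exact hbm j
  let R := MvPowerSeries (Fin n) Λ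
  let S := MvPowerSeries (Fin (n + r)) Λ'
  let ρ : R →+* A := CohenStruct.evalPS (maximalIdeal A) φ a ham
  have hρ : Function.Surjective ρ := evalPS_surjective φ hφ a ham ha.ge
  let σ : S →+* B := CohenStruct.evalPS (maximalIdeal B) φ' c hcm
  have hσ : Function.Surjective σ := evalPS_surjective φ' hφ' c hcm (hb.ge.trans (Ideal.span_mono (by
    rintro _ ⟨j, rfl⟩
    exact ⟨Fin.natAdd n j, Fin.append_right ..⟩)))
  have : IsAdicComplete (maximalIdeal S) S := CTensorRed.isAdicComplete_maximalIdeal
  -- the coefficient part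
  let J : Ideal S := RingHom.ker σ
  let eJ : S ⧸ J ≃+* B := RingHom.quotientKerEquivOfSurjective hσ
  have : IsLocalRing (S ⧸ J) := eJ.symm.isLocalRing
  let u : Λ →+* S ⧸ J := eJ.symm.toRingHom.comp ((algebraMap A B).comp φ)
  have : IsLocalHom u := ⟨fun l hl => by
    by_contra hu
    have h1 : IsUnit (algebraMap A B (φ l)) := by
      have := hl.map eJ
      rwa [show eJ (u l) = algebraMap A B (φ l) from eJ.apply_symm_apply _] at this
    exact map_nonunit (algebraMap A B) _ (hφm l ((mem_maximalIdeal l).mpr hu)) h1⟩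
  obtain ⟨τ₀, hτ₀l, hτ₀⟩ := S2456.result hW J (RingHom.ker_ne_top σ) u
  have hστ₀ : ∀ l, σ (τ₀ l) = algebraMap A B (φ l) := fun l => by
    have h1 := congrArg eJ (RingHom.congr_fun hτ₀ l)
    rw [show eJ (u l) = algebraMap A B (φ l) from eJ.apply_symm_apply _] at h1
    exact h1
  let x : Fin n → S := fun i => MvPowerSeries.X (Fin.castAdd r i)
  have hXm : ∀ {d : ℕ} {L : Type u} [CommRing L] [IsLocalRing L] (i : Fin d),
      (MvPowerSeries.X i : MvPowerSeries (Fin d) L) ∈ maximalIdeal (MvPowerSeries (Fin d) L) := fun i => by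
    rw [mem_maximalIdeal, mem_nonunits_iff, MvPowerSeries.isUnit_iff_constantCoeff]
    simp
  have hxm : ∀ i, x i ∈ maximalIdeal S := fun i => hXm _
  let τ : R →+* S := CohenStruct.evalPS (maximalIdeal S) τ₀ x hxm
  have hτC : ∀ l, τ (MvPowerSeries.C l) = τ₀ l := CohenStruct.evalPS_C _ τ₀ x hxm
  have hτX : ∀ i, τ (MvPowerSeries.X i) = x i := CohenStruct.evalPS_X _ τ₀ x hxm
  have hτm : (maximalIdeal R).map τ ≤ maximalIdeal S := by
    rw [Ideal.map_le_iff_le_comap, CTensorRed.maximalIdeal_eq_sup (B := Λ) (d := n)]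
    refine sup_le (Ideal.map_le_iff_le_comap.mpr fun l hl => ?_) (Ideal.span_le.mpr ?_)
    · rw [Ideal.mem_comap, Ideal.mem_comap, hτC]
      exact map_nonunit τ₀ l hl
    · rintro _ ⟨i, rfl⟩
      rw [SetLike.mem_coe, Ideal.mem_comap, hτX]
      exact hxm i
  have hcomm : σ.comp τ = (algebraMap A B).comp ρ := by
    refine CTensorRed.ringHom_ext (maximalIdeal B) _ _ (fun l => ?_) (fun i => ?_) fun i => ?_
    · rw [RingHom.comp_apply, RingHom.comp_apply, hτC, hστ₀, CohenStruct.evalPS_C]
    · rw [RingHom.comp_apply, RingHom.comp_apply, hτX, CohenStruct.evalPS_X, CohenStruct.evalPS_X]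
      exact Fin.append_left ..
    · rw [RingHom.comp_apply, hτX, CohenStruct.evalPS_X]
      exact hcm _
  -- the closed fibre
  let M : Ideal S := (maximalIdeal R).map τ
  have hMM : M ≤ maximalIdeal S := hτm
  have hMΛ : ∀ l ∈ maximalIdeal Λ', (MvPowerSeries.C l : S) ∈ M := fun l hl => by
    rcases hfin with ⟨-, -, hF'⟩ | ⟨-, hC, hC'⟩
    · rw [isField_iff_maximalIdeal_eq.mp hF'] at hl
      rw [(Submodule.mem_bot _).mp hl, map_zero]
      exact zero_mem _
    · obtain ⟨_, p, hp, hmax, -, _, -, -⟩ := CohenStruct.cohen_props hC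
      obtain ⟨_, p', hp', hmax', -, _, -, -⟩ := CohenStruct.cohen_props hC'
      have hpB : (p : B) ∈ maximalIdeal B := by
        have := map_nonunit (algebraMap A B) _ (hφm _ (hmax ▸ Ideal.mem_span_singleton_self _ : (p : Λ) ∈ maximalIdeal Λ))
        rwa [map_natCast, map_natCast] at this
      have hp'B : (p' : B) ∈ maximalIdeal B := by
        have := hφ'm _ (hmax' ▸ Ideal.mem_span_singleton_self _ : (p' : Λ') ∈ maximalIdeal Λ')
        rwa [map_natCast] at this
      have hpp : p = p' := by
        by_contra hne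
        obtain ⟨z, w, hzw⟩ : ∃ z w : ℤ, z * p + w * p' = 1 :=
          Int.isCoprime_iff_nat_coprime.mpr (by simpa using (Nat.coprime_primes hp hp').mpr hne)
        have h1 : ((z * p + w * p' : ℤ) : B) ∈ maximalIdeal B := by
          push_cast
          exact add_mem (Ideal.mul_mem_left _ _ hpB) (Ideal.mul_mem_left _ _ hp'B)
        rw [hzw, Int.cast_one] at h1
        exact (maximalIdeal.isMaximal B).ne_top ((Ideal.eq_top_iff_one _).mpr h1)
      rw [hmax', Ideal.mem_span_singleton'] at hl
      obtain ⟨d, rfl⟩ := hl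
      have hpM : (p : S) ∈ M := by
        rw [← map_natCast τ]
        refine Ideal.mem_map_of_mem τ ?_
        rw [← map_natCast (MvPowerSeries.C (σ := Fin n) (R := Λ)), CTensorRed.maximalIdeal_eq_sup (B := Λ) (d := n)]
        exact Submodule.mem_sup_left (Ideal.mem_map_of_mem _ (hmax ▸ Ideal.mem_span_singleton_self _))
      rw [map_mul, ← hpp, map_natCast]
      exact Ideal.mul_mem_left _ _ hpM
  have hMX : ∀ i, x i ∈ M := fun i => hτX i ▸ Ideal.mem_map_of_mem τ (hXm i)
  let Q := MvPowerSeries (Fin r) (ResidueField Λ')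
  have : IsAdicComplete (maximalIdeal Q) Q := by
    have : IsAdicComplete (maximalIdeal (ResidueField Λ')) (ResidueField Λ') := by
      rw [isField_iff_maximalIdeal_eq.mp (Field.toIsField _)]; infer_instance
    exact CTensorRed.isAdicComplete_maximalIdeal
  let y : Fin (n + r) → Q := Fin.append (fun _ => (0 : Q)) fun j => MvPowerSeries.X j
  have hym : ∀ i, y i ∈ maximalIdeal Q := fun i => by
    refine Fin.addCases (fun j => ?_) (fun j => ?_) i
    · simp only [y, Fin.append_left]
      exact zero_mem _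
    · simp only [y, Fin.append_right]
      exact hXm j
  let g : S →+* Q := CohenStruct.evalPS (maximalIdeal Q) (MvPowerSeries.C.comp (residue Λ')) y hym
  have : IsAdicComplete (maximalIdeal (MvPowerSeries (Fin r) Λ')) (MvPowerSeries (Fin r) Λ') :=
    CTensorRed.isAdicComplete_maximalIdeal
  let z : Fin r → S := fun j => MvPowerSeries.X (Fin.natAdd n j)
  have hzm : ∀ j, z j ∈ maximalIdeal S := fun j => hXm _
  let h₁ : MvPowerSeries (Fin r) Λ' →+* S := CohenStruct.evalPS (maximalIdeal S) MvPowerSeries.C z hzm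
  let π : MvPowerSeries (Fin r) Λ' →+* Q := MvPowerSeries.map (residue Λ')
  have hπ : Function.Surjective π := fun q => ⟨fun m => Function.surjInv residue_surjective (q m),
    funext fun m => Function.surjInv_eq residue_surjective (q m)⟩
  let hM : Q →+* S ⧸ M := RingHom.liftOfSurjective π hπ ⟨(Ideal.Quotient.mk M).comp h₁, fun f hf => by
    have h2 : f ∈ (maximalIdeal Λ').map MvPowerSeries.C := by
      rw [CTensorRed.mem_map_C_iff (IsNoetherian.noetherian _)]
      intro m
      rw [← residue_eq_zero_iff, ← MvPowerSeries.coeff_map,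
        show MvPowerSeries.map (residue Λ') f = 0 from hf, map_zero]
    rw [RingHom.mem_ker, RingHom.comp_apply, Ideal.Quotient.eq_zero_iff_mem]
    refine (Ideal.map_le_iff_le_comap.mpr fun l hl => ?_ :
      (maximalIdeal Λ').map MvPowerSeries.C ≤ M.comap h₁) h2
    rw [Ideal.mem_comap, Ideal.mem_comap, CohenStruct.evalPS_C]
    exact hMΛ l hl⟩
  have hhM : ∀ f, hM (π f) = Ideal.Quotient.mk M (h₁ f) :=
    RingHom.liftOfSurjective_comp_apply π hπ _
  have hMne : M ≠ ⊤ := ne_top_of_le_ne_top (maximalIdeal.isMaximal S).ne_top hMM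
  have : Nontrivial (S ⧸ M) := Ideal.Quotient.nontrivial_iff.mpr hMne
  have : IsLocalRing (S ⧸ M) := IsLocalRing.of_surjective' _ Ideal.Quotient.mk_surjective
  have hgM : hM.comp g = Ideal.Quotient.mk M := by
    refine CTensorRed.ringHom_ext (maximalIdeal (S ⧸ M)) _ _ (fun l => ?_) (fun i => ?_) fun i => ?_
    · rw [RingHom.comp_apply, CohenStruct.evalPS_C, RingHom.comp_apply,
        show (MvPowerSeries.C (residue Λ' l) : Q) = π (MvPowerSeries.C l) from (MvPowerSeries.map_C (residue Λ') l).symm,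
        hhM, CohenStruct.evalPS_C]
    all_goals
      refine Fin.addCases (fun j => ?_) (fun j => ?_) i
    · rw [RingHom.comp_apply, CohenStruct.evalPS_X, show y (Fin.castAdd r j) = 0 from Fin.append_left .., map_zero,
        Ideal.Quotient.eq_zero_iff_mem.mpr (hMX j)]
    · rw [RingHom.comp_apply, CohenStruct.evalPS_X,
        show y (Fin.natAdd n j) = π (MvPowerSeries.X j) from (Fin.append_right ..).trans (MvPowerSeries.map_X (residue Λ') j).symm, hhM,
        CohenStruct.evalPS_X]
    · rw [RingHom.comp_apply, CohenStruct.evalPS_X, show y (Fin.castAdd r j) = 0 from Fin.append_left .., map_zero]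
      exact zero_mem _
    · rw [RingHom.comp_apply, CohenStruct.evalPS_X,
        show y (Fin.natAdd n j) = π (MvPowerSeries.X j) from (Fin.append_right ..).trans (MvPowerSeries.map_X (residue Λ') j).symm, hhM,
        CohenStruct.evalPS_X]
      have : IsLocalHom (Ideal.Quotient.mk M) := .of_surjective _ Ideal.Quotient.mk_surjective
      exact map_nonunit (Ideal.Quotient.mk M) _ (hzm j)
  have hgS : M ≤ RingHom.ker g := by
    refine Ideal.map_le_iff_le_comap.mpr ?_
    rw [CTensorRed.maximalIdeal_eq_sup (B := Λ) (d := n)]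
    refine sup_le (Ideal.map_le_iff_le_comap.mpr fun l hl => ?_) (Ideal.span_le.mpr ?_)
    · rw [Ideal.mem_comap, Ideal.mem_comap, RingHom.mem_ker, hτC]
      rcases hfin with ⟨-, hF, -⟩ | ⟨-, hC, -⟩
      · rw [isField_iff_maximalIdeal_eq.mp hF] at hl
        rw [(Submodule.mem_bot _).mp hl, map_zero, map_zero]
      · obtain ⟨_, p, hp, hmax, -, _, -, -⟩ := CohenStruct.cohen_props hC
        rw [hmax, Ideal.mem_span_singleton'] at hl
        obtain ⟨d, rfl⟩ := hl
        have hpS : (p : Λ') ∈ maximalIdeal Λ' := by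
          have h1 : (p : S) ∈ maximalIdeal S := by
            rw [← map_natCast τ₀]
            exact map_nonunit τ₀ _ (hmax ▸ Ideal.mem_span_singleton_self _)
          by_contra hu
          rw [mem_maximalIdeal, mem_nonunits_iff, not_not] at hu
          exact h1 (by rw [← map_natCast (MvPowerSeries.C (σ := Fin (n + r)) (R := Λ'))]; exact hu.map _)
        rw [map_mul, map_mul, map_natCast, map_natCast, ← map_natCast (MvPowerSeries.C (σ := Fin r)),
          ← map_natCast (residue Λ'), (residue_eq_zero_iff _).mpr hpS, map_zero, mul_zero]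
    · rintro _ ⟨i, rfl⟩
      rw [SetLike.mem_coe, Ideal.mem_comap, RingHom.mem_ker, hτX, CohenStruct.evalPS_X]
      exact Fin.append_left ..
  let g' : S ⧸ M →+* Q := Ideal.Quotient.lift M g fun s hs => hgS hs
  have h12 : hM.comp g' = RingHom.id _ := Ideal.Quotient.ringHom_ext hgM
  have hgsurj : Function.Surjective g' := fun q => by
    obtain ⟨f, rfl⟩ := hπ q
    refine ⟨Ideal.Quotient.mk M (h₁ f), ?_⟩
    have h3 : g.comp h₁ = π := by
      refine CTensorRed.ringHom_ext (maximalIdeal Q) _ _ (fun l => ?_) (fun j => ?_) fun j => ?_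
      · rw [RingHom.comp_apply, CohenStruct.evalPS_C, CohenStruct.evalPS_C, RingHom.comp_apply, MvPowerSeries.map_C]
      · rw [RingHom.comp_apply, CohenStruct.evalPS_X, CohenStruct.evalPS_X, MvPowerSeries.map_X]
        exact Fin.append_right ..
      · rw [RingHom.comp_apply, CohenStruct.evalPS_X, CohenStruct.evalPS_X]
        exact hym _
    exact RingHom.congr_fun h3 f
  let eQ : S ⧸ M ≃+* Q := RingEquiv.ofBijective g'
    ⟨Function.LeftInverse.injective (g := hM) (RingHom.congr_fun h12), hgsurj⟩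
  have hQreg : IsRegularRing Q := PP16Lib.isRegularRing_mvPowerSeries r
  -- flatness
  have : IsRegularRing R := PP16Lib.isRegularRing_mvPowerSeries n
  have : IsRegularRing S := PP16Lib.isRegularRing_mvPowerSeries (n + r)
  have : IsRegularLocalRing R := IsRegularLocalRing.of_isRegularRing_of_isLocalRing R
  have : IsRegularLocalRing S := IsRegularLocalRing.of_isRegularRing_of_isLocalRing S
  have := DepthLib.isCohenMacaulayLocalRing_of_isRegularLocalRing S
  let _ : Algebra R S := τ.toAlgebra
  have : IsLocalHom (algebraMap R S) := ⟨fun s hs => by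
    by_contra hu
    exact hτm (Ideal.mem_map_of_mem τ ((mem_maximalIdeal s).mpr hu)) hs⟩
  have hflat : Module.Flat R S := S2082.result (by
    rw [show (maximalIdeal R).map (algebraMap R S) = M from rfl, ringKrullDim_eq_of_ringEquiv eQ,
      WildQuot.ringKrullDim_mvPowerSeries, ringKrullDim_powerSeries e he,
      ringKrullDim_powerSeries e he', ← Nat.cast_add]
    congr 1
    omega)
  exact ⟨Λ, Λ', inferInstance, inferInstance, inferInstance, n, n + r, ρ, σ, τ, hfin, hρ, hσ, hcomm, hflat,
    FlatAscent.isRegularRing_transport eQ.symm hQreg⟩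

end Groth.Agent.GRing17
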