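import Groth.Agent.DepthLib.RegularInfSq
import Mathlib.RingTheory.Etale.Kaehler
import Mathlib.RingTheory.RegularLocalRing.Polynomial
import Mathlib.RingTheory.AdicCompletion.Algebra

/-!
# Derivations and regularity

* quotients of regular rings by elements with a dual system of derivations are regular;
* derivations extend to polynomial rings, to localizations and to completions.
-/

universe u

-- use the canonical `ℤ`-algebra structure
attribute [local instance 10000] Ring.toIntAlgebra

namespace Groth.Agent.GRing17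

/-- A quotient of a regular ring by elements having, at a prime, a dual system of derivations. -/
theorem isRegularLocalRing_quotient_of_derivations {R : Type u} [CommRing R] [IsRegularRing R]
    {ι : Type*} [Finite ι] (h : ι → R) (D : ι → Derivation ℤ R R)
    (hD : ∀ i j, i ≠ j → D i (h j) ∈ Ideal.span (Set.range h))
    (Q : Ideal (R ⧸ Ideal.span (Set.range h))) [Q.IsPrime]
    (hQ : ∀ i, Ideal.Quotient.mk _ (D i (h i)) ∉ Q) :
    IsRegularLocalRing (Localization.AtPrime Q) := by
  classical
  have := Fintype.ofFinite ι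
  let J := Ideal.span (Set.range h)
  let P : Ideal R := Q.comap (Ideal.Quotient.mk J)
  have hJP : J ≤ P := fun x hx => by
    show Ideal.Quotient.mk J x ∈ Q
    rw [Ideal.Quotient.eq_zero_iff_mem.mpr hx]
    exact Q.zero_mem
  let RP := Localization.AtPrime P
  haveI : IsRegularLocalRing RP := inferInstance
  set f := algebraMap R RP with hf
  set M := IsLocalRing.maximalIdeal RP
  have hPm : P.map f = M := Localization.AtPrime.map_eq_maximalIdeal
  have key : J.map f ⊓ M ^ 2 ≤ M * J.map f := by
    rintro z ⟨hzJ, hz2⟩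
    obtain ⟨⟨⟨y, hy⟩, s⟩, hzs⟩ := (IsLocalization.mem_map_algebraMap_iff P.primeCompl RP).mp hzJ
    replace hzs : z * f (s : R) = f y := hzs
    obtain ⟨a, ha⟩ := (Submodule.mem_span_range_iff_exists_fun R).mp hy
    have hy2 : f y ∈ (P ^ 2).map f := by
      rw [Ideal.map_pow, hPm, ← hzs]
      exact Ideal.mul_mem_right _ _ hz2
    obtain ⟨u, hu, huy⟩ := (IsLocalization.algebraMap_mem_map_algebraMap_iff P.primeCompl RP _ _).mp hy2
    have hsum : y = ∑ j, a j * h j := ha.symm
    have hda : ∀ i, a i ∈ P := fun i => by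
      have h1 : D i (u * y) ∈ P := by
        rw [pow_two] at huy
        refine Submodule.mul_induction_on huy (fun b hb c hc => ?_) (fun b c hb hc => ?_)
        · rw [Derivation.leibniz, smul_eq_mul, smul_eq_mul]
          exact add_mem (P.mul_mem_right _ hb) (P.mul_mem_right _ hc)
        · rw [map_add]; exact add_mem hb hc
      rw [Derivation.leibniz, smul_eq_mul, smul_eq_mul] at h1
      have h2 : u * D i y ∈ P :=
        (Submodule.add_mem_iff_left P (P.mul_mem_right _ (hJP hy))).mp h1
      have h3 : D i y ∈ P := ((inferInstance : P.IsPrime).mem_or_mem h2).resolve_left hu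
      rw [hsum, map_sum, ← Finset.add_sum_erase _ _ (Finset.mem_univ i)] at h3
      simp only [Derivation.leibniz, smul_eq_mul] at h3
      have hrest : ∑ j ∈ Finset.univ.erase i, (a j * D i (h j) + h j * D i (a j)) ∈ P :=
        P.sum_mem fun j hj => add_mem (P.mul_mem_left _ (hJP (hD i j (Finset.ne_of_mem_erase hj).symm)))
          (P.mul_mem_right _ (hJP (Ideal.subset_span ⟨j, rfl⟩)))
      have h4 := (Submodule.add_mem_iff_left P hrest).mp h3
      have h5 : a i * D i (h i) ∈ P :=
        (Submodule.add_mem_iff_left P (P.mul_mem_right _ (hJP (Ideal.subset_span ⟨i, rfl⟩)))).mp h4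
      exact ((inferInstance : P.IsPrime).mem_or_mem h5).resolve_right (hQ i)
    obtain ⟨v, hv⟩ := IsLocalization.map_units RP s
    have hz : z = ↑v⁻¹ * f y := by
      rw [← hzs, show f (s : R) = (v : RP) from hv.symm, mul_comm z, ← mul_assoc, Units.inv_mul, one_mul]
    rw [hz, hsum, map_sum]
    refine Ideal.mul_mem_left _ _ (Ideal.sum_mem _ fun j _ => ?_)
    rw [map_mul]
    exact Ideal.mul_mem_mul (hPm ▸ Ideal.mem_map_of_mem _ (hda j))
      (Ideal.mem_map_of_mem _ (Ideal.subset_span ⟨j, rfl⟩))
  have hreg : IsRegularLocalRing (RP ⧸ J.map f) :=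
    DepthLib.isRegularLocalRing_quotient_of_inf_sq_le _ RP _ rfl ((Ideal.map_mono hJP).trans hPm.le) key
  have hsub : P.primeCompl.map (Ideal.Quotient.mk J) = Q.primeCompl := by
    ext x
    refine ⟨?_, fun hx => ?_⟩
    · rintro ⟨r, hr, rfl⟩; exact hr
    · obtain ⟨r, rfl⟩ := Ideal.Quotient.mk_surjective x
      exact ⟨r, hx, rfl⟩
  have : IsLocalization Q.primeCompl (RP ⧸ J.map f) := by
    have h0 : IsLocalization (Algebra.algebraMapSubmonoid (R ⧸ J) P.primeCompl) (RP ⧸ J.map f) :=
      inferInstance
    rwa [show Algebra.algebraMapSubmonoid (R ⧸ J) P.primeCompl = Q.primeCompl from hsub] at h0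
  exact IsRegularLocalRing.of_ringEquiv
    (IsLocalization.algEquiv Q.primeCompl (RP ⧸ J.map f) (Localization.AtPrime Q)).toRingEquiv

/-- A derivation of `R` applied to the coefficients of polynomials. -/
theorem exists_derivation_mvPolynomial {R : Type u} [CommRing R] {ι : Type*} (d : Derivation ℤ R R) :
    ∃ d' : Derivation ℤ (MvPolynomial ι R) (MvPolynomial ι R),
      (∀ r, d' (MvPolynomial.C r) = MvPolynomial.C (d r)) ∧ ∀ i, d' (MvPolynomial.X i) = 0 := by
  classical
  let L : MvPolynomial ι R →+ MvPolynomial ι R :=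
    AddMonoidAlgebra.coeffAddEquiv.symm.toAddMonoidHom.comp
      ((Finsupp.mapRange.addMonoidHom d.toLinearMap.toAddMonoidHom).comp
        AddMonoidAlgebra.coeffAddEquiv.toAddMonoidHom)
  have hL : ∀ a r, L (MvPolynomial.monomial a r) = MvPolynomial.monomial a (d r) :=
    fun a r => congrArg AddMonoidAlgebra.ofCoeff (Finsupp.mapRange_single (hf := d.map_zero))
  refine ⟨Derivation.mk' L.toIntLinearMap fun p q => ?_, fun r => hL 0 r, fun i => ?_⟩
  · show L (p * q) = p * L q + q * L p
    induction p using MvPolynomial.induction_on' with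
    | monomial a r =>
      induction q using MvPolynomial.induction_on' with
      | monomial b s =>
        rw [MvPolynomial.monomial_mul, hL, hL, hL, MvPolynomial.monomial_mul, MvPolynomial.monomial_mul,
          add_comm b a, ← map_add, Derivation.leibniz, smul_eq_mul, smul_eq_mul]
      | add q₁ q₂ h₁ h₂ => simp only [mul_add, map_add, add_mul, h₁, h₂]; ring
    | add p₁ p₂ h₁ h₂ => simp only [mul_add, map_add, add_mul, h₁, h₂]; ring
  · show L (MvPolynomial.monomial (Finsupp.single i 1) 1) = 0
    rw [hL, Derivation.map_one_eq_zero, map_zero]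

/-- Derivations extend to localizations. -/
theorem exists_derivation_localization {A : Type u} [CommRing A] (S : Submonoid A) {B : Type u}
    [CommRing B] [Algebra A B] [IsLocalization S B] (d : Derivation ℤ A A) :
    ∃ d' : Derivation ℤ B B, ∀ a, d' (algebraMap A B a) = algebraMap A B (d a) := by
  have := Algebra.FormallyEtale.of_isLocalization (Rₘ := B) S
  let e := KaehlerDifferential.tensorKaehlerEquivOfFormallyEtale ℤ A B
  let φ : TensorProduct A B Ω[A⁄ℤ] →ₗ[B] B :=
    ((Algebra.linearMap A B).comp d.liftKaehlerDifferential).liftBaseChange B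
  refine ⟨(φ.comp e.symm.toLinearMap).compDer (KaehlerDifferential.D ℤ B), fun a => ?_⟩
  have he : e.symm (KaehlerDifferential.D ℤ B (algebraMap A B a)) = 1 ⊗ₜ KaehlerDifferential.D ℤ A a := by
    rw [LinearEquiv.symm_apply_eq]
    show _ = KaehlerDifferential.mapBaseChange ℤ A B _
    rw [KaehlerDifferential.mapBaseChange_tmul, one_smul, KaehlerDifferential.map_D]
  show φ (e.symm (KaehlerDifferential.D ℤ B (algebraMap A B a))) = _
  rw [he, LinearMap.liftBaseChange_tmul, one_smul, LinearMap.comp_apply, Algebra.linearMap_apply,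
    Derivation.liftKaehlerDifferential_comp_D]

/-- A derivation maps `I ^ (n + 1)` into `I ^ n`. -/
theorem derivation_mem_pow {R : Type u} [CommRing R] (I : Ideal R) (d : Derivation ℤ R R) (n : ℕ)
    {x : R} (hx : x ∈ I ^ (n + 1)) : d x ∈ I ^ n := by
  induction n generalizing x with
  | zero => simp
  | succ n ih =>
    rw [pow_succ] at hx
    refine Submodule.mul_induction_on hx (fun a ha b hb => ?_) (fun a b ha hb => ?_)
    · rw [Derivation.leibniz, smul_eq_mul, smul_eq_mul]
      refine add_mem ((I ^ (n + 1)).mul_mem_right _ ha) ?_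
      rw [pow_succ', mul_comm b]
      exact mul_comm b (d a) ▸ Ideal.mul_mem_mul hb (ih ha)
    · rw [map_add]; exact add_mem ha hb

/-- Derivations extend to adic completions. -/
theorem exists_derivation_completion {R : Type u} [CommRing R] (I : Ideal R) (d : Derivation ℤ R R) :
    ∃ d' : Derivation ℤ (AdicCompletion I R) (AdicCompletion I R),
      ∀ r, d' (algebraMap R (AdicCompletion I R) r) = algebraMap R _ (d r) := by
  classical
  -- representatives
  have hrep : ∀ (x : AdicCompletion I R) (n : ℕ), ∃ r, AdicCompletion.evalₐ I n x = Ideal.Quotient.mk _ r :=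
    fun x n => by
      obtain ⟨r, hr⟩ := Ideal.Quotient.mk_surjective (AdicCompletion.evalₐ I n x)
      exact ⟨r, hr.symm⟩
  choose rep hrep using hrep
  have hcompat : ∀ (x : AdicCompletion I R) {k n : ℕ} (_ : k ≤ n), rep x k - rep x n ∈ I ^ k := by
    intro x k n hkn
    induction x using AdicCompletion.induction_on with
    | h s =>
      have h1 := hrep (AdicCompletion.mk I R s) k
      have h2 := hrep (AdicCompletion.mk I R s) n
      rw [show AdicCompletion.mk I R s = AdicCompletion.mkₐ I s from rfl, AdicCompletion.evalₐ_mkₐ,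
        Ideal.Quotient.eq] at h1 h2
      have h3 : s.val k - s.val n ∈ I ^ k := Ideal.Quotient.eq.mp (AdicCompletion.Ideal.mk_eq_mk I hkn s).symm
      have h4 := Ideal.pow_le_pow_right hkn h2
      have := sub_mem (add_mem h3 h4) h1
      convert this using 1
      simp only [show AdicCompletion.mk I R s = AdicCompletion.mkₐ I s from rfl]
      ring
  let seq : AdicCompletion I R → AdicCompletion.AdicCauchySequence I R := fun x =>
    AdicCompletion.AdicCauchySequence.mk I R (fun n => d (rep x (n + 1))) fun n => by
      rw [SModEq.sub_mem, smul_eq_mul, Ideal.mul_top, ← map_sub]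
      exact derivation_mem_pow I d n (hcompat x (Nat.le_succ _))
  let F : AdicCompletion I R → AdicCompletion I R := fun x => AdicCompletion.mk I R (seq x)
  have hF : ∀ (x : AdicCompletion I R) (n : ℕ) (r : R),
      AdicCompletion.evalₐ I (n + 1) x = Ideal.Quotient.mk _ r →
      AdicCompletion.evalₐ I n (F x) = Ideal.Quotient.mk _ (d r) := fun x n r hr => by
    show AdicCompletion.evalₐ I n (AdicCompletion.mkₐ I (seq x)) = _
    rw [AdicCompletion.evalₐ_mkₐ, Ideal.Quotient.eq]
    show d (rep x (n + 1)) - d r ∈ I ^ n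
    rw [← map_sub]
    exact derivation_mem_pow I d n (Ideal.Quotient.eq.mp ((hrep x (n + 1)).symm.trans hr))
  refine ⟨Derivation.mk' (AddMonoidHom.mk' F fun x y => ?_).toIntLinearMap fun x y => ?_, fun r => ?_⟩
  · refine AdicCompletion.ext_evalₐ fun n => ?_
    rw [hF (x + y) n (rep x (n + 1) + rep y (n + 1)) (by rw [map_add, hrep, hrep, map_add]), map_add, map_add,
      map_add, hF x n _ (hrep x _), hF y n _ (hrep y _)]
  · refine AdicCompletion.ext_evalₐ fun n => ?_
    show AdicCompletion.evalₐ I n (F (x * y)) = AdicCompletion.evalₐ I n (x * F y + y * F x)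
    have hx : AdicCompletion.evalₐ I n x = Ideal.Quotient.mk _ (rep x (n + 1)) := by
      rw [hrep x n, Ideal.Quotient.eq]; exact hcompat x (Nat.le_succ _)
    have hy : AdicCompletion.evalₐ I n y = Ideal.Quotient.mk _ (rep y (n + 1)) := by
      rw [hrep y n, Ideal.Quotient.eq]; exact hcompat y (Nat.le_succ _)
    rw [hF (x * y) n (rep x (n + 1) * rep y (n + 1)) (by rw [map_mul, hrep, hrep, map_mul]),
      Derivation.leibniz, smul_eq_mul, smul_eq_mul]
    simp only [map_add, map_mul, hF x n _ (hrep x _), hF y n _ (hrep y _), hx, hy]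
  · refine AdicCompletion.ext_evalₐ fun n => ?_
    show AdicCompletion.evalₐ I n (F (algebraMap R _ r)) = _
    rw [hF _ n r (AlgHom.commutes _ r), AlgHom.commutes]
    rfl

end Groth.Agent.GRing17
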