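import Groth.Agent.GRing17.AndreLocal

/-!
# Flat, formally smooth lifts over an arbitrary Noetherian local ring
-/

universe u

open IsLocalRing
open scoped TensorProduct

namespace Groth.Agent.GRing17

/-- Transitivity of adic formal smoothness for local maps. -/
theorem adicSmooth_trans {A B C : Type u} [CommRing A] [CommRing B] [CommRing C] [IsLocalRing B] [IsLocalRing C]
    [Algebra A B] [Algebra B C] [Algebra A C] [IsScalarTower A B C] [IsLocalHom (algebraMap B C)]
    (h₁ : CAlgX.IsAdicFormallySmooth A B (maximalIdeal B))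
    (h₂ : CAlgX.IsAdicFormallySmooth B C (maximalIdeal C)) :
    CAlgX.IsAdicFormallySmooth A C (maximalIdeal C) := by
  intro E _ _ N hN ψ hψ
  obtain ⟨k, hk⟩ := hψ
  obtain ⟨χ₀, hχ₀⟩ := h₁ E N hN (ψ.comp (IsScalarTower.toAlgHom A B C)) ⟨k, fun x hx => hk _
    (Ideal.pow_right_mono (map_maximalIdeal_le' (algebraMap B C)) k
      (Ideal.map_pow (algebraMap B C) _ k ▸ Ideal.mem_map_of_mem _ hx))⟩
  let _ : Algebra B E := χ₀.toRingHom.toAlgebra
  let ψ' : C →ₐ[B] E ⧸ N :=
    { ψ.toRingHom with commutes' := fun b => (AlgHom.congr_fun hχ₀ b).symm }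
  obtain ⟨χ, hχ⟩ := h₂ E N hN ψ' ⟨k, hk⟩
  refine ⟨{ χ.toRingHom with commutes' := fun a => ?_ }, AlgHom.ext fun x => (AlgHom.congr_fun hχ x :)⟩
  show χ (algebraMap A C a) = _
  rw [IsScalarTower.algebraMap_apply A B C, χ.commutes]
  exact χ₀.commutes a

/-- The completion is formally smooth. -/
theorem adicSmooth_cpl_self (A : Type u) [CommRing A] [IsLocalRing A] [IsNoetherianRing A] :
    CAlgX.IsAdicFormallySmooth A (AdicCompletion (maximalIdeal A) A)
      (maximalIdeal (AdicCompletion (maximalIdeal A) A)) :=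
  adicSmooth_completion (A := A) (B := A) fun E _ _ _ _ ψ _ =>
    ⟨Algebra.ofId A E, AlgHom.ext fun a => ((ψ.commutes a).trans rfl).symm⟩

/-- Formally smooth, flat, complete lifts of algebras over the residue field. -/
theorem exists_adicSmooth_lift (A : Type u) [CommRing A] [IsLocalRing A] [IsNoetherianRing A] {Q : Type u}
    [CommRing Q] [IsLocalRing Q] [IsNoetherianRing Q] [IsAdicComplete (maximalIdeal Q) Q]
    [Algebra (ResidueField A) Q] [Algebra A Q] [IsScalarTower A (ResidueField A) Q]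
    (hQ : CAlgX.IsAdicFormallySmooth (ResidueField A) Q (maximalIdeal Q)) :
    ∃ (B : Type u) (_ : CommRing B) (_ : IsLocalRing B) (_ : IsNoetherianRing B) (_ : Algebra A B)
      (_ : IsLocalHom (algebraMap A B)) (π : B →ₐ[A] Q),
      IsAdicComplete (maximalIdeal B) B ∧ Module.Flat A B ∧ CAlgX.IsAdicFormallySmooth A B (maximalIdeal B) ∧
      Function.Surjective π ∧ RingHom.ker π ≤ (maximalIdeal A).map (algebraMap A B) := by
  classical
  let Ah := AdicCompletion (maximalIdeal A) A
  have := CohenStruct.isNoetherianRing_completion A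
  obtain ⟨τ, hτ, hτ'⟩ : ∃ τ : Ah →+* ResidueField A, Function.Surjective τ ∧
      ∀ a, τ (algebraMap A Ah a) = residue A a := by
    refine ⟨(Ideal.Quotient.factor (pow_one (maximalIdeal A)).le).comp
      (AdicCompletion.evalₐ (maximalIdeal A) 1).toRingHom, fun x => ?_, fun a => ?_⟩
    · obtain ⟨a, rfl⟩ := residue_surjective x
      refine ⟨algebraMap A Ah a, ?_⟩
      show Ideal.Quotient.factor (pow_one (maximalIdeal A)).le (AdicCompletion.evalₐ (maximalIdeal A) 1 (algebraMap A Ah a)) = _
      rw [AlgHom.commutes]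
      rfl
    · show Ideal.Quotient.factor (pow_one (maximalIdeal A)).le (AdicCompletion.evalₐ (maximalIdeal A) 1 (algebraMap A Ah a)) = _
      rw [AlgHom.commutes]
      rfl
  have hkτ : RingHom.ker τ = maximalIdeal Ah :=
    IsLocalRing.eq_maximalIdeal (RingHom.ker_isMaximal_of_surjective τ hτ)
  obtain ⟨Λ, _, n, f, hΛ, hf⟩ := CohenStruct.exists_surjective Ah (IsNoetherian.noetherian _)
  have : IsLocalRing Λ := by
    rcases hΛ with hF | ⟨hd, hdvr, -⟩
    · let := hF.toField; infer_instance
    · infer_instance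
  let P := MvPowerSeries (Fin n) Λ
  let _ : Algebra P Ah := f.toAlgebra
  have : Module.Finite P Ah := RingHom.finite_algebraMap.mp (RingHom.Finite.of_surjective f hf)
  let _ : Algebra Ah Q := ((algebraMap (ResidueField A) Q).comp τ).toAlgebra
  let _ : Algebra P Q := ((algebraMap Ah Q).comp f).toAlgebra
  have : IsScalarTower P Ah Q := by
    exact IsScalarTower.of_algebraMap_eq (R := P) (S := Ah) (A := Q) fun _ => rfl
  have : IsScalarTower A Ah Q := .of_algebraMap_eq fun a => by
    show algebraMap A Q a = algebraMap (ResidueField A) Q (τ (algebraMap A Ah a))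
    rw [hτ', IsScalarTower.algebraMap_apply A (ResidueField A) Q]
    rfl
  obtain ⟨B₀, _, _, _, _, _, π₀, _, _, hB₀, hπ₀, hk₀⟩ := exists_flat_model hΛ n (τ.comp f)
    (hτ.comp hf) (fun _ => rfl) hQ
  obtain ⟨_, hN, hc, hl, hb, π, hπ, hk⟩ := baseChange_props (P := P) (A := Ah) (B := B₀) (Q := Q)
    (residue_surjective.comp hf) (fun a ha => by
      show algebraMap (ResidueField A) Q (τ a) = 0
      rw [show τ a = 0 from hkτ.ge ha, map_zero]) π₀ hπ₀ hk₀
  let C := Ah ⊗[P] B₀
  have hC : CAlgX.IsAdicFormallySmooth Ah C (maximalIdeal C) := adicSmooth_baseChange hb hB₀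
  have hAC : IsLocalHom (algebraMap A C) := ⟨fun x hx => by
    rw [IsScalarTower.algebraMap_apply A Ah C] at hx
    have h1 : IsUnit (algebraMap A Ah x) := isUnit_of_map_unit (algebraMap Ah C) _ hx
    by_contra hu
    exact (by rw [AdicCompletion.maximalIdeal_eq_map]; exact Ideal.mem_map_of_mem _ ((mem_maximalIdeal x).mpr hu) :
      algebraMap A Ah x ∈ maximalIdeal Ah) h1⟩
  have hfs := adicSmooth_trans (adicSmooth_cpl_self A) hC
  refine ⟨C, inferInstance, inferInstance, hN, inferInstance, hAC, π.restrictScalars A, hc,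
    (flat_and_geomRegular_of_adicSmooth hfs).1, hfs, hπ, hk.trans ?_⟩
  rw [AdicCompletion.maximalIdeal_eq_map, Ideal.map_map, ← IsScalarTower.algebraMap_eq]

/-- Uniqueness of formally smooth lifts, compatibly with the maps to the common quotient. -/
theorem exists_algEquiv_over {A B C Q : Type u} [CommRing A] [IsLocalRing A] [CommRing B] [IsLocalRing B]
    [IsNoetherianRing B] [IsAdicComplete (maximalIdeal B) B] [CommRing C] [IsLocalRing C] [IsNoetherianRing C]
    [IsAdicComplete (maximalIdeal C) C] [CommRing Q] [Nontrivial Q] [Algebra A B] [Algebra A C] [Algebra A Q]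
    [IsLocalHom (algebraMap A B)] [IsLocalHom (algebraMap A C)]
    (hB : CAlgX.IsAdicFormallySmooth A B (maximalIdeal B)) (hC : CAlgX.IsAdicFormallySmooth A C (maximalIdeal C))
    (πB : B →ₐ[A] Q) (hπB : Function.Surjective πB) (hkB : RingHom.ker πB ≤ (maximalIdeal A).map (algebraMap A B))
    (πC : C →ₐ[A] Q) (hπC : Function.Surjective πC) (hkC : RingHom.ker πC ≤ (maximalIdeal A).map (algebraMap A C)) :
    ∃ e : B ≃ₐ[A] C, ∀ b, πC (e b) = πB b := by
  have hm : ∀ {S : Type u} [CommRing S] [IsLocalRing S] [Algebra A S] (π : S →ₐ[A] Q), Function.Surjective π →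
      ∀ b ∈ maximalIdeal S, ¬ IsUnit (π b) := fun π hπ b hb hu => by
    have : IsLocalHom π.toRingHom := .of_surjective π.toRingHom hπ
    exact hb (isUnit_of_map_unit π.toRingHom b hu)
  obtain ⟨u, hu⟩ := exists_lift_fibre hB πC hπC πB (hm πB hπB)
  obtain ⟨v, hv⟩ := exists_lift_fibre hC πB hπB πC (hm πC hπC)
  have h1 := bijective_of_sub_mem (v.comp u) fun x => hkB (by
    rw [RingHom.mem_ker, map_sub, AlgHom.comp_apply, hv, hu, sub_self])
  have h2 := bijective_of_sub_mem (u.comp v) fun x => hkC (by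
    rw [RingHom.mem_ker, map_sub, AlgHom.comp_apply, hu, hv, sub_self])
  exact ⟨AlgEquiv.ofBijective u ⟨fun x y hxy => h1.1 (by simp [hxy]),
    fun y => ⟨v (Function.surjInv h2.2 y), Function.surjInv_eq h2.2 y⟩⟩, hu⟩

end Groth.Agent.GRing17
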