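import Groth.Agent.NagataLib.FiniteClosure
import Groth.Agent.NagataLib.Basic
import Mathlib

/-!
# Finite integral closures in reduced algebras essentially of finite type over a Nagata ring
-/

universe u

namespace Groth.Agent.GRing17

/-- Integral closure in a reduced algebra essentially of finite type over a Nagata ring is finite. -/
theorem finite_integralClosure_essFiniteType {R : Type u} [CommRing R] (hR : CAlg.IsNagata R)
    (S : Type u) [CommRing S] [IsReduced S] [Algebra R S] [Algebra.EssFiniteType R S] :
    Module.Finite R (integralClosure R S) := by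
  have := hR.1
  have : IsNoetherianRing S := Algebra.EssFiniteType.isNoetherianRing R S
  have : Finite (minimalPrimes S) := (minimalPrimes.finite_of_isNoetherianRing S).to_subtype
  have hP : ∀ P : minimalPrimes S, Module.Finite R (integralClosure R (S ⧸ P.1)) := fun P => by
    have : P.1.IsPrime := P.2.1.1
    have : Algebra.EssFiniteType R (S ⧸ P.1) := Algebra.EssFiniteType.comp R S (S ⧸ P.1)
    exact NagataLib.finite_integralClosure_domain hR (S ⧸ P.1)
  let f : integralClosure R S →ₗ[R] ((P : minimalPrimes S) → integralClosure R (S ⧸ P.1)) :=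
    LinearMap.pi fun P =>
      { toFun := fun x => ⟨Ideal.Quotient.mkₐ R P.1 x.1, x.2.map _⟩
        map_add' := fun x y => Subtype.ext (map_add _ x.1 y.1)
        map_smul' := fun a x => Subtype.ext (map_smul (Ideal.Quotient.mkₐ R P.1) a x.1) }
  refine NagataLib.finite_of_injective_linearMap f fun x y e => Subtype.ext (sub_eq_zero.1 ?_)
  have h : (x.1 - y.1) ∈ sInf (minimalPrimes S) := by
    rw [Ideal.mem_sInf]
    intro P hP
    exact Ideal.Quotient.eq.1 (congrArg Subtype.val (congrFun e ⟨P, hP⟩))
  rw [minimalPrimes, Ideal.sInf_minimalPrimes] at h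
  exact (show IsNilpotent (x.1 - y.1) by simpa [Ideal.radical, IsNilpotent] using h).eq_zero

end Groth.Agent.GRing17
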