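import Groth.Agent.CohenStruct.Structure
import Groth.Agent.NagataUJ.Completion
import Groth.Agent.GRing17.FlatModel
import Mathlib

/-!
# Complete local algebras with two parameters having product in the base
-/

universe u

open IsLocalRing

namespace Groth.Agent.GRing17.Node

variable {R C : Type u} [CommRing R] [IsLocalRing R] [CommRing C] [IsLocalRing C]

/-- Decomposition of the powers of the ideal of the base. -/
theorem exists_decomp (φ : R →+* C) (hres : Function.Surjective ((residue C).comp φ)) (u v : C)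
    (hgen : maximalIdeal C ≤ Ideal.span {u, v} ⊔ (maximalIdeal R).map φ) (n : ℕ) {x : C}
    (hx : x ∈ (maximalIdeal R).map φ ^ n) :
    ∃ a ∈ maximalIdeal R ^ n, ∃ P ∈ (maximalIdeal R).map φ ^ n, ∃ Q ∈ (maximalIdeal R).map φ ^ n,
      x - φ a - u * P - v * Q ∈ (maximalIdeal R).map φ ^ (n + 1) := by
  set J := (maximalIdeal R).map φ with hJ
  have key : ∀ (c : C), ∀ m ∈ maximalIdeal R ^ n, ∃ a ∈ maximalIdeal R ^ n, ∃ P ∈ J ^ n, ∃ Q ∈ J ^ n,
      c * φ m - φ a - u * P - v * Q ∈ J ^ (n + 1) := by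
    intro c m hm
    obtain ⟨r, hr⟩ := hres (residue C c)
    have hc : c - φ r ∈ maximalIdeal C := by
      rw [← residue_eq_zero_iff, map_sub, ← hr, RingHom.comp_apply, sub_self]
    obtain ⟨y, hy, j, hj, hyj⟩ := Submodule.mem_sup.mp (hgen hc)
    obtain ⟨s, t, rfl⟩ := Ideal.mem_span_pair.mp hy
    have hm' : φ m ∈ J ^ n := by rw [hJ, ← Ideal.map_pow]; exact Ideal.mem_map_of_mem φ hm
    refine ⟨r * m, Ideal.mul_mem_left _ _ hm, s * φ m, Ideal.mul_mem_left _ _ hm', t * φ m,
      Ideal.mul_mem_left _ _ hm', ?_⟩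
    have h1 : c * φ m - φ (r * m) - u * (s * φ m) - v * (t * φ m) = j * φ m := by
      rw [map_mul]
      linear_combination (-(φ m)) * hyj
    rw [h1, pow_succ']
    exact Ideal.mul_mem_mul hj hm'
  have hx' : x ∈ (maximalIdeal R ^ n).map φ := by rwa [Ideal.map_pow]
  suffices h : ∀ y ∈ (maximalIdeal R ^ n).map φ, ∀ c : C, ∃ a ∈ maximalIdeal R ^ n, ∃ P ∈ J ^ n, ∃ Q ∈ J ^ n,
      c * y - φ a - u * P - v * Q ∈ J ^ (n + 1) by
    simpa using h x hx' 1
  intro y hy
  induction hy using Submodule.span_induction with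
  | mem z hz =>
    obtain ⟨m, hm, rfl⟩ := hz
    exact fun c => key c m hm
  | zero => exact fun c => ⟨0, zero_mem _, 0, zero_mem _, 0, zero_mem _, by simp⟩
  | add z w _ _ hz hw =>
    intro c
    obtain ⟨a, ha, P, hP, Q, hQ, h⟩ := hz c
    obtain ⟨a', ha', P', hP', Q', hQ', h'⟩ := hw c
    refine ⟨a + a', add_mem ha ha', P + P', add_mem hP hP', Q + Q', add_mem hQ hQ', ?_⟩
    convert add_mem h h' using 1
    rw [map_add]; ring
  | smul d z _ hz =>
    intro c
    have := hz (c * d)
    simpa [mul_assoc] using this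

/-- **Successive approximation**: parameters with product exactly in the base. -/
theorem exists_params [IsNoetherianRing C] [IsAdicComplete (maximalIdeal R) R] [IsAdicComplete (maximalIdeal C) C]
    (φ : R →+* C) (hm : (maximalIdeal R).map φ ≤ maximalIdeal C)
    (hres : Function.Surjective ((residue C).comp φ)) (u v : C) (huv : u * v ∈ (maximalIdeal R).map φ)
    (hgen : maximalIdeal C ≤ Ideal.span {u, v} ⊔ (maximalIdeal R).map φ) :
    ∃ α ∈ maximalIdeal R, ∃ U V : C, U - u ∈ (maximalIdeal R).map φ ∧ V - v ∈ (maximalIdeal R).map φ ∧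
      U * V = φ α := by
  classical
  set J := (maximalIdeal R).map φ with hJ
  let P : ℕ → C × C × R → Prop := fun n s => s.1 - u ∈ J ∧ s.2.1 - v ∈ J ∧ s.2.2 ∈ maximalIdeal R ∧
    s.1 * s.2.1 - φ s.2.2 ∈ J ^ (n + 1)
  let Q : ℕ → C × C × R → C × C × R → Prop := fun n s t => t.1 - s.1 ∈ maximalIdeal C ^ (n + 1) ∧
    t.2.1 - s.2.1 ∈ maximalIdeal C ^ (n + 1) ∧ t.2.2 - s.2.2 ∈ maximalIdeal R ^ (n + 1)
  have step : ∀ n s, P n s → ∃ t, P (n + 1) t ∧ Q n s t := by
    rintro n ⟨U, V, α⟩ ⟨hU, hV, hα, hUV⟩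
    obtain ⟨a, ha, S, hS, T, hT, h⟩ := exists_decomp φ hres u v hgen (n + 1) hUV
    have hle : J ^ (n + 1) ≤ maximalIdeal C ^ (n + 1) := Ideal.pow_right_mono hm _
    have hleJ : J ^ (n + 1) ≤ J := Ideal.pow_le_self (Nat.succ_ne_zero n)
    refine ⟨⟨U - T, V - S, α + a⟩, ⟨?_, ?_, add_mem hα (Ideal.pow_le_self (Nat.succ_ne_zero n) ha), ?_⟩, ?_, ?_, ?_⟩
    · show U - T - u ∈ J
      rw [sub_right_comm]
      exact sub_mem hU (hleJ hT)
    · show V - S - v ∈ J
      rw [sub_right_comm]
      exact sub_mem hV (hleJ hS)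
    · show (U - T) * (V - S) - φ (α + a) ∈ J ^ (n + 1 + 1)
      have h1 : (U - T) * (V - S) - φ (α + a) =
          (U * V - φ α - φ a - u * S - v * T) - (U - u) * S - (V - v) * T + T * S := by
        rw [map_add]; ring
      rw [h1]
      refine add_mem (sub_mem (sub_mem h ?_) ?_) ?_
      · rw [pow_succ' J (n + 1)]; exact Ideal.mul_mem_mul hU hS
      · rw [pow_succ' J (n + 1)]; exact Ideal.mul_mem_mul hV hT
      · rw [pow_succ' J (n + 1)]; exact Ideal.mul_mem_mul (hleJ hT) hS
    · show U - T - U ∈ maximalIdeal C ^ (n + 1)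
      rw [sub_sub_cancel_left]
      exact neg_mem (hle hT)
    · show V - S - V ∈ maximalIdeal C ^ (n + 1)
      rw [sub_sub_cancel_left]
      exact neg_mem (hle hS)
    · show α + a - α ∈ maximalIdeal R ^ (n + 1)
      rw [add_sub_cancel_left]
      exact ha
  choose! next hnext hQ using step
  let seq : ℕ → C × C × R := fun n => Nat.rec (u, v, 0) (fun n s => next n s) n
  have hP : ∀ n, P n (seq n) := by
    intro n
    induction n with
    | zero => exact ⟨by simp [seq], by simp [seq], zero_mem _, by simpa [seq] using huv⟩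
    | succ n ih => exact hnext n _ ih
  have hseq : ∀ n, Q n (seq n) (seq (n + 1)) := fun n => hQ n _ (hP n)
  have lim : ∀ {S : Type u} [CommRing S] (I : Ideal S) [IsAdicComplete I S] (f : ℕ → S),
      (∀ n, f (n + 1) - f n ∈ I ^ (n + 1)) → ∃ L, ∀ n, L - f n ∈ I ^ n := by
    intro S _ I _ f hf
    have hc : ∀ n k, f (n + k) - f n ∈ I ^ n := by
      intro n k
      induction k with
      | zero => simp
      | succ k ih =>
        rw [← sub_add_sub_cancel (f (n + (k + 1))) (f (n + k)) (f n)]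
        exact add_mem (Ideal.pow_le_pow_right (by omega) (hf (n + k))) ih
    obtain ⟨L, hL⟩ := IsPrecomplete.prec (I := I) (M := S) inferInstance (f := f) (fun {a b} hab => by
      obtain ⟨k, rfl⟩ := Nat.exists_eq_add_of_le hab
      rw [SModEq.sub_mem, smul_eq_mul, Ideal.mul_top, ← neg_sub]
      exact neg_mem (hc a k))
    refine ⟨L, fun n => ?_⟩
    have := hL n
    rw [SModEq.sub_mem, smul_eq_mul, Ideal.mul_top] at this
    rw [← neg_sub]
    exact neg_mem this
  obtain ⟨U, hU⟩ := lim (maximalIdeal C) (fun n => (seq n).1) fun n => (hseq n).1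
  obtain ⟨V, hV⟩ := lim (maximalIdeal C) (fun n => (seq n).2.1) fun n => (hseq n).2.1
  obtain ⟨α, hα⟩ := lim (maximalIdeal R) (fun n => (seq n).2.2) fun n => (hseq n).2.2
  refine ⟨α, ?_, U, V, ?_, ?_, ?_⟩
  · rw [← sub_add_cancel α (seq 1).2.2]
    exact add_mem (by simpa using hα 1) (hP 1).2.2.1
  · refine NagataUJ.mem_of_forall_mem_sup_pow J _ fun n => Submodule.mem_sup.mpr
      ⟨(seq n).1 - u, (hP n).1, U - (seq n).1, hU n, by ring⟩
  · refine NagataUJ.mem_of_forall_mem_sup_pow J _ fun n => Submodule.mem_sup.mpr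
      ⟨(seq n).2.1 - v, (hP n).2.1, V - (seq n).2.1, hV n, by ring⟩
  · refine (IsHausdorff.eq_iff_smodEq (I := maximalIdeal C)).2 fun n => ?_
    rw [SModEq.sub_mem, smul_eq_mul, Ideal.mul_top]
    have h1 : U * V - φ α = (U - (seq n).1) * V + (seq n).1 * (V - (seq n).2.1) +
        ((seq n).1 * (seq n).2.1 - φ (seq n).2.2) - φ (α - (seq n).2.2) := by
      rw [map_sub]; ring
    rw [h1]
    refine sub_mem (add_mem (add_mem (Ideal.mul_mem_right _ _ (hU n)) (Ideal.mul_mem_left _ _ (hV n))) ?_) ?_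
    · exact Ideal.pow_le_pow_right (Nat.le_succ n) (Ideal.pow_right_mono hm _ (hP n).2.2.2)
    · have h2 := Ideal.mem_map_of_mem φ (hα n)
      rw [Ideal.map_pow] at h2
      exact Ideal.pow_right_mono hm _ h2

/-- Evaluation at the parameters is surjective. -/
theorem evalPS_surjective [IsNoetherianRing C] [IsAdicComplete (maximalIdeal R) R]
    [IsAdicComplete (maximalIdeal C) C] (φ : R →+* C)
    (hm : (maximalIdeal R).map φ ≤ maximalIdeal C) (hres : Function.Surjective ((residue C).comp φ))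
    {n : ℕ} (a : Fin n → C) (ham : ∀ i, a i ∈ maximalIdeal C)
    (ha : maximalIdeal C ≤ Ideal.span (Set.range a) ⊔ (maximalIdeal R).map φ) :
    Function.Surjective (CohenStruct.evalPS (maximalIdeal C) φ a ham) := by
  let A' : Ideal C := Ideal.span (Set.range a)
  have hA' : A' ≤ maximalIdeal C := Ideal.span_le.mpr (Set.range_subset_iff.mpr ham)
  have hne : A' ≠ ⊤ := fun h => (maximalIdeal.isMaximal C).ne_top (top_le_iff.mp (h.symm.le.trans hA'))
  have : Nontrivial (C ⧸ A') := Ideal.Quotient.nontrivial_iff.mpr hne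
  have : IsLocalRing (C ⧸ A') := .of_surjective' _ Ideal.Quotient.mk_surjective
  let g : R →+* C ⧸ A' := (Ideal.Quotient.mk A').comp φ
  have hmap : (maximalIdeal R).map g = maximalIdeal (C ⧸ A') := by
    rw [← Ideal.map_map, ← map_maximalIdeal_of_surjective (Ideal.Quotient.mk A') Ideal.Quotient.mk_surjective]
    refine le_antisymm (Ideal.map_mono hm) ((Ideal.map_mono ha).trans ?_)
    rw [Ideal.map_sup, Ideal.map_quotient_self, bot_sup_eq]
  have : IsHausdorff ((maximalIdeal R).map g) (C ⧸ A') := by rw [hmap]; infer_instance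
  have hg : Function.Surjective g := by
    refine surjective_of_mk_map_comp_surjective g (I := maximalIdeal R) fun y => ?_
    obtain ⟨y, rfl⟩ := Ideal.Quotient.mk_surjective y
    obtain ⟨y, rfl⟩ := Ideal.Quotient.mk_surjective y
    obtain ⟨c, hc⟩ := hres (residue C y)
    refine ⟨c, ?_⟩
    rw [RingHom.comp_apply, Ideal.Quotient.mk_eq_mk_iff_sub_mem, hmap, RingHom.comp_apply, ← map_sub,
      ← map_maximalIdeal_of_surjective (Ideal.Quotient.mk A') Ideal.Quotient.mk_surjective]
    refine Ideal.mem_map_of_mem _ ?_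
    rw [← residue_eq_zero_iff, map_sub, ← RingHom.comp_apply, hc, sub_self]
  set f := CohenStruct.evalPS (maximalIdeal C) φ a ham with hf
  have hfX : (Ideal.span (Set.range MvPowerSeries.X) : Ideal (MvPowerSeries (Fin n) R)).map f = A' :=
    CohenStruct.map_span_X _ _ _ ham
  have : IsHausdorff ((Ideal.span (Set.range MvPowerSeries.X) : Ideal (MvPowerSeries (Fin n) R)).map f) C := by
    rw [hfX]
    exact IsHausdorff.of_le_jacobson A' C (hA'.trans (maximalIdeal_le_jacobson ⊥))
  refine surjective_of_mk_map_comp_surjective f (I := Ideal.span (Set.range MvPowerSeries.X)) fun y => ?_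
  obtain ⟨y, rfl⟩ := Ideal.Quotient.mk_surjective y
  obtain ⟨c, hc⟩ := hg (Ideal.Quotient.mk A' y)
  refine ⟨MvPowerSeries.C c, ?_⟩
  rw [RingHom.comp_apply, CohenStruct.evalPS_C, Ideal.Quotient.mk_eq_mk_iff_sub_mem, hfX]
  exact Ideal.Quotient.eq.mp hc

/-- The kernel of reduction of coefficients modulo a finitely generated ideal. -/
theorem ker_map_le {A B : Type u} [CommRing A] [CommRing B] (π : A →+* B) (h : (RingHom.ker π).FG) {σ : Type*} :
    RingHom.ker (MvPowerSeries.map (σ := σ) π) ≤ (RingHom.ker π).map MvPowerSeries.C := by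
  classical
  obtain ⟨s, hs⟩ := h
  intro t ht
  have hc : ∀ e, ∃ r : s → A, ∑ i, r i • (i : A) = MvPowerSeries.coeff e t := fun e => by
    have he : MvPowerSeries.coeff e t ∈ Submodule.span A (Set.range ((↑) : s → A)) := by
      rw [Subtype.range_coe_subtype, show {x : A | x ∈ s} = (s : Set A) from rfl]
      rw [show Submodule.span A (s : Set A) = RingHom.ker π from hs, RingHom.mem_ker, ← MvPowerSeries.coeff_map,
        (RingHom.mem_ker.mp ht), map_zero]
    exact (Submodule.mem_span_range_iff_exists_fun A).mp he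
  choose r hr using hc
  have ht' : t = ∑ i : s, MvPowerSeries.C (i : A) * (show MvPowerSeries σ A from fun e => r e i) := by
    ext e
    rw [map_sum, ← hr e]
    refine Finset.sum_congr rfl fun i _ => ?_
    rw [MvPowerSeries.coeff_C_mul, smul_eq_mul, mul_comm]
    rfl
  rw [ht']
  exact sum_mem fun i _ => Ideal.mul_mem_right _ _ (Ideal.mem_map_of_mem _ (hs ▸ Ideal.subset_span i.2))

/-- **Injectivity**: a flat algebra with fibre the node is the deformed node. -/
theorem ker_le_span [IsNoetherianRing R] [IsNoetherianRing C] [Algebra R C] [Module.Flat R C]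
    [IsLocalHom (algebraMap R C)]
    (f : MvPowerSeries (Fin 2) R →+* C) (hf : Function.Surjective f)
    (hfC : ∀ r, f (MvPowerSeries.C r) = algebraMap R C r) (α : R) (hα : α ∈ maximalIdeal R)
    (hg : f (MvPowerSeries.X 0 * MvPowerSeries.X 1 - MvPowerSeries.C α) = 0)
    (e : (C ⧸ (maximalIdeal R).map (algebraMap R C)) ≃+*
      MvPowerSeries (Fin 2) (ResidueField R) ⧸
        Ideal.span {(MvPowerSeries.X 0 * MvPowerSeries.X 1 : MvPowerSeries (Fin 2) (ResidueField R))}) :
    RingHom.ker f ≤ Ideal.span {(MvPowerSeries.X 0 * MvPowerSeries.X 1 - MvPowerSeries.C α : MvPowerSeries (Fin 2) R)} := by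
  set g : MvPowerSeries (Fin 2) R := MvPowerSeries.X 0 * MvPowerSeries.X 1 - MvPowerSeries.C α with hgdef
  let q : MvPowerSeries (Fin 2) R →+* MvPowerSeries (Fin 2) R ⧸ Ideal.span {g} := Ideal.Quotient.mk _
  have hq : Function.Surjective q := Ideal.Quotient.mk_surjective
  let σ : MvPowerSeries (Fin 2) R ⧸ Ideal.span {g} →+* C := Ideal.Quotient.lift _ f
    fun x hx => by
      obtain ⟨c, rfl⟩ := Ideal.mem_span_singleton'.mp hx
      rw [map_mul, hg, mul_zero]
  have hσ : Function.Surjective σ := fun c => ⟨q (hf c).choose, (hf c).choose_spec⟩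
  let κ : R →+* MvPowerSeries (Fin 2) R ⧸ Ideal.span {g} := q.comp MvPowerSeries.C
  have hσκ : ∀ r, σ (κ r) = algebraMap R C r := fun r => hfC r
  let M' := (maximalIdeal R).map κ
  let J := (maximalIdeal R).map (algebraMap R C)
  have hJC : J ≤ maximalIdeal C := ((local_hom_TFAE _).out 0 2).mp ‹_›
  have hM'σ : M' ≤ J.comap σ := Ideal.map_le_iff_le_comap.mpr fun m hm => by
    rw [Ideal.mem_comap, Ideal.mem_comap, hσκ]
    exact Ideal.mem_map_of_mem _ hm
  let σb : (MvPowerSeries (Fin 2) R ⧸ Ideal.span {g}) ⧸ M' →+* C ⧸ J := Ideal.quotientMap J σ hM'σ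
  have hσb : Function.Surjective σb := Ideal.quotientMap_surjective hσ
  let N := MvPowerSeries (Fin 2) (ResidueField R) ⧸
    Ideal.span {(MvPowerSeries.X 0 * MvPowerSeries.X 1 : MvPowerSeries (Fin 2) (ResidueField R))}
  let mp : MvPowerSeries (Fin 2) R →+* MvPowerSeries (Fin 2) (ResidueField R) := MvPowerSeries.map (residue R)
  have hmp : Function.Surjective mp := fun t => by
    refine ⟨fun i => (residue_surjective (MvPowerSeries.coeff i t)).choose, ?_⟩
    ext i
    rw [MvPowerSeries.coeff_map]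
    exact (residue_surjective (MvPowerSeries.coeff i t)).choose_spec
  let q' : MvPowerSeries (Fin 2) R →+* (MvPowerSeries (Fin 2) R ⧸ Ideal.span {g}) ⧸ M' :=
    (Ideal.Quotient.mk M').comp q
  have hkmp : ∀ x ∈ RingHom.ker mp, q' x = 0 := fun x hx => by
    refine Ideal.Quotient.eq_zero_iff_mem.mpr ?_
    have h1 := Ideal.mem_map_of_mem q (ker_map_le (residue R) (IsNoetherian.noetherian _) hx)
    rwa [Ideal.map_map, ker_residue] at h1
  let j₀ := RingHom.liftOfSurjective mp hmp ⟨q', hkmp⟩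
  have hj₀ : ∀ x, j₀ (mp x) = q' x := fun x => RingHom.congr_fun (RingHom.liftOfSurjective_comp mp hmp ⟨q', hkmp⟩) x
  have hj₀g : j₀ (MvPowerSeries.X 0 * MvPowerSeries.X 1) = 0 := by
    have h1 : mp g = MvPowerSeries.X 0 * MvPowerSeries.X 1 := by
      simp [mp, g, residue_eq_zero_iff _ |>.mpr hα]
    rw [← h1, hj₀]
    show Ideal.Quotient.mk M' (q g) = 0
    rw [show q g = 0 from Ideal.Quotient.eq_zero_iff_mem.mpr (Ideal.mem_span_singleton_self g), map_zero]
  let j : N →+* (MvPowerSeries (Fin 2) R ⧸ Ideal.span {g}) ⧸ M' := Ideal.Quotient.lift _ j₀ fun x hx => by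
    obtain ⟨c, rfl⟩ := Ideal.mem_span_singleton'.mp hx
    exact RingHom.mem_ker.mp (Ideal.mul_mem_left (RingHom.ker j₀) c (RingHom.mem_ker.mpr hj₀g))
  have hj : Function.Surjective j := fun y => by
    obtain ⟨y, rfl⟩ := Ideal.Quotient.mk_surjective y
    obtain ⟨x, rfl⟩ := hq y
    exact ⟨Ideal.Quotient.mk _ (mp x), hj₀ x⟩
  have hNN : Function.Injective ((e.toRingHom.comp σb).comp j) :=
    injective_of_surjective_end _ ((e.surjective.comp hσb).comp hj)
  have hσbi : Function.Injective σb := fun a b hab => by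
    obtain ⟨a, rfl⟩ := hj a
    obtain ⟨b, rfl⟩ := hj b
    exact congrArg j (hNN (by simp [hab]))
  let K := RingHom.ker σ
  obtain ⟨n, m, hm⟩ := Submodule.fg_iff_exists_fin_generating_family.mp (IsNoetherian.noetherian (maximalIdeal R))
  have hKM : K ≤ M' • K := by
    intro x hx
    have hxM : x ∈ M' := by
      refine Ideal.Quotient.eq_zero_iff_mem.mp (hσbi ?_)
      rw [map_zero]
      show Ideal.Quotient.mk J (σ x) = 0
      rw [RingHom.mem_ker.mp hx, map_zero]
    have hM' : M' = Ideal.span (Set.range fun i => κ (m i)) := by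
      show Ideal.map κ (maximalIdeal R) = _
      rw [← hm, Ideal.submodule_span_eq, Ideal.map_span, ← Set.range_comp]
      rfl
    obtain ⟨t, ht⟩ := (Submodule.mem_span_range_iff_exists_fun _).mp (hM' ▸ hxM)
    have h0 : ∑ i, m i • σ (t i) = 0 := by
      rw [← RingHom.mem_ker.mp hx, ← ht, map_sum]
      refine Finset.sum_congr rfl fun i _ => ?_
      rw [smul_eq_mul, map_mul, hσκ, Algebra.smul_def, mul_comm]
    obtain ⟨k, a, y, hy, ha⟩ := Module.Flat.isTrivialRelation_of_sum_smul_eq_zero (R := R) (M := C) (f := m) (x := fun i => σ (t i)) h0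
    choose w hw using fun l => hσ (y l)
    have hk : ∀ i, t i - ∑ l, κ (a i l) * w l ∈ K := fun i => by
      rw [RingHom.mem_ker, map_sub, map_sum, show σ (t i) = _ from hy i, sub_eq_zero]
      refine Finset.sum_congr rfl fun l _ => ?_
      rw [map_mul, hσκ, hw, Algebra.smul_def]
    have hz : ∑ i, (∑ l, κ (a i l) * w l) * κ (m i) = 0 := by
      simp only [Finset.sum_mul]
      rw [Finset.sum_comm]
      refine Finset.sum_eq_zero fun l _ => ?_
      calc ∑ i, κ (a i l) * w l * κ (m i) = κ (∑ i, m i * a i l) * w l := by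
            rw [map_sum, Finset.sum_mul]
            exact Finset.sum_congr rfl fun i _ => by rw [map_mul]; ring
        _ = 0 := by rw [ha l, map_zero, zero_mul]
    have hx' : x = ∑ i, κ (m i) • (t i - ∑ l, κ (a i l) * w l) := by
      rw [← ht]
      simp only [smul_eq_mul, mul_sub, Finset.sum_sub_distrib]
      simp only [mul_comm (κ (m _))]
      rw [hz, sub_zero]
    rw [hx']
    refine Submodule.sum_mem _ fun i _ => Submodule.smul_mem_smul ?_ (hk i)
    exact Ideal.mem_map_of_mem κ (hm.le (Submodule.subset_span ⟨i, rfl⟩))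
  have hM'jac : M' ≤ Ideal.jacobson ⊥ := by
    have : Nontrivial (MvPowerSeries (Fin 2) R ⧸ Ideal.span {g}) := hσ.nontrivial
    have : IsLocalRing (MvPowerSeries (Fin 2) R ⧸ Ideal.span {g}) := IsLocalRing.of_surjective' q hq
    refine le_trans (fun z hz => ?_) (maximalIdeal_le_jacobson ⊥)
    rw [mem_maximalIdeal, mem_nonunits_iff]
    exact fun hu => hJC (hM'σ hz) (hu.map σ)
  have hK : K = ⊥ := Submodule.eq_bot_of_le_smul_of_le_jacobson_bot M' K (IsNoetherian.noetherian K) hKM hM'jac
  intro x hx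
  have h1 : q x ∈ K := hx
  rw [hK] at h1
  exact Ideal.Quotient.eq_zero_iff_mem.mp h1

end Groth.Agent.GRing17.Node
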