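import Groth.Agent.J2Lib.Criterion

/-!
# Openness of the regular locus from a pointwise condition on regular points
-/

universe u

namespace Groth.Agent.GRing17

/-- Nagata's openness criterion, asked only at the points of the regular locus. -/
theorem isOpen_regLocus_of_forall {R : Type u} [CommRing R] [IsNoetherianRing R]
    (h : ∀ p ∈ EGA4.regLocus R, ∃ g ∉ p.asIdeal,
      ∀ q : PrimeSpectrum R, p ≤ q → g ∉ q.asIdeal → q ∈ EGA4.regLocus R) :
    IsOpen (EGA4.regLocus R) := by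
  classical
  rw [← isClosed_compl_iff, PrimeSpectrum.isClosed_iff_zeroLocus_ideal]
  set E := EGA4.regLocus R
  let J := PrimeSpectrum.vanishingIdeal Eᶜ
  refine ⟨J, subset_antisymm (PrimeSpectrum.subset_zeroLocus_vanishingIdeal _) fun x hx hxE => ?_⟩
  obtain ⟨P, hP, hPx⟩ := Ideal.exists_minimalPrimes_le (show J ≤ x.asIdeal from hx)
  haveI := hP.1.1
  have hPE : (⟨P, hP.1.1⟩ : PrimeSpectrum R) ∈ E := J2Lib.mem_regLocus_of_le hPx hxE
  obtain ⟨g, hg, hgE⟩ := h ⟨P, hP.1.1⟩ hPE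
  let S := (J.finite_minimalPrimes_of_isNoetherianRing).toFinset.erase P
  have hS : ∀ P' ∈ S, ∃ a ∈ P', a ∉ P := fun P' hP' => by
    obtain ⟨hne, hmem⟩ := Finset.mem_erase.1 hP'
    rw [Set.Finite.mem_toFinset] at hmem
    exact Set.not_subset.1 fun hle => hne (le_antisymm hle (hP.2 ⟨hmem.1.1, hmem.1.2⟩ hle))
  choose! a ha ha' using hS
  have hprod : g * ∏ P' ∈ S, a P' ∈ J := by
    refine (PrimeSpectrum.mem_vanishingIdeal _ _).2 fun z hz => ?_
    by_cases hgz : g ∈ z.asIdeal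
    · exact Ideal.mul_mem_right _ _ hgz
    have hnP : ¬ P ≤ z.asIdeal := fun hle => hz (hgE z hle hgz)
    obtain ⟨P', hP', hP'z⟩ :=
      Ideal.exists_minimalPrimes_le (show J ≤ z.asIdeal from fun w hw =>
        (PrimeSpectrum.mem_vanishingIdeal _ _).1 hw z hz)
    have hS' : P' ∈ S := Finset.mem_erase.2 ⟨fun he => hnP (he ▸ hP'z), by simpa using hP'⟩
    obtain ⟨w, hw⟩ := Finset.dvd_prod_of_mem a hS'
    rw [hw]
    exact Ideal.mul_mem_left _ _ (Ideal.mul_mem_right _ _ (hP'z (ha P' hS')))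
  rcases hP.1.1.mem_or_mem (hP.1.2 hprod) with h1 | h1
  · exact hg h1
  · obtain ⟨P', hP', hP''⟩ := (Ideal.IsPrime.prod_mem_iff (p := P)).1 h1
    exact ha' P' hP' hP''

end Groth.Agent.GRing17
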