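import Groth.Agent.GRing17.PowerSeries
import Groth.Agent.FlatAscent.Tensor
import Groth.Agent.FlatAscent.QuotientFibre
import Mathlib.Algebra.MvPolynomial.PDeriv

/-!
# Formal fibres of polynomial rings over power series rings
-/

universe u

open TensorProduct IsLocalRing




namespace Groth.Agent.GRing17

section

-- use the canonical `ℤ`-algebra structure
attribute [local instance 10000] Ring.toIntAlgebra

/-- A derivation of a ring extends to completions at primes. -/
theorem exists_derivation_cpl {T : Type u} [CommRing T] (Q : Ideal T) [Q.IsPrime] (D : Derivation ℤ T T) :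
    ∃ D' : Derivation ℤ (EGA4.Cpl (Localization.AtPrime Q)) (EGA4.Cpl (Localization.AtPrime Q)),
      ∀ x, D' (algebraMap T _ x) = algebraMap T _ (D x) := by
  obtain ⟨D₁, hD₁⟩ := exists_derivation_localization Q.primeCompl (B := Localization.AtPrime Q) D
  obtain ⟨D₂, hD₂⟩ := exists_derivation_completion (maximalIdeal (Localization.AtPrime Q)) D₁
  refine ⟨D₂, fun x => ?_⟩
  rw [IsScalarTower.algebraMap_apply T (Localization.AtPrime Q) (EGA4.Cpl (Localization.AtPrime Q)),
    IsScalarTower.algebraMap_apply T (Localization.AtPrime Q) (EGA4.Cpl (Localization.AtPrime Q)), ← hD₁]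
  exact hD₂ _

/-- Completions of polynomial rings over power series rings have geometrically regular generic fibres. -/
theorem isGeometricallyRegular_generic_polynomial {Λ : Type u} [CommRing Λ]
    (hΛ : IsField Λ ∨ CAlg.IsCohenRing Λ) (n r : ℕ)
    (Q : Ideal (MvPolynomial (Fin r) (MvPowerSeries (Fin n) Λ))) [Q.IsPrime]
    (F : Type u) [Field F] [Algebra (MvPowerSeries (Fin n) Λ) F] [IsFractionRing (MvPowerSeries (Fin n) Λ) F] :
    IsRegularRing (EGA4.Cpl (Localization.AtPrime Q)) ∧
      CAlg.IsGeometricallyRegular F (F ⊗[MvPowerSeries (Fin n) Λ] EGA4.Cpl (Localization.AtPrime Q)) := by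
  have hregΛ : IsRegularRing Λ := by
    rcases hΛ with hF | hC
    · let := hF.toField
      exact DepthLib.CMPoly.isRegularRing_field Λ
    · obtain ⟨hd, hdvr, -⟩ := hC
      infer_instance
  have hP := PP16Lib.isRegularRing_mvPowerSeries (A := Λ) n
  let P := MvPowerSeries (Fin n) Λ
  let T := MvPolynomial (Fin r) P
  let C := EGA4.Cpl (Localization.AtPrime Q)
  have hC : IsRegularRing C := isRegularRing_cpl _
  have hG : IsRegularRing (F ⊗[P] C) := isRegularRing_generic C
  refine ⟨hC, ?_⟩
  have hinj : Function.Injective ((algebraMap P F).comp (MvPowerSeries.C : Λ →+* P)) :=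
    (IsFractionRing.injective P F).comp MvPowerSeries.C_injective
  obtain ⟨ℓ, hℓ⟩ := CharP.exists F
  rcases CharP.char_is_prime_or_zero F ℓ with hl | hl
  swap
  · subst hl
    have := CharP.charP_to_charZero F
    exact isGeometricallyRegular_of_charZero F _ hG
  have : Fact ℓ.Prime := ⟨hl⟩
  have : CharP Λ ℓ := (RingHom.charP_iff _ hinj ℓ).mpr hℓ
  rcases hΛ with hF | hCo
  swap
  · have := charZero_of_isCohenRing hCo
    exact absurd (CharP.cast_eq_zero Λ ℓ) (Nat.cast_ne_zero.mpr hl.ne_zero)
  let := hF.toField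
  refine isGeometricallyRegular_generic (P := P) (C := C) (p := ℓ) fun s e => ?_
  obtain ⟨ι, _, b, D, h₀, h₁, hb⟩ := exists_dual_derivations (K := Λ) (p := ℓ) n F s e
  choose D₁ hD₁ hD₁X using fun i => exists_derivation_mvPolynomial (ι := Fin r) (D i)
  choose D₂ hD₂ using fun i => exists_derivation_cpl Q (D₁ i)
  have hD : ∀ i x, D₂ i (algebraMap P C x) = algebraMap P C (D i x) := fun i x => by
    rw [IsScalarTower.algebraMap_apply P T C, IsScalarTower.algebraMap_apply P T C, hD₂,
      MvPolynomial.algebraMap_eq, hD₁]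
  exact ⟨ι, inferInstance, b, D₂, fun i j hij => by rw [hD, h₀ i j hij, map_zero],
    fun i => ⟨D i (b i), h₁ i, hD i _⟩, hb⟩

/-- Regularity of `L ⊗ C` over a polynomial ring from regularity over the coefficient ring and dual
partial derivatives. -/
theorem isRegularRing_tensor_of_partials {P L C : Type u} [CommRing P] [CommRing L] [CommRing C]
    (r : ℕ) [Algebra P L] [Algebra P C] [Algebra (MvPolynomial (Fin r) P) L] [Algebra (MvPolynomial (Fin r) P) C]
    [IsScalarTower P (MvPolynomial (Fin r) P) L] [IsScalarTower P (MvPolynomial (Fin r) P) C]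
    (D : Fin r → C →ₗ[P] C) (hD : ∀ i x y, D i (x * y) = x * D i y + y * D i x)
    (hDX : ∀ i j, D i (algebraMap (MvPolynomial (Fin r) P) C (MvPolynomial.X j)) = if i = j then 1 else 0)
    (h : IsRegularRing (L ⊗[P] C)) : IsRegularRing (L ⊗[MvPolynomial (Fin r) P] C) := by
  classical
  let T := MvPolynomial (Fin r) P
  let g : Fin r → (L ⊗[P] C) := fun j =>
    algebraMap T L (MvPolynomial.X j) ⊗ₜ 1 - (1 : L) ⊗ₜ algebraMap T C (MvPolynomial.X j)
  let E : Fin r → (L ⊗[P] C) →ₗ[P] (L ⊗[P] C) := fun i => LinearMap.lTensor L (D i)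
  have hE : ∀ i x y, E i (x * y) = x * E i y + y * E i x := by
    intro i x y
    induction x using TensorProduct.induction_on with
    | zero => simp
    | add x x' hx hx' => simp only [add_mul, map_add, mul_add, hx, hx']; abel
    | tmul l c =>
      induction y using TensorProduct.induction_on with
      | zero => simp
      | add y y' hy hy' => simp only [add_mul, map_add, mul_add, hy, hy']; abel
      | tmul l' c' =>
        simp only [E, Algebra.TensorProduct.tmul_mul_tmul, LinearMap.lTensor_tmul, hD, tmul_add]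
        rw [mul_comm l' l]
  let E' : Fin r → Derivation ℤ (L ⊗[P] C) (L ⊗[P] C) := fun i =>
    Derivation.mk' (E i).toAddMonoidHom.toIntLinearMap fun x y => hE i x y
  have hEg : ∀ i j, E' i (g j) = -(if i = j then 1 else 0) := fun i j => by
    show E i (g j) = _
    have h1 : D i 1 = 0 := by
      have := hD i 1 1
      rw [mul_one, one_mul] at this
      exact left_eq_add.mp this
    simp only [g, E, map_sub, LinearMap.lTensor_tmul, h1, tmul_zero, zero_sub, hDX]
    have h2 : D i (algebraMap T C (MvPolynomial.X j)) = if i = j then 1 else 0 := hDX i j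
    split_ifs with hij
    · rw [h2, if_pos hij]; rfl
    · rw [h2, if_neg hij, tmul_zero]
  have hreg : IsRegularRing ((L ⊗[P] C) ⧸ Ideal.span (Set.range g)) := by
    refine isRegularRing_iff.mpr fun Q _ => isRegularLocalRing_quotient_of_derivations g E' (fun i j hij => ?_) Q
      fun i hi => ?_
    · rw [hEg, if_neg hij, neg_zero]; exact zero_mem _
    · rw [hEg, if_pos rfl, map_neg, map_one, neg_mem_iff] at hi
      exact Ideal.IsPrime.ne_top ‹_› (Q.eq_top_of_isUnit_mem hi isUnit_one)
  -- `(L ⊗[P] C) / (g) = L ⊗[T] C`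
  let π := Ideal.Quotient.mk (Ideal.span (Set.range g))
  let iL : L →+* (L ⊗[P] C) ⧸ Ideal.span (Set.range g) := π.comp Algebra.TensorProduct.includeLeftRingHom
  let iC : C →+* (L ⊗[P] C) ⧸ Ideal.span (Set.range g) :=
    π.comp (Algebra.TensorProduct.includeRight : C →ₐ[P] (L ⊗[P] C)).toRingHom
  have hgen : iC.comp (algebraMap T C) = iL.comp (algebraMap T L) := by
    refine MvPolynomial.ringHom_ext (fun a => ?_) fun j => ?_
    · show π ((1 : L) ⊗ₜ algebraMap T C (MvPolynomial.C a)) = π (algebraMap T L (MvPolynomial.C a) ⊗ₜ 1)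
      rw [← MvPolynomial.algebraMap_eq, ← IsScalarTower.algebraMap_apply, ← IsScalarTower.algebraMap_apply,
        Algebra.algebraMap_eq_smul_one, Algebra.algebraMap_eq_smul_one, TensorProduct.smul_tmul]
    · have hj : g j ∈ Ideal.span (Set.range g) := Ideal.subset_span (Set.mem_range_self j)
      exact (Ideal.Quotient.eq.mpr hj).symm
  let ψ : L ⊗[T] C →ₐ[T] (L ⊗[P] C) ⧸ Ideal.span (Set.range g) := Algebra.TensorProduct.lift
    { toRingHom := iL, commutes' := fun _ => rfl }
    { toRingHom := iC, commutes' := fun t => RingHom.congr_fun hgen t } (fun _ _ => Commute.all _ _)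
  let φ₀ : (L ⊗[P] C) →ₐ[L] L ⊗[T] C := Algebra.TensorProduct.mapOfCompatibleSMul T P L L C
  let φ : (L ⊗[P] C) ⧸ Ideal.span (Set.range g) →+* L ⊗[T] C := Ideal.Quotient.lift _ φ₀.toRingHom (fun x hx => by
    refine RingHom.mem_ker.mp ((Ideal.span_le.mpr ?_) hx)
    rintro _ ⟨j, rfl⟩
    rw [SetLike.mem_coe, RingHom.mem_ker]
    show φ₀ (g j) = 0
    simp only [g, φ₀, map_sub, Algebra.TensorProduct.mapOfCompatibleSMul_tmul, sub_eq_zero]
    rw [Algebra.algebraMap_eq_smul_one, Algebra.algebraMap_eq_smul_one, TensorProduct.smul_tmul])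
  have h1 : ∀ x, φ (ψ x) = x := fun x => by
    induction x using TensorProduct.induction_on with
    | zero => rw [map_zero, map_zero]
    | add a b ha hb => rw [map_add, map_add, ha, hb]
    | tmul l c =>
      rw [show ψ (l ⊗ₜ c) = iL l * iC c from Algebra.TensorProduct.lift_tmul _ _ _ _ _, map_mul]
      show φ₀ (l ⊗ₜ 1) * φ₀ (1 ⊗ₜ c) = _
      simp [φ₀]
  have h2 : ∀ w, ψ (φ (π w)) = π w := fun w => by
    induction w using TensorProduct.induction_on with
    | zero => simp
    | add a b ha hb => simp only [map_add, ha, hb]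
    | tmul l c =>
      show ψ (φ₀ (l ⊗ₜ c)) = _
      rw [show φ₀ (l ⊗ₜ c) = l ⊗ₜ c from rfl,
        show ψ (l ⊗ₜ c) = iL l * iC c from Algebra.TensorProduct.lift_tmul _ _ _ _ _]
      show π (l ⊗ₜ 1) * π (1 ⊗ₜ c) = _
      rw [← map_mul, Algebra.TensorProduct.tmul_mul_tmul, mul_one, one_mul]
  have hbij : Function.Bijective φ := by
    refine ⟨fun a b hab => ?_, fun x => ⟨ψ x, h1 x⟩⟩
    obtain ⟨a, rfl⟩ := Ideal.Quotient.mk_surjective a
    obtain ⟨b, rfl⟩ := Ideal.Quotient.mk_surjective b
    rw [← h2 a, ← h2 b]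
    exact congrArg ψ hab
  exact FlatAscent.isRegularRing_transport (RingEquiv.ofBijective φ hbij) hreg

/-- Bases over which finite type algebras have geometrically regular formal fibres. -/
def GoodBase (P : Type u) [CommRing P] : Prop :=
  ∀ (r : ℕ) (Q : Ideal (MvPolynomial (Fin r) P)) [Q.IsPrime] (F : Type u) [Field F] [Algebra P F]
    [IsFractionRing P F],
    CAlg.IsGeometricallyRegular F (F ⊗[P] EGA4.Cpl (Localization.AtPrime Q))

/-- Power series rings over fields and Cohen rings are good bases. -/
theorem goodBase_powerSeries {Λ : Type u} [CommRing Λ] (hΛ : IsField Λ ∨ CAlg.IsCohenRing Λ) (n : ℕ) :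
    GoodBase (MvPowerSeries (Fin n) Λ) :=
  fun r Q _ F _ _ _ => (isGeometricallyRegular_generic_polynomial hΛ n r Q F).2

/-- The regular rings needed for fibres of finite type algebras over complete local rings. -/
theorem isRegularRing_field_tensor_polynomial {P : Type u} [CommRing P] (hP : GoodBase P) (r : ℕ)
    (Q : Ideal (MvPolynomial (Fin r) P)) [Q.IsPrime]
    (L : Type u) [Field L] [Algebra P L] [Algebra (MvPolynomial (Fin r) P) L]
    [IsScalarTower P (MvPolynomial (Fin r) P) L]
    (hinj : Function.Injective (algebraMap P L)) [Algebra.EssFiniteType P L] :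
    IsRegularRing (L ⊗[MvPolynomial (Fin r) P] EGA4.Cpl (Localization.AtPrime Q)) := by
  let T := MvPolynomial (Fin r) P
  let C := EGA4.Cpl (Localization.AtPrime Q)
  have : IsDomain P := Function.Injective.isDomain (algebraMap P L) hinj
  have : Module.IsTorsionFree P L := Module.isTorsionFree_iff_algebraMap_injective.mpr hinj
  let F := FractionRing P
  let : Algebra F L := FractionRing.liftAlgebra P L
  have : IsScalarTower P F L := FractionRing.isScalarTower_liftAlgebra P L
  have : Algebra.EssFiniteType F L := Algebra.EssFiniteType.of_comp P F L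
  have hg := hP r Q F
  have : IsNoetherianRing (F ⊗[P] C) := FlatAscent.isNoetherianRing_of_geometricallyRegular hg
  have hW : IsRegularRing (L ⊗[P] C) := FlatAscent.isRegularRing_transport
    (Algebra.TensorProduct.cancelBaseChange P F F L C).toRingEquiv
    (FlatAscent.isRegularRing_of_geometricallyRegular hg L)
  choose D hD using fun i : Fin r => exists_derivation_cpl Q ((MvPolynomial.pderiv i).restrictScalars ℤ)
  have hDP : ∀ i (a : P) (c : C), D i (a • c) = a • D i c := fun i a c => by
    have h0 : D i (algebraMap P C a) = 0 := by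
      rw [IsScalarTower.algebraMap_apply P T C, hD, Derivation.restrictScalars_apply,
        MvPolynomial.algebraMap_eq, MvPolynomial.pderiv_C, map_zero]
    rw [Algebra.smul_def, Derivation.leibniz, h0, smul_zero, add_zero, smul_eq_mul, ← Algebra.smul_def]
  refine isRegularRing_tensor_of_partials r
    (fun i => { toFun := D i, map_add' := map_add (D i), map_smul' := fun a c => hDP i a c })
    (fun i x y => ?_) (fun i j => ?_) hW
  · show D i (x * y) = _
    rw [Derivation.leibniz]
    rfl
  · show D i (algebraMap T C (MvPolynomial.X j)) = _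
    rw [hD, Derivation.restrictScalars_apply, MvPolynomial.pderiv_X, Pi.single_apply]
    split_ifs with h1 h2
    · exact map_one _
    · exact absurd h1.symm h2
    · rename_i h2; exact absurd h2.symm h1
    · exact map_zero _

end

end Groth.Agent.GRing17
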