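import Groth.Agent.CohenStruct.EGA
import Groth.Agent.CohenStruct.PowerSeries
import Groth.Agent.CTensorRed.PowerSeries
import Groth.Agent.CTensorRed.Main
import Groth.Prelude.Def_CAlgX

/-!
# Power series rings over formally smooth coefficient rings
-/

universe u

open IsLocalRing

namespace Groth.Agent.GRing17

/-- Formal smoothness of power series rings over a formally smooth local ring. -/
theorem adicSmooth_powerSeries_base {R D : Type u} [CommRing R] [CommRing D] [IsLocalRing D] [IsNoetherianRing D]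
    [Algebra R D] (d : ℕ) [alg : Algebra R (MvPowerSeries (Fin d) D)]
    (hT : ∀ r, algebraMap R (MvPowerSeries (Fin d) D) r = MvPowerSeries.C (algebraMap R D r))
    (h : CAlgX.IsAdicFormallySmooth R D (maximalIdeal D)) :
    CAlgX.IsAdicFormallySmooth R (MvPowerSeries (Fin d) D) (maximalIdeal (MvPowerSeries (Fin d) D)) := by
  intro E _ _ N hN ψ hψ
  obtain ⟨k, hk⟩ := hψ
  let T := MvPowerSeries (Fin d) D
  have hmC : (maximalIdeal D).map (MvPowerSeries.C : D →+* T) ≤ maximalIdeal T := by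
    rw [CTensorRed.maximalIdeal_eq_sup (B := D) (d := d)]
    exact le_sup_left
  let ψ₀ : D →ₐ[R] E ⧸ N :=
    { ψ.toRingHom.comp MvPowerSeries.C with
      commutes' := fun r => by
        show ψ (MvPowerSeries.C (algebraMap R D r)) = _
        rw [← hT]
        exact ψ.commutes r }
  obtain ⟨χ₀, hχ₀⟩ := h E N hN ψ₀ ⟨k, fun x hx => hk _ (Ideal.pow_right_mono hmC k (by
    rw [← Ideal.map_pow]; exact Ideal.mem_map_of_mem _ hx))⟩
  choose t hmk using fun i => Ideal.Quotient.mk_surjective (ψ (MvPowerSeries.X i : T))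
  let I : Ideal E := Ideal.span (Set.range t)
  have ht : ∀ i, t i ∈ I := fun i => Ideal.subset_span ⟨i, rfl⟩
  have hIN : (I.map (Ideal.Quotient.mk N)) ^ k = ⊥ := by
    have h1 : I.map (Ideal.Quotient.mk N) ≤ (maximalIdeal T).map ψ.toRingHom := by
      rw [Ideal.map_span, Ideal.span_le]
      rintro _ ⟨_, ⟨i, rfl⟩, rfl⟩
      rw [SetLike.mem_coe, hmk]
      refine Ideal.mem_map_of_mem ψ.toRingHom ?_
      rw [CTensorRed.maximalIdeal_eq_sup (B := D) (d := d)]
      exact Submodule.mem_sup_right (Ideal.subset_span ⟨i, rfl⟩)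
    refine le_bot_iff.mp ((Ideal.pow_right_mono h1 k).trans ?_)
    rw [← Ideal.map_pow, Ideal.map_le_iff_le_comap]
    exact fun x hx => hk x hx
  have hI : I ^ (k * 2) = ⊥ := by
    have h1 : I ^ k ≤ N := by
      rw [← Ideal.map_pow, Ideal.map_eq_bot_iff_le_ker, Ideal.mk_ker] at hIN
      exact hIN
    rw [pow_mul, eq_bot_iff, ← hN]
    exact Ideal.pow_right_mono h1 2
  have : IsAdicComplete I E := CTensorRed.isAdicComplete_of_pow_eq_bot _ hI
  have : IsAdicComplete (I.map (Ideal.Quotient.mk N)) (E ⧸ N) := CTensorRed.isAdicComplete_of_pow_eq_bot _ hIN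
  let χ : T →+* E := CohenStruct.evalPS I χ₀.toRingHom t ht
  have hχC : ∀ c, χ (MvPowerSeries.C c) = χ₀ c := CohenStruct.evalPS_C I χ₀.toRingHom t ht
  have hχX : ∀ i, χ (MvPowerSeries.X i) = t i := CohenStruct.evalPS_X I χ₀.toRingHom t ht
  have hlift : (Ideal.Quotient.mk N).comp χ = ψ.toRingHom := by
    refine CTensorRed.ringHom_ext (I.map (Ideal.Quotient.mk N)) _ _ (fun c => ?_) (fun i => ?_) fun i => ?_
    · rw [RingHom.comp_apply, hχC]
      exact AlgHom.congr_fun hχ₀ c
    · rw [RingHom.comp_apply, hχX]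
      exact hmk i
    · rw [RingHom.comp_apply, hχX]
      exact Ideal.mem_map_of_mem _ (ht i)
  exact ⟨{ χ with commutes' := fun r => (congrArg χ (hT r)).trans ((hχC _).trans (χ₀.commutes r)) },
    AlgHom.ext (RingHom.congr_fun hlift)⟩

/-- Cohen rings are formally smooth over `ℤ`. -/
theorem adicSmooth_cohen {W : Type} [CommRing W] [IsLocalRing W] [Algebra ℤ W] (hW : CAlg.IsCohenRing W) :
    CAlgX.IsAdicFormallySmooth ℤ W (maximalIdeal W) := by
  intro E _ _ N hN ψ hψ
  obtain ⟨k, hk⟩ := hψ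
  obtain ⟨_, p, hp, hmax, -, _, -, -⟩ := CohenStruct.cohen_props hW
  have : Fact p.Prime := ⟨hp⟩
  have hnil : IsNilpotent (p : E) := by
    refine ⟨k * 2, ?_⟩
    have h1 : (p : E) ^ k ∈ N := by
      rw [← Ideal.Quotient.eq_zero_iff_mem, map_pow, map_natCast, ← map_natCast ψ, ← map_pow]
      exact hk _ (Ideal.pow_mem_pow (hmax ▸ Ideal.mem_span_singleton_self _) k)
    rw [pow_mul, ← Submodule.mem_bot E, ← hN]
    exact Ideal.pow_mem_pow h1 2
  obtain ⟨g, hg⟩ := CohenStruct.exists_lift_nilpotent_of_cohen p (W := W) (hmax ▸ maximalIdeal.isMaximal W)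
    (Ideal.Quotient.mk N) Ideal.Quotient.mk_surjective ⟨2, by rw [Ideal.mk_ker]; exact hN⟩ hnil ψ.toRingHom
  exact ⟨{ g with commutes' := fun z => RingHom.congr_fun (RingHom.ext_int (g.comp (algebraMap ℤ W)) (algebraMap ℤ E)) z },
    AlgHom.ext fun x => RingHom.congr_fun hg x⟩

end Groth.Agent.GRing17
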