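import Groth.Agent.GRing17.Derivation
import Groth.Agent.RegularSerre.Localization
import Groth.Agent.DepthLib.RegularLocal
import Mathlib.RingTheory.Regular.RegularSequence

/-!
# Regular sequences with dual derivations
-/

universe u

attribute [local instance 10000] Ring.toIntAlgebra

namespace Groth.Agent.GRing17

open IsLocalRing

theorem isRegularLocalRing_quotient_dual {R : Type u} [CommRing R] [IsRegularRing R] [IsLocalRing R]
    {ι : Type*} [Finite ι] (h : ι → R) (hh : ∀ i, h i ∈ maximalIdeal R) (E : ι → Derivation ℤ R R)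
    (h₀ : ∀ i j, i ≠ j → E i (h j) = 0) (h₁ : ∀ i, E i (h i) = 1) :
    IsRegularLocalRing (R ⧸ Ideal.span (Set.range h)) := by
  let J := Ideal.span (Set.range h)
  have hJ : J ≤ maximalIdeal R := Ideal.span_le.mpr (Set.range_subset_iff.mpr hh)
  have : Nontrivial (R ⧸ J) :=
    Ideal.Quotient.nontrivial_iff.mpr (ne_top_of_le_ne_top (maximalIdeal.isMaximal R).ne_top hJ)
  have : IsLocalRing (R ⧸ J) := IsLocalRing.of_surjective' _ Ideal.Quotient.mk_surjective
  let Q := maximalIdeal (R ⧸ J)
  have hQ := isRegularLocalRing_quotient_of_derivations h E (fun i j hij => by rw [h₀ i j hij]; exact zero_mem _) Q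
    fun i hi => by
      rw [h₁, map_one] at hi
      exact (maximalIdeal.isMaximal (R ⧸ J)).ne_top ((Ideal.eq_top_iff_one _).mpr hi)
  exact IsRegularLocalRing.of_ringEquiv (R := Localization.AtPrime Q)
    (IsLocalization.atUnits (R ⧸ J) Q.primeCompl fun x hx => by
      simp only [Q, Ideal.mem_primeCompl_iff, IsLocalRing.mem_maximalIdeal, mem_nonunits_iff, not_not] at hx
      exact hx).symm.toRingEquiv

theorem isRegular_and_regularLocalRing_of_det {R : Type u} [CommRing R] [IsRegularLocalRing R] {m : ℕ}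
    (f : Fin m → R) (hf : ∀ i, f i ∈ maximalIdeal R) (D : Fin m → Derivation ℤ R R)
    (hdet : IsUnit (Matrix.det (Matrix.of (fun i j : Fin m => D i (f j))))) :
    IsRegularLocalRing (R ⧸ Ideal.span (Set.range f)) ∧
      RingTheory.Sequence.IsRegular R (List.ofFn f) := by
  classical
  have := RegularSerre.isRegularRing_of_isRegularLocalRing R
  let M := Matrix.of (fun i j : Fin m => D i (f j))
  let E : Fin m → Derivation ℤ R R := fun i => ∑ k, M⁻¹ i k • D k
  have hE : ∀ i j, E i (f j) = if i = j then 1 else 0 := fun i j => by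
    have h1 : (M⁻¹ * M) i j = (1 : Matrix (Fin m) (Fin m) R) i j := by rw [Matrix.nonsing_inv_mul M hdet]
    rw [Matrix.mul_apply, Matrix.one_apply] at h1
    rw [← h1]
    simp only [E, ← Derivation.coeFnAddMonoidHom_apply, map_sum, Finset.sum_apply]
    exact Finset.sum_congr rfl fun k _ => by simp [M]
  have hE0 : ∀ i j, i ≠ j → E i (f j) = 0 := fun i j hij => by rw [hE, if_neg hij]
  have hE1 : ∀ i, E i (f i) = 1 := fun i => by rw [hE, if_pos rfl]
  refine ⟨isRegularLocalRing_quotient_dual f hf E hE0 hE1, ⟨⟨fun i hi => ?_⟩, ?_⟩⟩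
  · have him : i < m := by rwa [List.length_ofFn] at hi
    rw [List.getElem_ofFn]
    let g : Fin i → R := fun j => f (Fin.castLE him.le j)
    have hI : Ideal.ofList ((List.ofFn f).take i) = Ideal.span (Set.range g) := by
      unfold Ideal.ofList
      congr 1
      ext x
      simp only [Set.mem_setOf_eq, List.mem_take_iff_getElem, List.getElem_ofFn, List.length_ofFn, Set.mem_range, g]
      exact ⟨fun ⟨j, hj, h⟩ => ⟨⟨j, by omega⟩, h⟩, fun ⟨j, h⟩ => ⟨j, by omega, h⟩⟩
    let I := Ideal.span (Set.range g)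
    have hreg : IsRegularLocalRing (R ⧸ I) :=
      isRegularLocalRing_quotient_dual g (fun j => hf _) (fun j => E (Fin.castLE him.le j))
        (fun a b hab => hE0 _ _ fun h => hab (Fin.castLE_injective _ h)) (fun a => hE1 _)
    have := DepthLib.isDomain_of_isRegularLocalRing (R ⧸ I)
    have hprime : I.IsPrime := (Ideal.Quotient.isDomain_iff_prime I).mp this
    have hIm : I ≤ maximalIdeal R := Ideal.span_le.mpr (Set.range_subset_iff.mpr fun j => hf _)
    have hnot : f ⟨i, him⟩ ∉ I := fun hmem => by
      obtain ⟨a, ha⟩ := (Submodule.mem_span_range_iff_exists_fun R).mp hmem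
      have h1 : E ⟨i, him⟩ (f ⟨i, him⟩) ∈ maximalIdeal R := by
        rw [← ha, map_sum]
        refine Ideal.sum_mem _ fun j _ => ?_
        rw [smul_eq_mul, Derivation.leibniz, smul_eq_mul, smul_eq_mul,
          hE0 _ _ fun h => absurd (congrArg Fin.val h) (by simp; omega), mul_zero, zero_add]
        exact Ideal.mul_mem_right _ _ (hf _)
      rw [hE1] at h1
      exact (maximalIdeal.isMaximal R).ne_top ((Ideal.eq_top_iff_one _).mpr h1)
    refine IsSMulRegular.of_right_eq_zero_of_smul fun x hx => ?_
    obtain ⟨x, rfl⟩ := Submodule.Quotient.mk_surjective _ x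
    rw [← Submodule.Quotient.mk_smul, Submodule.Quotient.mk_eq_zero] at hx
    rw [Submodule.Quotient.mk_eq_zero]
    rw [smul_eq_mul, Ideal.mul_top, hI] at hx ⊢
    exact (hprime.mem_or_mem hx).resolve_left hnot
  · rw [smul_eq_mul, Ideal.mul_top]
    refine (ne_top_of_le_ne_top (maximalIdeal.isMaximal R).ne_top (Ideal.span_le.mpr fun x hx => ?_)).symm
    obtain ⟨j, rfl⟩ : ∃ j, f j = x := by simpa [List.mem_ofFn] using hx
    exact hf j

/-- A derivation on coefficients, for one variable. -/
theorem exists_derivation_polynomial {R : Type u} [CommRing R] (d : Derivation ℤ R R) :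
    ∃ d' : Derivation ℤ (Polynomial R) (Polynomial R),
      (∀ r, d' (Polynomial.C r) = Polynomial.C (d r)) ∧ d' Polynomial.X = 0 := by
  obtain ⟨d', hC, hX⟩ := exists_derivation_mvPolynomial (ι := PUnit.{u + 1}) d
  let e := MvPolynomial.uniqueAlgEquiv R PUnit.{u + 1}
  let L : Polynomial R →+ Polynomial R :=
    e.toAddEquiv.toAddMonoidHom.comp (d'.toLinearMap.toAddMonoidHom.comp e.symm.toAddEquiv.toAddMonoidHom)
  refine ⟨Derivation.mk' L.toIntLinearMap fun p q => ?_, fun r => ?_, ?_⟩
  · show e (d' (e.symm (p * q))) = p * e (d' (e.symm q)) + q * e (d' (e.symm p))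
    rw [map_mul, Derivation.leibniz, smul_eq_mul, smul_eq_mul, map_add, map_mul, map_mul, e.apply_symm_apply,
      e.apply_symm_apply]
  · show e (d' (e.symm (Polynomial.C r))) = _
    rw [show e.symm (Polynomial.C r) = MvPolynomial.C r from e.symm.commutes r, hC]
    exact e.commutes _
  · show e (d' (e.symm Polynomial.X)) = 0
    rw [show e.symm Polynomial.X = MvPolynomial.X default from e.injective (by simp [e]), hX, map_zero]

end Groth.Agent.GRing17
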