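import Groth.Agent.GRing17.AdicSmoothFlat
import Groth.Agent.S9259
import Groth.Agent.FlatAscent.IadicFibre

/-!
# Regularity from adic formal smoothness of all local maps
-/

universe u

open IsLocalRing
open scoped TensorProduct

namespace Groth.Agent.GRing17

/-- A map of Noetherian rings all of whose local maps are adically formally smooth is regular. -/
theorem isRegularHom_of_forall_adicSmooth {R Λ : Type u} [CommRing R] [CommRing Λ] [Algebra R Λ]
    [IsNoetherianRing R] [IsNoetherianRing Λ]
    (h : ∀ (q : Ideal Λ) [q.IsPrime],
      letI := (Localization.localRingHom (Ideal.comap (algebraMap R Λ) q) q (algebraMap R Λ) rfl).toAlgebra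
      CAlgX.IsAdicFormallySmooth (Localization.AtPrime (Ideal.comap (algebraMap R Λ) q))
        (Localization.AtPrime q) (maximalIdeal (Localization.AtPrime q))) :
    CAlg.IsRegularHom R Λ := by
  have hloc : ∀ (q : Ideal Λ) [q.IsPrime],
      letI := (Localization.localRingHom (Ideal.comap (algebraMap R Λ) q) q (algebraMap R Λ) rfl).toAlgebra
      Module.Flat (Localization.AtPrime (Ideal.comap (algebraMap R Λ) q)) (Localization.AtPrime q) ∧
      CAlg.IsGeometricallyRegular (maximalIdeal (Localization.AtPrime (Ideal.comap (algebraMap R Λ) q))).ResidueField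
        ((maximalIdeal (Localization.AtPrime (Ideal.comap (algebraMap R Λ) q))).Fiber (Localization.AtPrime q)) := by
    intro q _
    let _ := (Localization.localRingHom (Ideal.comap (algebraMap R Λ) q) q (algebraMap R Λ) rfl).toAlgebra
    have : IsLocalHom (algebraMap (Localization.AtPrime (Ideal.comap (algebraMap R Λ) q)) (Localization.AtPrime q)) :=
      Localization.isLocalHom_localRingHom _ _ _ _
    exact flat_and_geomRegular_of_adicSmooth (h q)
  have hflat : Module.Flat R Λ := by
    refine Module.flat_of_isLocalized_maximal Λ Λ (fun P _ => Localization.AtPrime P)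
      (fun P _ => Algebra.linearMap Λ (Localization.AtPrime P)) fun P hP => ?_
    let p := P.comap (algebraMap R Λ)
    let : Algebra (Localization.AtPrime p) (Localization.AtPrime P) :=
      (Localization.localRingHom p P (algebraMap R Λ) rfl).toAlgebra
    have : IsScalarTower R (Localization.AtPrime p) (Localization.AtPrime P) := .of_algebraMap_eq fun x => by
      rw [RingHom.algebraMap_toAlgebra, Localization.localRingHom_to_map, ← IsScalarTower.algebraMap_apply]
    exact (Module.flat_iff_of_isLocalization (Localization.AtPrime p) p.primeCompl _).1 (hloc P).1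
  refine ⟨hflat, fun p₀ _ => ?_⟩
  have h1 : CAlg.IsGeometricallyRegular p₀.ResidueField (p₀.Fiber Λ) := by
    intro k' _ _ hk
    let : Algebra R k' := ((algebraMap p₀.ResidueField k').comp (algebraMap R p₀.ResidueField)).toAlgebra
    have : IsScalarTower R p₀.ResidueField k' := .of_algebraMap_eq fun _ => rfl
    have : Algebra.EssFiniteType R k' := Algebra.EssFiniteType.comp R p₀.ResidueField k'
    have : IsNoetherianRing (k' ⊗[R] Λ) := by
      have := Algebra.EssFiniteType.isNoetherianRing Λ (Λ ⊗[R] k')
      exact isNoetherianRing_of_ringEquiv _ (Algebra.TensorProduct.comm R Λ k').toRingEquiv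
    refine FlatAscent.isRegularRing_transport
      (Algebra.TensorProduct.cancelBaseChange R p₀.ResidueField k' k' Λ).symm.toRingEquiv
      (isRegularRing_iff.mpr fun Q hQ => ?_)
    let q := Q.comap (Algebra.TensorProduct.includeRight : Λ →ₐ[R] k' ⊗[R] Λ).toRingHom
    have hker : ∀ x : R, algebraMap R k' x = 0 ↔ x ∈ q.comap (algebraMap R Λ) := fun x => by
      show _ ↔ (1 : k') ⊗ₜ[R] algebraMap R Λ x ∈ Q
      rw [Algebra.algebraMap_eq_smul_one (R := R) (A := Λ), TensorProduct.tmul_smul, ← Algebra.TensorProduct.one_def,
        ← Algebra.algebraMap_eq_smul_one, IsScalarTower.algebraMap_apply R k' (k' ⊗[R] Λ)]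
      refine ⟨fun hx => ?_, fun hx => ?_⟩
      · rw [hx, map_zero]
        exact zero_mem _
      · by_contra hne
        exact hQ.ne_top (Q.eq_top_of_isUnit_mem hx ((isUnit_iff_ne_zero.mpr hne).map _))
    let p := q.comap (algebraMap R Λ)
    let Rp := Localization.AtPrime p
    let D := Localization.AtPrime q
    let : Algebra Rp D := (Localization.localRingHom p q (algebraMap R Λ) rfl).toAlgebra
    have : IsScalarTower R Rp D := .of_algebraMap_eq fun x => by
      rw [RingHom.algebraMap_toAlgebra, Localization.localRingHom_to_map, ← IsScalarTower.algebraMap_apply]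
    let g : Rp →+* k' := IsLocalization.lift (M := p.primeCompl) (g := algebraMap R k') fun s => by
      refine isUnit_iff_ne_zero.mpr ?_
      rw [Ne, hker]
      exact s.2
    let : Algebra Rp k' := g.toAlgebra
    have : IsScalarTower R Rp k' := .of_algebraMap_eq fun x => (IsLocalization.lift_eq _ x).symm
    let m := maximalIdeal Rp
    have hg0 : ∀ x ∈ m, algebraMap Rp k' x = 0 := fun x hx => by
      obtain ⟨a, s, rfl⟩ := IsLocalization.exists_mk'_eq p.primeCompl x
      rw [IsLocalization.AtPrime.mk'_mem_maximal_iff Rp p] at hx
      show g _ = 0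
      rw [IsLocalization.lift_mk'_spec, mul_zero]
      exact (hker a).mpr hx
    let : Algebra m.ResidueField k' := (Ideal.ResidueField.lift m (algebraMap Rp k') hg0 fun x hx =>
      isUnit_iff_ne_zero.mpr fun h0 => by
        have hu : IsUnit x := by
          by_contra hu
          exact hx ((mem_maximalIdeal x).mpr hu)
        exact (hu.map (algebraMap Rp k')).ne_zero h0).toAlgebra
    have : IsScalarTower Rp m.ResidueField k' :=
      .of_algebraMap_eq fun x => (Ideal.ResidueField.lift_algebraMap ..).symm
    let : Algebra R m.ResidueField := ((algebraMap Rp m.ResidueField).comp (algebraMap R Rp)).toAlgebra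
    have : IsScalarTower R Rp m.ResidueField := .of_algebraMap_eq fun _ => rfl
    have : IsScalarTower R m.ResidueField k' := .of_algebraMap_eq fun x => by
      rw [IsScalarTower.algebraMap_apply R Rp m.ResidueField, ← IsScalarTower.algebraMap_apply Rp m.ResidueField k',
        ← IsScalarTower.algebraMap_apply]
    have : Algebra.EssFiniteType m.ResidueField k' := Algebra.EssFiniteType.of_comp R m.ResidueField k'
    have hgq := (hloc q).2
    have := FlatAscent.isNoetherianRing_of_geometricallyRegular hgq
    have hD : IsRegularRing (k' ⊗[Rp] D) := FlatAscent.isRegularRing_transport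
      (Algebra.TensorProduct.cancelBaseChange Rp m.ResidueField k' k' D).toRingEquiv
      (FlatAscent.isRegularRing_of_geometricallyRegular hgq k')
    have := IsLocalization.tensorProduct_compatibleSMul p.primeCompl Rp k' D
    have hD' : IsRegularRing (k' ⊗[R] D) := FlatAscent.isRegularRing_transport
      (Algebra.TensorProduct.equivOfCompatibleSMul R Rp Rp k' D).toRingEquiv hD
    let : Algebra (k' ⊗[R] Λ) (k' ⊗[R] D) :=
      (Algebra.TensorProduct.map (AlgHom.id k' k') (IsScalarTower.toAlgHom R Λ D)).toRingHom.toAlgebra
    have : IsScalarTower k' (k' ⊗[R] Λ) (k' ⊗[R] D) :=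
      .of_algebraMap_eq fun c => ((Algebra.TensorProduct.map (AlgHom.id k' k')
        (IsScalarTower.toAlgHom R Λ D)).commutes c).symm
    let M := q.primeCompl.map (Algebra.TensorProduct.includeRight (R := R) (A := k') (B := Λ))
    have : IsLocalization M (k' ⊗[R] D) :=
      IsLocalization.tensorProduct_tensorProduct_right (R := R) (S := k') q.primeCompl D
        (RingHom.ext fun c => by simp [RingHom.algebraMap_toAlgebra])
    have hdis : Disjoint (M : Set (k' ⊗[R] Λ)) Q := Set.disjoint_left.mpr fun x hx hxQ => by
      obtain ⟨s, hs, rfl⟩ := hx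
      exact hs hxQ
    have := IsLocalization.isPrime_of_isPrime_disjoint M (k' ⊗[R] D) Q hQ hdis
    have key : ∀ (P : Ideal (k' ⊗[R] Λ)) [P.IsPrime], P = Q → IsRegularLocalRing (Localization.AtPrime P) →
        IsRegularLocalRing (Localization.AtPrime Q) := by
      rintro P _ rfl h; exact h
    exact key _ (IsLocalization.under_map_of_isPrime_disjoint M (k' ⊗[R] D) hQ hdis)
      ((PP16Lib.isRegularLocalRing_atPrime_iff M
        (Q.map (algebraMap (k' ⊗[R] Λ) (k' ⊗[R] D)))).mpr inferInstance)
  exact ⟨FlatAscent.isNoetherianRing_of_geometricallyRegular h1, h1⟩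

end Groth.Agent.GRing17
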